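import Cfsg.Agent.Lib.FGStruct.Zassenhaus.Main
import Cfsg.Agent.Lib.Solvable.Frobenius
import Cfsg.Agent.Lib.Solvable.CoprimeFreeGroup
import Mathlib.GroupTheory.SemidirectProduct
import Mathlib.GroupTheory.FixedPointFree

/-!
Non-solvable groups acting fixed point freely, in particular non-solvable Frobenius complements,
have a fixed-point-free representation, hence a perfect residual `SL(2, 5)`.
-/

set_option autoImplicit false
set_option linter.style.haveILetI false

namespace Cfsg.Agent.Zassenhaus

universe u v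

variable {G : Type u} [Group G] [Finite G]

omit [Finite G] in
/-- A fixed-point-free linear action on a finite vector space gives a representation. -/
theorem Fpf.of_linear {ℓ : ℕ} [Fact ℓ.Prime] {V : Type v} [AddCommGroup V] [Module (ZMod ℓ) V]
    [Finite V] [Nontrivial V] (L : G →* Module.End (ZMod ℓ) V)
    (hfpf : ∀ g : G, g ≠ 1 → ∀ x : V, L g x = x → x = 0) : Fpf G := by
  haveI : Module.Finite (ZMod ℓ) V := Module.Finite.of_finite
  set n := Module.finrank (ZMod ℓ) V with hn
  let b := Module.finBasis (ZMod ℓ) V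
  let K := AlgebraicClosure (ZMod ℓ)
  let T : Module.End (ZMod ℓ) V →+* Module.End K (Fin n → K) :=
    (Matrix.toLinAlgEquiv' (R := K) (n := Fin n)).toRingEquiv.toRingHom.comp
      ((algebraMap (ZMod ℓ) K).mapMatrix.comp
        (LinearMap.toMatrixAlgEquiv b).toRingEquiv.toRingHom)
  refine ⟨n, K, inferInstance, inferInstance, T.toMonoidHom.comp L,
    Module.finrank_pos, fun g hg w hw => ?_⟩
  have hinj : Function.Injective ⇑(L g - 1 : Module.End (ZMod ℓ) V) := by
    refine (injective_iff_map_eq_zero _).2 fun x hx => ?_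
    rw [LinearMap.sub_apply, Module.End.one_apply, sub_eq_zero] at hx
    exact hfpf g hg x hx
  have hu : IsUnit (L g - 1 : Module.End (ZMod ℓ) V) :=
    (Module.End.isUnit_iff _).2 (Finite.injective_iff_bijective.1 hinj)
  have hu' := (Module.End.isUnit_iff _).1 (hu.map T)
  refine hu'.1 ?_
  rw [map_sub, map_one, map_zero, LinearMap.sub_apply, Module.End.one_apply, sub_eq_zero]
  exact hw

omit [Finite G] in
/-- A fixed-point-free additive action on a group of prime exponent gives a representation. -/
theorem Fpf.of_additive {ℓ : ℕ} [Fact ℓ.Prime] {V : Type v} [AddCommGroup V] [Finite V]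
    [Nontrivial V] (hexp : ∀ x : V, ℓ • x = 0) (φ : G → (V →+ V))
    (h1 : ∀ x, φ 1 x = x) (hmul : ∀ a b x, φ (a * b) x = φ a (φ b x))
    (hfpf : ∀ g : G, g ≠ 1 → ∀ x : V, φ g x = x → x = 0) : Fpf G := by
  letI : Module (ZMod ℓ) V := AddCommGroup.zmodModule hexp
  exact Fpf.of_linear
    { toFun := fun g => ((φ g).toZModLinearMap ℓ : Module.End (ZMod ℓ) V)
      map_one' := LinearMap.ext h1
      map_mul' := fun a b => LinearMap.ext (hmul a b) } hfpf

omit [Finite G] in
/-- A fixed-point-free action on an elementary abelian group gives a representation. -/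
theorem Fpf.of_elementary {E : Type v} [CommGroup E] [Finite E] [Nontrivial E] {ℓ : ℕ}
    [Fact ℓ.Prime] (hexp : ∀ e : E, e ^ ℓ = 1) (φ : G →* MulAut E)
    (hfpf : ∀ g : G, g ≠ 1 → ∀ e : E, φ g e = e → e = 1) : Fpf G :=
  Fpf.of_additive (ℓ := ℓ) (V := Additive E) (fun x => congrArg Additive.ofMul (hexp (Additive.toMul x)))
    (fun g => MonoidHom.toAdditive (φ g).toMonoidHom)
    (fun x => congrArg Additive.ofMul (DFunLike.congr_fun (map_one φ) (Additive.toMul x)))
    (fun a b x => congrArg Additive.ofMul (DFunLike.congr_fun (map_mul φ a b) (Additive.toMul x)))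
    fun g hg x hx => congrArg Additive.ofMul (hfpf g hg (Additive.toMul x) (congrArg Additive.toMul hx))

omit [Finite G] in
/-- A fixed-point-free action on an abelian group gives a representation. -/
theorem Fpf.of_commGroup {A : Type v} [CommGroup A] [Finite A] [Nontrivial A] (φ : G →* MulAut A)
    (hfpf : ∀ g : G, g ≠ 1 → ∀ a : A, φ g a = a → a = 1) : Fpf G := by
  obtain ⟨ℓ, hℓ, hd⟩ := Nat.exists_prime_and_dvd (Finite.one_lt_card (α := A)).ne'
  haveI := Fact.mk hℓ
  obtain ⟨a, ha⟩ := exists_prime_orderOf_dvd_card' ℓ hd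
  set E := (powMonoidHom ℓ : A →* A).ker with hE
  have hmem : ∀ x : A, x ∈ E ↔ x ^ ℓ = 1 := fun x => MonoidHom.mem_ker
  haveI : Nontrivial E := ⟨⟨⟨a, (hmem a).2 (ha ▸ pow_orderOf_eq_one a)⟩, 1, fun h => by
    rw [show a = 1 from congrArg Subtype.val h, orderOf_one] at ha
    exact hℓ.ne_one ha.symm⟩⟩
  have hinv : ∀ (α : MulAut A) (x : A), x ∈ E → α x ∈ E := fun α x hx => by
    rw [hmem] at hx ⊢
    rw [← map_pow, hx, map_one]
  let ψ : G →* MulAut E := MonoidHom.mk'
    (fun g => MulEquiv.ofBijective (((φ g).toMonoidHom.comp E.subtype).codRestrict E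
      fun x => hinv _ _ x.2)
      (Finite.injective_iff_bijective.1 fun x y h =>
        Subtype.ext ((φ g).injective (congrArg Subtype.val h))))
    fun g h => MulEquiv.ext fun x => Subtype.ext (by
      show φ (g * h) (x : A) = φ g (φ h (x : A))
      rw [map_mul, MulAut.mul_apply])
  exact Fpf.of_elementary (E := E) (ℓ := ℓ) (fun e => Subtype.ext ((hmem e.1).1 e.2)) ψ
    fun g hg e he => Subtype.ext (hfpf g hg e (congrArg Subtype.val he))

/-- A non-solvable group acting fixed point freely has a representation of this kind. -/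
theorem Fpf.of_action {A : Type v} [Group A] [Finite A] [Nontrivial A] (φ : G →* MulAut A)
    (hfpf : ∀ g : G, g ≠ 1 → ∀ a : A, φ g a = a → a = 1) (hns : ¬ Group.IsSolvable G) : Fpf G := by
  have heven : 2 ∣ Nat.card G := by
    by_contra h2
    let N := (SemidirectProduct.inl : A →* A ⋊[φ] G).range
    let C := (SemidirectProduct.inr : G →* A ⋊[φ] G).range
    haveI : Finite (A ⋊[φ] G) := Finite.of_equiv _ SemidirectProduct.equivProd.symm
    haveI hN : N.Normal := by
      have : N = (SemidirectProduct.rightHom : A ⋊[φ] G →* G).ker :=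
        SemidirectProduct.range_inl_eq_ker_rightHom
      rw [this]; infer_instance
    have hN1 : N ≠ ⊥ := by
      obtain ⟨a, ha⟩ := exists_ne (1 : A)
      intro h
      have : SemidirectProduct.inl a ∈ N := ⟨a, rfl⟩
      rw [h, Subgroup.mem_bot] at this
      exact ha (SemidirectProduct.inl_injective (by rw [this, map_one]))
    have hC : ∀ c ∈ C, c ≠ 1 → N ⊓ Subgroup.centralizer {c} = ⊥ := by
      rintro _ ⟨g, rfl⟩ hg
      rw [eq_bot_iff]
      rintro _ ⟨⟨a, rfl⟩, hc⟩
      have h1 : SemidirectProduct.inr g * SemidirectProduct.inl a * (SemidirectProduct.inr g)⁻¹ =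
          (SemidirectProduct.inl a : A ⋊[φ] G) := by
        rw [← Subgroup.mem_centralizer_singleton_iff.1 hc, mul_inv_cancel_right]
      rw [← map_inv, ← SemidirectProduct.inl_aut] at h1
      have := hfpf g (fun h => hg (by rw [h, map_one])) a (SemidirectProduct.inl_injective h1)
      rw [Subgroup.mem_bot, this, map_one]
    have hab := FpfStruct.abCyclic hN1 (Subgroup.le_normalizer_of_normal (K := C) (H := N)) hC
    let e : G ≃* C := MonoidHom.ofInjective SemidirectProduct.inr_injective
    haveI : IsZGroup C := ⟨fun p hp P => by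
      haveI := Fact.mk hp
      refine (FpfStruct.cyclic_or_quaternion P.isPGroup' (hab.subgroup P)).resolve_right ?_
      rintro ⟨rfl, n, ⟨f⟩⟩
      apply h2
      haveI : NeZero (2 ^ n) := ⟨(pow_pos two_pos n).ne'⟩
      have hd := Subgroup.card_subgroup_dvd_card (P : Subgroup C)
      rw [Nat.card_congr f.toEquiv, Nat.card_eq_fintype_card, QuaternionGroup.card,
        ← Nat.card_congr e.toEquiv] at hd
      exact (dvd_trans ⟨2 * 2 ^ n, by ring⟩ hd)⟩
    exact hns (solvable_of_surjective (f := e.symm.toMonoidHom) e.symm.surjective)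
  haveI : Fact (Nat.Prime 2) := ⟨Nat.prime_two⟩
  obtain ⟨s, hs⟩ := exists_prime_orderOf_dvd_card' 2 heven
  have hs1 : s ≠ 1 := fun h => by rw [h, orderOf_one] at hs; norm_num at hs
  have hff : MonoidHom.FixedPointFree (φ s) := fun a ha => hfpf s hs1 a ha
  have hinv : Function.Involutive (φ s) := fun a => by
    rw [← MulAut.mul_apply, ← map_mul, ← pow_two, ← hs, pow_orderOf_eq_one, map_one, MulAut.one_apply]
  letI : CommGroup A :=
    { (inferInstance : Group A) with
      mul_comm := fun a b => (MonoidHom.FixedPointFree.commute_all_of_involutive hff hinv a b).eq }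
  exact Fpf.of_commGroup φ hfpf

/-- Non-solvable Frobenius complements have a representation of this kind. -/
theorem Fpf.of_frobeniusComplement {L : Type v} [Group L] [Finite L] {H : Subgroup L}
    (hH : Cfsg.IsFrobeniusComplement H) (e : G ≃* H) (hns : ¬ Group.IsSolvable G) : Fpf G := by
  obtain ⟨N, -, hNn, hN1, -, hfpf, -⟩ := FrobeniusStruct.exists_kernel hH
  haveI := hNn
  haveI : Nontrivial N := (Subgroup.nontrivial_iff_ne_bot N).2 hN1
  refine Fpf.of_action ((MulAut.conjNormal (H := N)).comp (H.subtype.comp e.toMonoidHom)) ?_ hns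
  intro g hg a ha
  have h1 : (e g : L) * a * (e g : L)⁻¹ = a := congrArg Subtype.val ha
  have h2 : (a : L) ∈ N ⊓ Subgroup.centralizer {(e g : L)} :=
    ⟨a.2, Subgroup.mem_centralizer_singleton_iff.2 (mul_inv_eq_iff_eq_mul.1 h1).symm⟩
  rw [hfpf _ (e g).2 (fun h => hg (e.injective (by rw [map_one]; exact Subtype.ext h))),
    Subgroup.mem_bot] at h2
  exact Subtype.ext h2

/-- The perfect residual of a non-solvable group of this kind. -/
theorem Fpf.exists_residual (hG : Fpf G) (hns : ¬ Group.IsSolvable G) :
    ∃ n, derivedSeries G (n + 1) = derivedSeries G n ∧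
      Nonempty (derivedSeries G n ≃* Matrix.SpecialLinearGroup (Fin 2) (ZMod 5)) := by
  obtain ⟨n, hn⟩ : ∃ n, derivedSeries G (n + 1) = derivedSeries G n := by
    by_contra hno
    push Not at hno
    have h : ∀ n, Nat.card (derivedSeries G n) + n ≤ Nat.card G := by
      intro n
      induction n with
      | zero => simpa using (Subgroup.card_le_card_group (derivedSeries G 0))
      | succ n ih =>
        have hle : derivedSeries G (n + 1) ≤ derivedSeries G n := derivedSeries_antitone G n.le_succ
        have hlt : Nat.card (derivedSeries G (n + 1)) < Nat.card (derivedSeries G n) :=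
          lt_of_le_of_ne (Subgroup.card_le_of_le hle) fun h =>
            hno n (Subgroup.eq_of_le_of_card_ge hle h.ge)
        omega
    have := h (Nat.card G + 1)
    omega
  set K := derivedSeries G n with hK
  haveI : Nontrivial K := (Subgroup.nontrivial_iff_ne_bot K).2 fun h =>
    hns ((Group.isSolvable_def G).2 ⟨n, h⟩)
  have hperf : commutator K = ⊤ := by
    apply Subgroup.map_injective K.subtype_injective
    rw [Subgroup.map_subtype_commutator, ← MonoidHom.range_eq_map, Subgroup.range_subtype]
    rw [derivedSeries_succ] at hn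
    exact hn
  exact ⟨n, hn, (hG.subgroup K).perfect_iso hperf⟩

end Cfsg.Agent.Zassenhaus
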