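import Cfsg.Agent.Lib.FGStruct.AbelianCyclic
import Cfsg.Agent.Lib.Solvable.Fitting
import Cfsg.Agent.Lib.Char.Burnside

/-!
The automorphism group of a finite solvable group all whose abelian subgroups are cyclic is solvable.
-/

set_option autoImplicit false
set_option linter.style.haveILetI false

namespace Cfsg.Agent.AutSolvable

universe u

variable {G : Type u} [Group G]

theorem isSolvable_pi {ι : Type*} [Finite ι] {A : ι → Type*} [∀ i, Group (A i)]
    (h : ∀ i, Group.IsSolvable (A i)) : Group.IsSolvable (∀ i, A i) := by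
  classical
  choose n hn using fun i => (Group.isSolvable_def (A i)).1 (h i)
  haveI := Fintype.ofFinite ι
  refine (Group.isSolvable_def _).2 ⟨Finset.univ.sup n, eq_bot_iff.2 fun x hx => ?_⟩
  rw [Subgroup.mem_bot]
  funext i
  have h1 : x i ∈ derivedSeries (A i) (n i) := derivedSeries_antitone (A i)
    (Finset.le_sup (f := n) (Finset.mem_univ i))
    (map_derivedSeries_le_derivedSeries (Pi.evalMonoidHom A i) _ ⟨x, hx, rfl⟩)
  rw [hn i, Subgroup.mem_bot] at h1
  exact h1

/-- Restriction of automorphisms to a characteristic subgroup. -/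
noncomputable def restrict [Finite G] (K : Subgroup G) [K.Characteristic] : MulAut G →* MulAut K :=
  MonoidHom.mk'
    (fun σ => MulEquiv.ofBijective ((σ.toMonoidHom.comp K.subtype).codRestrict K fun x =>
        (Subgroup.characteristic_iff_map_eq.1 inferInstance σ).le ⟨x, x.2, rfl⟩)
      (Finite.injective_iff_bijective.1 fun x y h =>
        Subtype.ext (σ.injective (congrArg Subtype.val h))))
    fun σ τ => MulEquiv.ext fun x => Subtype.ext rfl

theorem restrict_apply [Finite G] (K : Subgroup G) [K.Characteristic] (σ : MulAut G) (x : K) :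
    ((restrict K σ x : K) : G) = σ x := rfl

/-- The automorphism group of a prime-power group all whose abelian subgroups are cyclic is
solvable. -/
theorem mulAut_pGroup [Finite G] (hab : AbCyc.AbCyclic G) {p : ℕ} [hp : Fact p.Prime]
    (hP : IsPGroup p G) : Group.IsSolvable (MulAut G) := by
  classical
  rcases AbCyc.structure_of_pGroup hab hP with hc | ⟨rfl, -⟩
  · haveI := hc
    exact Group.isSolvable_of_isSolvable_injective (f := (IsCyclic.mulAutMulEquiv G).toMonoidHom)
      (IsCyclic.mulAutMulEquiv G).injective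
  set n := Nat.card (MulAut G) with hn
  have hn0 : n ≠ 0 := Nat.card_pos.ne'
  refine Char.isSolvable_of_card_pq 2 3 Nat.prime_two Nat.prime_three n (MulAut G) rfl
    ⟨n.factorization 2, n.factorization 3, ?_⟩
  refine Nat.eq_of_factorization_eq hn0 (by positivity) fun s => ?_
  rw [Nat.factorization_mul (by positivity) (by positivity), Finsupp.add_apply,
    Nat.prime_two.factorization_pow, Nat.prime_three.factorization_pow]
  rcases eq_or_ne s 2 with rfl | h2
  · simp
  rcases eq_or_ne s 3 with rfl | h3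
  · simp
  rw [Finsupp.single_eq_of_ne (by omega), Finsupp.single_eq_of_ne (by omega), Nat.add_zero]
  by_contra hs
  have hsp : s.Prime := by
    by_contra h; exact hs (Nat.factorization_eq_zero_of_not_prime n h)
  haveI := Fact.mk hsp
  have hd : s ∣ n := Nat.dvd_of_factorization_pos hs
  obtain ⟨σ, hσ⟩ := exists_prime_orderOf_dvd_card' (G := MulAut G) s hd
  have hs4 : s ≠ 4 := by rintro rfl; norm_num at hsp
  have hs2 := hsp.two_le
  have h5 : 5 ≤ s := by omega
  have := AbCyc.aut_trivial hab hP hsp h5 (by omega) σ (k := 1)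
    (by rw [pow_one, ← hσ, pow_orderOf_eq_one])
  rw [this, orderOf_one] at hσ
  omega

/-- The automorphism group of a solvable group all whose abelian subgroups are cyclic is
solvable. -/
theorem mulAut [Finite G] [Group.IsSolvable G] (hab : AbCyc.AbCyclic G) :
    Group.IsSolvable (MulAut G) := by
  classical
  let ι := {p : Fin (Nat.card G + 1) // (p : ℕ).Prime}
  haveI : ∀ i : ι, (Cfsg.pCore (i.1 : ℕ) G).Characteristic := fun i =>
    FittingCores.pCore_characteristic _
  let Φ : MulAut G →* ∀ i : ι, MulAut (Cfsg.pCore (i.1 : ℕ) G) :=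
    MonoidHom.mk' (fun σ i => restrict (Cfsg.pCore (i.1 : ℕ) G) σ)
      fun σ τ => funext fun i => map_mul _ σ τ
  haveI : Group.IsSolvable (∀ i : ι, MulAut (Cfsg.pCore (i.1 : ℕ) G)) :=
    isSolvable_pi fun i => by
      haveI := Fact.mk i.2
      exact mulAut_pGroup (hab.subgroup _) (FittingCores.pCore_isPGroup _)
  set F := Cfsg.fittingSubgroup G with hF
  haveI hFn : F.Normal := FittingCores.fitting_normal
  have hfix : ∀ σ : Φ.ker, ∀ f ∈ F, (σ : MulAut G) f = f := by
    intro σ
    suffices h : F ≤ MonoidHom.eqLocus (σ : MulAut G).toMonoidHom (MonoidHom.id G) from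
      fun f hf => h hf
    rw [hF, FittingCores.fitting_eq_iSup_pCore]
    refine iSup_le fun p f hf => ?_
    by_cases hd : (p : ℕ) ∣ Nat.card G
    · have h1 : Φ (σ : MulAut G) = 1 := σ.2
      exact congrArg Subtype.val (DFunLike.congr_fun
        (congrFun h1 ⟨⟨(p : ℕ), Nat.lt_succ_of_le (Nat.le_of_dvd Nat.card_pos hd)⟩, p.2⟩) ⟨f, hf⟩)
    · haveI := Fact.mk p.2
      obtain ⟨k, hk⟩ := IsPGroup.iff_card.1 (FittingCores.pCore_isPGroup (G := G) (p : ℕ))
      rcases k with _ | k
      · rw [pow_zero, Subgroup.card_eq_one] at hk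
        rw [hk, Subgroup.mem_bot] at hf
        rw [hf]
        exact map_one _
      · exact absurd (dvd_trans (hk ▸ dvd_pow_self _ k.succ_ne_zero)
          (Subgroup.card_subgroup_dvd_card _)) hd
  have hc : ∀ (σ : Φ.ker) (h : G),
      (σ : MulAut G) h * h⁻¹ ∈ Subgroup.centralizer (F : Set G) := by
    intro σ h
    rw [Subgroup.mem_centralizer_iff]
    intro f hf
    have h1 : h⁻¹ * f * h ∈ F := by simpa using hFn.conj_mem f hf h⁻¹
    have h2 := hfix σ f hf
    rw [show f = h * (h⁻¹ * f * h) * h⁻¹ by group, map_mul, map_mul, map_inv, hfix σ _ h1,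
      show h * (h⁻¹ * f * h) * h⁻¹ = f by group] at h2
    refine (mul_inv_eq_iff_eq_mul.1 ?_).symm
    rw [show (σ : MulAut G) h * h⁻¹ * f * ((σ : MulAut G) h * h⁻¹)⁻¹ =
      (σ : MulAut G) h * (h⁻¹ * f * h) * ((σ : MulAut G) h)⁻¹ by group]
    exact h2
  have hcF : ∀ (σ : Φ.ker) (h : G), (σ : MulAut G) h * h⁻¹ ∈ F := fun σ h =>
    FittingCores.centralizer_fitting_le (hc σ h)
  haveI : Group.IsSolvable Φ.ker := Group.isSolvable_of_comm fun σ τ => by
    refine Subtype.ext (MulEquiv.ext fun h => ?_)
    have hab' : ∀ a b : Φ.ker, ((a * b : Φ.ker) : MulAut G) h =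
        (b : MulAut G) h * h⁻¹ * ((a : MulAut G) h * h⁻¹) * h := by
      intro a b
      rw [Subgroup.coe_mul, MulAut.mul_apply]
      conv_lhs => rw [show (b : MulAut G) h = (b : MulAut G) h * h⁻¹ * h by group, map_mul,
        hfix a _ (hcF b h)]
      group
    rw [hab', hab']
    congr 1
    exact Subgroup.mem_centralizer_iff.1 (hc σ h) _ (hcF τ h)
  exact Group.isSolvable_of_ker_le_range Φ.ker.subtype Φ (by rw [Subgroup.range_subtype])

end Cfsg.Agent.AutSolvable
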