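import Cfsg.Agent.Lib.FGStruct.Zassenhaus.Derivation

/-!
Checked data: groups generated by elements of order three any two of which generate a quotient of
`A₄` or `A₅`.
-/

set_option autoImplicit false
set_option linter.style.longLine false
set_option maxRecDepth 8000

namespace Cfsg.Agent.Zassenhaus

open Cfsg.Agent.TableCert

/-- The relator `(pq)²`. -/
def lW (p q : List ℕ) : List (List ℕ) := [powW 2 (p ++ q)]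

/-- The relator `(pq⁻¹)²`. -/
def mW (p q : List ℕ) : List (List ℕ) := [powW 2 (p ++ invW q)]

/-- The relators of the icosahedral pairs. -/
def fW (p q : List ℕ) : List (List ℕ) :=
  [powW 5 (p ++ q), powW 5 (p ++ invW q), powW 2 (p ++ q ++ p ++ invW q),
    powW 2 (p ++ invW q ++ p ++ q)]

/-- The three rotations of the third generator. -/
def r0 : List ℕ := [4]
/-- The three rotations of the third generator. -/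
def r1 : List ℕ := [0, 4, 1]
/-- The three rotations of the third generator. -/
def r2 : List ℕ := [1, 4, 0]

/-- Two linked generators. -/
def baseA : List (List ℕ) := [powW 3 [0], powW 3 [2]] ++ lW [0] [2]

/-- Two generators linked with the first. -/
def base3 : List (List ℕ) := [powW 3 [0], powW 3 [2], powW 3 [4]] ++ lW [0] [2] ++ lW [0] [4]

/-- A triangle and a generator linked with two of its corners. -/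
def base4 : List (List ℕ) :=
  [powW 3 [0], powW 3 [2], powW 3 [4], powW 3 [6]] ++ lW [0] [2] ++ lW [0] [4] ++ lW [2] [4] ++
    lW [0] [6] ++ lW [2] [6]

/-- An icosahedral pair with two conjugates. -/
def baseG : List (List ℕ) :=
  [powW 3 [0], powW 3 [2], [5, 2, 0, 3], [7, 3, 0, 2]] ++ fW [0] [2]

def certA : TableCert.Cert where
  n := 4
  tab := [[0, 2, 3, 1], [0, 3, 1, 2], [1, 2, 0, 3], [2, 0, 1, 3]]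
  tree := [(0, 2), (0, 3), (1, 1)]
  rels := baseA
  sub := [0]
  steps := [(0, 1, 1), (0, 2, 2), (1, 0, 1), (2, 2, 1)]

def certK : TableCert.Cert where
  n := 20
  tab := [[0, 2, 5, 4, 10, 1, 14, 16, 7, 18, 3, 19, 11, 9, 15, 6, 8, 17, 13, 12], [0, 5, 1, 10, 3, 2,
    15, 8, 16, 13, 4, 12, 19, 18, 6, 14, 7, 17, 9, 11], [1, 2, 0, 9, 12, 5, 4, 17, 7, 11, 15, 3,
    6, 14, 19, 18, 16, 8, 10, 13], [2, 0, 1, 11, 6, 5, 12, 8, 17, 3, 18, 9, 4, 19, 13, 10, 16, 7,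
    15, 14], [3, 6, 8, 4, 0, 13, 7, 1, 9, 2, 10, 17, 11, 14, 5, 18, 15, 12, 16, 19], [4, 7, 9, 0,
    3, 14, 1, 6, 2, 8, 10, 12, 17, 5, 13, 16, 18, 11, 15, 19]]
  tree := [(0, 2), (0, 3), (0, 4), (0, 5), (1, 1), (1, 4), (1, 5), (2, 4), (2, 5), (3, 1), (3, 3), (4,
    2), (5, 4), (5, 5), (6, 1), (7, 0), (7, 2), (9, 0), (11, 0)]
  rels := base3 ++ lW [2] [4]
  sub := [0]
  steps := [(0, 1, 1), (0, 2, 1), (1, 2, 1), (2, 2, 1), (5, 2, 1), (0, 3, 2), (0, 4, 2), (1, 4, 2), (5,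
    4, 2), (7, 4, 1), (0, 5, 2), (1, 5, 2), (2, 5, 2), (4, 5, 1), (1, 0, 1), (3, 0, 1), (6, 0,
    1), (7, 0, 1), (3, 1, 1), (4, 1, 1), (7, 1, 1), (2, 3, 1), (3, 3, 2), (4, 3, 1), (7, 3, 1),
    (8, 3, 2), (9, 3, 1), (2, 4, 2), (4, 4, 1), (9, 4, 1), (5, 5, 2), (7, 5, 1), (9, 5, 1), (10,
    5, 1), (15, 5, 0), (9, 0, 1), (11, 0, 1), (6, 3, 1), (11, 3, 1), (11, 4, 1)]

def certMMM1 : TableCert.Cert where
  n := 48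
  tab := [[1, 2, 0, 12, 18, 14, 23, 4, 27, 6, 31, 8, 15, 10, 21, 3, 40, 42, 7, 26, 37, 5, 46, 9, 33,
    44, 45, 11, 34, 22, 39, 13, 16, 47, 41, 17, 30, 43, 25, 36, 32, 28, 35, 20, 38, 19, 29, 24],
    [2, 0, 1, 15, 7, 21, 9, 18, 11, 23, 13, 27, 3, 31, 5, 12, 32, 35, 4, 45, 43, 14, 29, 6, 47,
    38, 19, 8, 41, 46, 36, 10, 40, 24, 28, 42, 39, 20, 44, 30, 16, 34, 17, 37, 25, 26, 22, 33],
    [3, 7, 11, 4, 0, 22, 19, 8, 1, 30, 28, 12, 2, 37, 35, 27, 41, 5, 15, 24, 16, 44, 17, 47, 6,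
    42, 9, 18, 32, 25, 26, 40, 10, 45, 13, 38, 33, 34, 14, 23, 43, 20, 29, 31, 46, 36, 21, 39],
    [4, 8, 12, 0, 3, 17, 24, 1, 7, 26, 32, 2, 11, 34, 38, 18, 20, 22, 27, 6, 41, 46, 5, 39, 19,
    29, 30, 15, 10, 42, 9, 43, 28, 36, 37, 14, 45, 13, 35, 47, 31, 16, 25, 40, 21, 33, 44, 23],
    [5, 9, 13, 16, 19, 6, 0, 25, 28, 10, 1, 33, 35, 14, 2, 39, 17, 3, 43, 20, 4, 31, 41, 21, 22,
    26, 7, 46, 29, 8, 42, 23, 30, 34, 11, 36, 12, 45, 37, 40, 15, 24, 32, 44, 18, 38, 47, 27],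
    [6, 10, 14, 17, 20, 0, 5, 26, 29, 1, 9, 34, 36, 2, 13, 40, 3, 16, 44, 4, 19, 23, 24, 31, 41,
    7, 25, 47, 8, 28, 32, 21, 42, 11, 33, 12, 35, 38, 45, 15, 39, 22, 30, 18, 43, 37, 27, 46]]
  tree := [(0, 0), (0, 1), (0, 2), (0, 3), (0, 4), (0, 5), (1, 2), (1, 3), (1, 4), (1, 5), (2, 2), (2,
    3), (2, 4), (2, 5), (3, 1), (3, 4), (3, 5), (4, 0), (4, 4), (4, 5), (5, 1), (5, 2), (6, 0),
    (6, 3), (7, 4), (7, 5), (8, 0), (8, 4), (8, 5), (9, 2), (10, 0), (10, 3), (11, 4), (11, 5),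
    (12, 4), (12, 5), (13, 2), (14, 3), (15, 4), (15, 5), (16, 2), (17, 0), (18, 4), (18, 5),
    (19, 1), (21, 3), (23, 2)]
  rels := base3 ++ mW [2] r0 ++ mW [2] r1 ++ mW [2] r2
  sub := []
  steps := [(0, 0, 1), (0, 1, 1), (1, 1, 1), (2, 1, 1), (0, 2, 1), (1, 2, 1), (2, 2, 1), (3, 2, 1), (4,
    2, 1), (7, 2, 1), (8, 2, 1), (11, 2, 1), (12, 2, 1), (15, 2, 1), (18, 2, 1), (0, 3, 2), (1,
    3, 2), (2, 3, 2), (4, 3, 1), (6, 3, 2), (21, 3, 2), (0, 4, 2), (1, 4, 2), (2, 4, 2), (3, 4,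
    2), (4, 4, 2), (6, 4, 1), (7, 4, 2), (11, 4, 2), (15, 4, 2), (0, 5, 2), (1, 5, 2), (2, 5, 2),
    (3, 5, 2), (4, 5, 2), (5, 5, 1), (7, 5, 2), (8, 5, 2), (9, 5, 1), (11, 5, 2), (12, 5, 2),
    (13, 5, 1), (18, 5, 2), (23, 5, 1), (2, 6, 3), (4, 6, 5), (5, 6, 2), (0, 7, 3), (8, 7, 5),
    (12, 7, 4), (3, 0, 1), (4, 0, 1), (5, 0, 1), (6, 0, 1), (8, 0, 1), (10, 0, 1), (16, 0, 2),
    (17, 0, 1), (19, 0, 1), (20, 0, 0), (22, 0, 2), (24, 0, 0), (5, 1, 1), (6, 1, 1), (9, 1, 1),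
    (10, 1, 1), (13, 1, 1), (14, 1, 1), (16, 1, 1), (31, 1, 2), (27, 2, 2), (8, 3, 1), (12, 3,
    1), (17, 3, 1), (20, 3, 2), (24, 3, 1), (32, 3, 2), (10, 4, 1), (12, 4, 2), (14, 4, 1), (17,
    4, 1), (18, 4, 2), (20, 4, 1), (24, 4, 3), (29, 4, 1), (30, 4, 0), (37, 4, 2), (15, 5, 2),
    (21, 5, 0), (27, 5, 2), (31, 5, 2), (3, 6, 4), (6, 6, 3), (21, 6, 2), (3, 7, 4), (9, 7, 1),
    (14, 7, 2)]
def dMMF : Deriv where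
  unit := 6
  tree := [(0, 4), (1, 0), (1, 1), (3, 5), (4, 0), (5, 2), (6, 1), (7, 4), (8, 0), (2, 0)]
  rels := [[4, 4, 4, 6], [0, 4, 0, 4, 6], [2, 5, 2, 5, 6], [2, 0, 5, 1, 2, 0, 5, 1, 6], [2, 1, 4, 0, 2,
    1, 5, 0, 2, 1, 4, 0, 2, 1, 5, 0, 6], [1, 0, 6], [0, 1, 6], [3, 2, 6], [5, 4, 6], [2, 6, 2,
    2], [2, 5, 6, 2, 5], [0, 0, 6, 0], [5, 4]]
  sub := [0, 2]
  steps := [(2, 1, 3, [(1, 1), (5, 0), (1, 0)]), (2, 2, 2, [(4, 0), (3, 0), (4, 1)]), (9, 4, 12, [(1, 8),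
    (5, 7), (0, 6), (3, 5), (1, 4), (4, 3), (0, 1), (3, 2), (1, 1), (5, 0), (0, 0), (3, 0), (1,
    0), (4, 1), (0, 2)]), (1, 3, 4, [(0, 2), (4, 0), (1, 0), (3, 0), (0, 0), (4, 1), (1, 3)]),
    (1, 0, 1, [(5, 0), (5, 2)]), (3, 9, 1, [(3, 1), (3, 2), (3, 9)]), (4, 10, 2, [(4, 3), (3, 1),
    (4, 2), (3, 9)]), (1, 5, 2, [(1, 3), (6, 9), (6, 4), (0, 5)]), (3, 7, 2, [(3, 1), (6, 5), (2,
    6)]), (8, 6, 2, [(0, 9), (6, 3), (6, 6), (1, 7)]), (10, 11, 2, [(1, 2), (1, 1), (1, 3)]), (8,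
    6, 2, [(0, 9), (6, 3), (6, 10), (1, 2)]), (0, 8, 2, [(5, 2), (6, 8), (6, 7), (4, 8)]), (0, 6,
    2, [(0, 0), (6, 8), (6, 2), (1, 1)]), (0, 12, 1, [(4, 1), (6, 0)])]

def dMFM : Deriv where
  unit := 6
  tree := [(0, 5), (1, 2), (2, 1), (1, 1), (4, 2), (5, 0), (6, 4), (7, 1), (8, 2), (9, 0), (10, 5), (11,
    1)]
  rels := [[4, 4, 4, 6], [2, 5, 2, 5, 6], [2, 0, 5, 1, 2, 0, 4, 1, 2, 0, 5, 1, 2, 0, 4, 1, 6], [2, 1, 5,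
    0, 2, 1, 5, 0, 6], [1, 0, 6], [0, 1, 6], [2, 3, 6], [4, 5, 6], [0, 4, 6, 0, 4], [0, 6, 0, 0],
    [5, 4]]
  sub := [0, 2]
  steps := [(2, 1, 3, [(3, 1), (4, 0), (3, 0)]), (12, 2, 12, [(0, 11), (4, 10), (1, 9), (3, 8), (0, 7),
    (5, 6), (1, 5), (3, 4), (0, 1), (4, 0), (1, 0), (3, 0), (0, 0), (5, 1), (1, 4)]), (2, 8, 2,
    [(5, 0), (1, 0), (5, 1), (1, 4)]), (1, 6, 2, [(2, 2), (6, 4), (3, 12)]), (11, 3, 4, [(1, 12),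
    (6, 1), (4, 0), (0, 0), (3, 0), (1, 0), (4, 2), (6, 4), (0, 1)]), (2, 0, 1, [(5, 0), (5,
    1)]), (11, 9, 1, [(1, 12), (6, 1), (1, 4), (6, 2), (1, 3)]), (10, 8, 2, [(5, 11), (1, 12),
    (6, 1), (5, 2), (1, 3)]), (12, 5, 2, [(0, 11), (6, 3), (6, 10), (1, 9)]), (11, 6, 2, [(2, 1),
    (6, 12), (6, 9), (3, 8)]), (2, 4, 2, [(1, 3), (6, 11), (6, 8), (0, 7)]), (0, 7, 2, [(4, 2),
    (6, 7), (5, 6)]), (0, 5, 2, [(0, 0), (6, 6), (1, 5)]), (0, 6, 2, [(2, 0), (6, 5), (3, 4)]),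
    (0, 10, 1, [(4, 2), (6, 4), (6, 0)])]

def dFMM : Deriv where
  unit := 6
  tree := [(0, 5), (1, 2), (2, 4), (3, 2), (4, 5), (0, 4), (6, 2)]
  rels := [[4, 4, 4, 6], [0, 4, 0, 4, 6], [2, 5, 2, 4, 2, 5, 2, 4, 6], [2, 0, 5, 1, 2, 0, 5, 1, 6], [2,
    1, 5, 0, 2, 1, 5, 0, 6], [2, 3, 6], [5, 4, 6], [4, 5, 6], [0, 4, 6, 0, 4], [5, 4]]
  sub := [0, 2]
  steps := [(5, 2, 6, [(4, 4), (3, 3), (5, 2), (3, 1), (4, 0), (3, 0), (5, 1)]), (6, 1, 2, [(5, 0), (1,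
    0), (5, 1)]), (7, 3, 5, [(3, 6), (0, 1), (4, 0), (1, 0), (3, 0), (0, 0), (4, 6)]), (6, 0, 1,
    [(5, 0), (5, 1)]), (1, 4, 3, [(4, 0), (0, 0), (3, 0), (1, 0), (4, 6), (0, 1), (3, 5)]), (4,
    8, 2, [(5, 5), (1, 1), (5, 6), (1, 7)]), (3, 5, 2, [(2, 4), (6, 7), (3, 6)]), (2, 7, 2, [(4,
    3), (6, 6), (5, 0)]), (0, 5, 2, [(2, 0), (6, 2), (3, 1)]), (6, 6, 2, [(5, 0), (6, 1), (4,
    0)]), (0, 9, 1, [(4, 6), (6, 0)])]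

def dMFF : Deriv where
  unit := 6
  tree := [(0, 4), (1, 0), (2, 2), (3, 1), (4, 5), (5, 0), (6, 2), (7, 1), (8, 4), (9, 0), (0, 5), (11,
    0), (12, 2), (13, 1), (4, 4), (15, 0), (1, 2), (4, 2), (14, 5), (19, 0), (20, 2), (21, 1),
    (22, 5), (23, 0), (24, 2), (25, 1)]
  rels := [[4, 4, 4, 6], [0, 2, 0, 2, 6], [2, 5, 2, 5, 6], [2, 1, 5, 0, 2, 1, 5, 0, 2, 1, 5, 0, 2, 1, 5,
    0, 2, 1, 5, 0, 6], [2, 1, 4, 0, 2, 1, 5, 0, 2, 1, 4, 0, 2, 1, 5, 0, 6], [1, 0, 6], [0, 1, 6],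
    [3, 2, 6], [2, 3, 6], [5, 4, 6], [4, 5, 6], [0, 4, 0, 6, 4], [2, 6, 2, 2], [0, 0, 6, 0], [5,
    4]]
  sub := [0, 2]
  steps := [(10, 4, 12, [(1, 9), (5, 8), (0, 7), (3, 6), (1, 5), (4, 4), (0, 3), (3, 2), (1, 1), (5, 0),
    (0, 0), (3, 0), (1, 0), (4, 1), (0, 2)]), (1, 0, 1, [(5, 0), (5, 11)]), (11, 2, 2, [(4, 0),
    (3, 0), (4, 1)]), (2, 11, 3, [(1, 1), (5, 0), (1, 0), (5, 11)]), (3, 7, 2, [(3, 2), (6, 11),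
    (2, 1)]), (26, 3, 14, [(0, 25), (3, 24), (1, 23), (4, 22), (0, 21), (3, 20), (1, 19), (4,
    14), (0, 13), (3, 12), (1, 11), (4, 0), (0, 0), (3, 0), (1, 0), (4, 1), (0, 2), (3, 10), (1,
    9)]), (17, 12, 1, [(3, 1), (3, 11), (6, 2), (3, 10)]), (12, 13, 2, [(1, 11), (6, 2), (1, 1),
    (6, 3), (1, 4)]), (18, 7, 2, [(3, 4), (6, 12), (2, 13)]), (16, 11, 3, [(1, 15), (5, 4), (6,
    12), (1, 11), (6, 2), (6, 11), (5, 1)]), (4, 6, 2, [(0, 3), (6, 1), (6, 16), (1, 15)]), (5,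
    10, 2, [(4, 4), (6, 15), (5, 4)]), (3, 5, 2, [(1, 4), (6, 5), (0, 6)]), (17, 7, 2, [(3, 1),
    (6, 3), (6, 6), (2, 7)]), (8, 6, 2, [(0, 7), (6, 17), (6, 10), (1, 9)]), (9, 9, 2, [(5, 8),
    (6, 9), (4, 26)]), (7, 5, 2, [(1, 8), (6, 9), (6, 26), (0, 25)]), (6, 8, 2, [(2, 7), (6, 25),
    (3, 24)]), (4, 6, 2, [(0, 3), (6, 6), (6, 24), (1, 23)]), (15, 9, 2, [(5, 4), (6, 23), (4,
    22)]), (3, 5, 2, [(1, 4), (6, 15), (6, 22), (0, 21)]), (11, 8, 2, [(2, 1), (6, 3), (6, 21),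
    (3, 20)]), (1, 6, 2, [(0, 2), (6, 11), (6, 20), (1, 19)]), (11, 9, 2, [(5, 1), (6, 19), (4,
    14)]), (12, 5, 2, [(1, 11), (6, 14), (0, 13)]), (17, 1, 4, [(3, 1), (6, 3), (1, 4), (6, 12),
    (6, 13), (6, 18), (3, 4), (6, 12), (1, 11), (6, 2)]), (10, 8, 2, [(2, 2), (6, 17), (6, 7),
    (3, 6)]), (4, 6, 2, [(0, 3), (6, 6), (6, 10), (6, 17), (6, 2), (1, 1)]), (0, 10, 2, [(4, 1),
    (6, 4), (5, 5)]), (0, 14, 1, [(4, 1), (6, 4), (6, 5), (6, 0)])]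

def dFMF : Deriv where
  unit := 6
  tree := [(0, 4), (1, 0), (2, 2), (3, 5), (4, 2), (5, 5), (6, 2), (7, 5), (2, 0), (9, 2), (10, 1), (11,
    4), (12, 0), (13, 2), (14, 1), (15, 5), (16, 0), (3, 4), (18, 2), (19, 5), (1, 2), (21, 4)]
  rels := [[2, 2, 2, 6], [4, 4, 4, 6], [0, 4, 0, 4, 6], [2, 5, 2, 5, 2, 5, 2, 5, 2, 5, 6], [2, 5, 2, 4,
    2, 5, 2, 4, 6], [2, 0, 5, 1, 2, 0, 5, 1, 6], [2, 1, 5, 0, 2, 1, 4, 0, 2, 1, 5, 0, 2, 1, 4, 0,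
    6], [0, 1, 6], [3, 2, 6], [2, 3, 6], [5, 4, 6], [4, 5, 6], [0, 0, 6, 0], [0, 2, 6, 0, 2], [0,
    4, 0, 6, 4], [5, 4]]
  sub := [0, 2]
  steps := [(2, 2, 3, [(1, 1), (5, 0), (1, 0)]), (8, 3, 8, [(4, 7), (3, 6), (4, 5), (3, 4), (4, 3), (3,
    2), (4, 0), (3, 0), (4, 1)]), (17, 6, 12, [(1, 16), (4, 15), (0, 14), (3, 13), (1, 12), (5,
    11), (0, 10), (3, 9), (1, 2), (4, 0), (0, 0), (3, 0), (1, 0), (5, 2), (0, 9)]), (20, 4, 6,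
    [(4, 19), (3, 18), (5, 3), (3, 2), (4, 0), (3, 0), (5, 2)]), (21, 5, 5, [(3, 1), (0, 2), (4,
    0), (1, 0), (3, 0), (0, 0), (4, 1)]), (1, 1, 1, [(5, 0), (5, 2)]), (21, 0, 1, [(3, 1), (3,
    8)]), (9, 12, 2, [(1, 2), (1, 1), (1, 21)]), (17, 9, 2, [(2, 9), (6, 21), (3, 1)]), (21, 7,
    2, [(0, 1), (6, 17), (1, 16)]), (22, 10, 2, [(5, 21), (6, 16), (4, 15)]), (10, 8, 2, [(3, 9),
    (6, 21), (2, 8)]), (3, 13, 2, [(3, 2), (1, 1), (3, 8), (6, 10), (1, 11)]), (18, 10, 2, [(5,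
    3), (6, 11), (4, 12)]), (14, 14, 3, [(1, 15), (6, 22), (5, 21), (6, 9), (1, 2), (5, 1)]), (8,
    9, 2, [(2, 1), (6, 14), (3, 13)]), (11, 7, 2, [(0, 10), (6, 8), (6, 13), (1, 12)]), (4, 11,
    2, [(4, 3), (6, 11), (6, 12), (5, 11)]), (19, 8, 2, [(3, 18), (6, 12), (6, 11), (6, 4), (2,
    5)]), (6, 11, 2, [(4, 5), (6, 19), (5, 20)]), (7, 8, 2, [(3, 6), (6, 20), (2, 2)]), (1, 11,
    2, [(4, 2), (6, 7), (5, 8)]), (21, 8, 2, [(3, 1), (6, 8), (2, 1)]), (21, 7, 2, [(0, 1), (6,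
    21), (6, 9), (1, 2)]), (2, 10, 2, [(5, 1), (6, 21), (6, 2), (4, 0)]), (0, 15, 1, [(4, 1), (6,
    21), (6, 2), (6, 0)])]

def dFFM : Deriv where
  unit := 6
  tree := [(0, 5), (1, 0), (2, 2), (3, 1), (1, 2), (5, 4), (6, 2), (7, 5), (4, 2), (9, 4), (10, 2), (11,
    4), (12, 2), (4, 1), (5, 1), (15, 5), (16, 0)]
  rels := [[4, 4, 4, 6], [0, 2, 0, 2, 6], [2, 4, 2, 4, 2, 4, 2, 4, 2, 4, 6], [2, 5, 2, 4, 2, 5, 2, 4,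
    6], [2, 1, 5, 0, 2, 1, 5, 0, 6], [0, 1, 6], [2, 3, 6], [4, 5, 6], [0, 4, 0, 6, 4], [0, 4, 6,
    0, 4], [0, 6, 0, 0], [2, 6, 2, 2], [5, 4]]
  sub := [0, 2]
  steps := [(4, 4, 6, [(0, 3), (3, 2), (1, 1), (4, 0), (0, 0), (3, 0), (1, 0)]), (8, 3, 6, [(4, 7), (3,
    6), (5, 5), (3, 1), (4, 0), (3, 0), (5, 1)]), (13, 2, 7, [(3, 12), (5, 11), (3, 10), (5, 9),
    (3, 4), (5, 0), (3, 0), (5, 1), (3, 8)]), (3, 8, 3, [(1, 4), (5, 0), (1, 0), (5, 1)]), (8, 6,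
    2, [(2, 1), (6, 3), (3, 2)]), (4, 0, 1, [(5, 0), (5, 1)]), (17, 4, 4, [(1, 16), (4, 15), (0,
    5), (3, 1), (6, 3), (1, 4), (4, 1), (0, 2)]), (7, 9, 2, [(5, 8), (6, 2), (1, 1), (5, 4), (1,
    14)]), (2, 10, 1, [(1, 1), (6, 3), (1, 4), (1, 14)]), (17, 6, 2, [(2, 2), (6, 14), (6, 7),
    (3, 6)]), (13, 7, 2, [(4, 8), (6, 2), (6, 14), (6, 7), (5, 8)]), (17, 6, 2, [(2, 2), (6, 8),
    (6, 13), (3, 12)]), (5, 7, 2, [(4, 6), (6, 17), (6, 12), (5, 11)]), (1, 6, 2, [(2, 5), (6,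
    11), (3, 10)]), (4, 7, 2, [(4, 1), (6, 10), (5, 9)]), (5, 11, 1, [(3, 1), (3, 8), (6, 2), (3,
    17)]), (5, 1, 4, [(3, 1), (6, 3), (1, 4), (6, 9), (3, 4), (1, 14), (6, 2)]), (17, 6, 2, [(2,
    2), (6, 5), (3, 1)]), (4, 5, 2, [(0, 3), (6, 1), (6, 17), (6, 5), (6, 2), (1, 1)]), (4, 7, 2,
    [(4, 1), (6, 4), (5, 0)]), (0, 12, 1, [(4, 4), (6, 0)])]

def dFFF : Deriv where
  unit := 6
  tree := [(0, 5), (1, 2), (2, 4), (3, 2), (4, 5), (0, 4), (6, 1), (7, 2), (8, 0), (9, 5), (10, 1), (11,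
    2), (12, 0), (13, 4), (14, 1), (6, 2), (16, 4), (17, 2), (18, 4), (19, 2), (9, 4), (21, 1),
    (22, 2), (23, 0), (24, 4), (25, 1), (26, 2), (27, 0), (28, 4), (29, 1), (30, 2), (16, 5),
    (32, 2), (2, 1), (34, 5), (35, 0), (36, 2), (37, 1), (38, 4), (1, 0), (40, 2), (41, 1), (2,
    5), (2, 0), (44, 4), (45, 1), (46, 2), (47, 0), (48, 5), (49, 1), (50, 2), (51, 0), (52, 4),
    (53, 1), (54, 2), (55, 0), (4, 4), (57, 2), (20, 2), (59, 4), (60, 2), (61, 5), (3, 0), (63,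
    0), (4, 0), (65, 4), (66, 1), (67, 2), (68, 0), (69, 5), (70, 1), (71, 2), (72, 0), (73, 4),
    (74, 1), (75, 2), (76, 0), (69, 4), (78, 1), (79, 2), (80, 0), (81, 4), (82, 1), (83, 2),
    (84, 0), (85, 4), (86, 1), (87, 2), (88, 0)]
  rels := [[0, 0, 0, 6], [2, 2, 2, 6], [4, 4, 4, 6], [2, 4, 2, 4, 2, 4, 2, 4, 2, 4, 6], [2, 4, 2, 5, 2,
    4, 2, 5, 6], [2, 5, 2, 4, 2, 5, 2, 4, 6], [2, 0, 4, 1, 2, 0, 4, 1, 2, 0, 4, 1, 2, 0, 4, 1, 2,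
    0, 4, 1, 6], [2, 0, 4, 1, 2, 0, 5, 1, 2, 0, 4, 1, 2, 0, 5, 1, 6], [2, 1, 4, 0, 2, 1, 5, 0, 2,
    1, 4, 0, 2, 1, 5, 0, 6], [1, 0, 6], [0, 1, 6], [3, 2, 6], [2, 3, 6], [5, 4, 6], [4, 5, 6],
    [0, 4, 6, 0, 4], [0, 6, 0, 0], [0, 2, 0, 6, 2], [0, 6, 2, 0, 2], [2, 5, 2, 5, 2, 5, 2, 6, 5,
    2, 5], [5, 4]]
  sub := [0, 2]
  steps := [(5, 5, 6, [(4, 4), (3, 3), (5, 2), (3, 1), (4, 0), (3, 0), (5, 1)]), (15, 7, 12, [(0, 14),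
    (5, 13), (1, 12), (3, 11), (0, 10), (4, 9), (1, 8), (3, 7), (0, 6), (5, 0), (1, 0), (3, 0),
    (0, 0), (4, 6), (1, 7)]), (20, 3, 7, [(3, 19), (5, 18), (3, 17), (5, 16), (3, 6), (5, 0), (3,
    0), (5, 1), (3, 5)]), (31, 6, 17, [(3, 30), (0, 29), (5, 28), (1, 27), (3, 26), (0, 25), (5,
    24), (1, 23), (3, 22), (0, 21), (5, 9), (1, 8), (3, 7), (0, 6), (5, 0), (1, 0), (3, 0), (0,
    0), (5, 1)]), (6, 15, 2, [(5, 0), (1, 0), (5, 1), (1, 31)]), (33, 4, 5, [(3, 32), (4, 16),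
    (3, 6), (5, 0), (3, 0), (4, 6), (6, 31), (3, 30)]), (6, 2, 1, [(5, 0), (5, 1)]), (39, 8, 11,
    [(5, 38), (0, 37), (3, 36), (1, 35), (4, 34), (0, 2), (3, 1), (1, 31), (6, 6), (5, 0), (0,
    0), (3, 0), (1, 0), (4, 6), (6, 31), (0, 1), (3, 5)]), (40, 16, 1, [(1, 1), (1, 31), (6, 6),
    (1, 7)]), (8, 11, 2, [(3, 7), (6, 40), (2, 41)]), (56, 7, 14, [(1, 55), (3, 54), (0, 53), (5,
    52), (1, 51), (3, 50), (0, 49), (4, 48), (1, 47), (3, 46), (0, 45), (5, 44), (1, 2), (3, 1),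
    (0, 40)]), (58, 3, 5, [(3, 57), (5, 4), (3, 3), (5, 2), (3, 1), (5, 6), (6, 31), (3, 30), (5,
    33), (3, 32)]), (56, 15, 2, [(5, 40), (1, 1), (5, 6), (1, 7)]), (1, 10, 2, [(0, 40), (6, 7),
    (6, 56), (1, 55)]), (5, 12, 2, [(2, 1), (6, 55), (3, 54)]), (9, 17, 3, [(1, 8), (3, 7), (6,
    40), (1, 1), (3, 5)]), (39, 10, 2, [(0, 5), (6, 9), (1, 8)]), (20, 14, 2, [(4, 5), (6, 9),
    (5, 10)]), (4, 13, 2, [(5, 5), (6, 9), (4, 21)]), (2, 1, 1, [(3, 1), (3, 5)]), (44, 0, 1,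
    [(1, 2), (1, 34)]), (62, 5, 6, [(4, 61), (3, 60), (5, 59), (3, 20), (4, 5), (3, 2), (5,
    43)]), (3, 2, 1, [(5, 2), (5, 43)]), (44, 18, 1, [(1, 2), (3, 1), (1, 31), (3, 30)]), (29, 9,
    2, [(1, 30), (6, 44), (0, 34)]), (28, 14, 2, [(4, 29), (6, 34), (5, 35)]), (64, 0, 2, [(1,
    63), (1, 3)]), (77, 7, 14, [(1, 76), (3, 75), (0, 74), (5, 73), (1, 72), (3, 71), (0, 70),
    (4, 69), (1, 68), (3, 67), (0, 66), (5, 65), (1, 4), (3, 3), (0, 63)]), (89, 6, 18, [(1, 88),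
    (3, 87), (0, 86), (5, 85), (1, 84), (3, 83), (0, 82), (5, 81), (1, 80), (3, 79), (0, 78), (5,
    69), (1, 68), (3, 67), (0, 66), (5, 65), (1, 4), (3, 3), (0, 63)]), (77, 15, 2, [(5, 63), (1,
    3), (5, 2), (1, 34)]), (28, 14, 2, [(4, 29), (6, 34), (6, 77), (5, 63)]), (27, 10, 2, [(0,
    28), (6, 63), (1, 3)]), (36, 9, 2, [(1, 35), (6, 28), (6, 63), (0, 64)]), (33, 19, 7, [(3,
    32), (4, 16), (3, 6), (4, 1), (3, 5), (4, 4), (3, 3), (4, 43), (3, 62), (4, 61)]), (32, 12,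
    2, [(2, 33), (6, 61), (3, 60)]), (58, 14, 2, [(4, 32), (6, 60), (5, 59)]), (57, 12, 2, [(2,
    58), (6, 59), (3, 20)]), (65, 0, 1, [(1, 4), (6, 21), (1, 22)]), (66, 15, 2, [(5, 65), (1,
    4), (5, 5), (1, 39)]), (38, 14, 2, [(4, 39), (6, 66), (5, 65)]), (37, 9, 2, [(1, 38), (6,
    65), (0, 22)]), (42, 10, 2, [(0, 41), (6, 8), (6, 39), (6, 66), (1, 67)]), (53, 16, 1, [(1,
    54), (6, 5), (1, 39), (6, 8), (6, 41), (1, 42)]), (69, 17, 3, [(1, 68), (3, 67), (6, 42), (6,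
    53), (1, 54), (6, 5), (3, 2)]), (3, 13, 2, [(5, 2), (6, 69), (4, 78)]), (64, 10, 2, [(0, 3),
    (6, 78), (1, 79)]), (37, 11, 2, [(3, 36), (6, 64), (6, 79), (2, 80)]), (21, 9, 2, [(1, 22),
    (6, 37), (6, 80), (0, 81)]), (57, 13, 2, [(5, 4), (6, 21), (6, 81), (4, 82)]), (11, 10, 2,
    [(0, 10), (6, 20), (6, 57), (6, 82), (1, 83)]), (12, 11, 2, [(3, 11), (6, 83), (2, 84)]),
    (13, 9, 2, [(1, 12), (6, 84), (0, 85)]), (14, 13, 2, [(5, 13), (6, 85), (4, 86)]), (15, 10,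
    2, [(0, 14), (6, 86), (1, 87)]), (7, 11, 2, [(3, 15), (6, 87), (2, 88)]), (6, 9, 2, [(1, 7),
    (6, 88), (0, 89)]), (1, 13, 2, [(5, 6), (6, 89), (4, 63)]), (31, 10, 2, [(0, 1), (6, 63), (6,
    28), (1, 27)]), (2, 14, 2, [(4, 3), (6, 27), (6, 31), (6, 6), (5, 0)]), (0, 12, 2, [(2, 0),
    (6, 2), (3, 1)]), (6, 13, 2, [(5, 0), (6, 1), (4, 0)]), (0, 20, 1, [(4, 6), (6, 0)])]

def dE1 : Deriv where
  unit := 8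
  tree := [(0, 6), (1, 6), (0, 4), (3, 0), (4, 6), (5, 1), (3, 2), (2, 0), (2, 4), (6, 6), (10, 1), (3,
    6), (12, 6)]
  rels := [[0, 0, 0, 8], [4, 4, 4, 8], [6, 6, 6, 8], [0, 2, 0, 2, 8], [0, 4, 0, 4, 8], [2, 4, 2, 4, 8],
    [0, 6, 0, 6, 8], [2, 6, 2, 6, 8], [4, 0, 6, 1, 4, 0, 6, 1, 8], [1, 0, 8], [0, 1, 8], [3, 2,
    8], [5, 4, 8], [6, 7, 8], [0, 4, 0, 8, 4], [0, 8, 0, 0], [5, 4]]
  sub := [0, 2]
  steps := [(2, 2, 2, [(7, 1), (7, 0)]), (1, 6, 2, [(7, 0), (1, 0), (7, 2)]), (6, 8, 4, [(0, 5), (7, 4),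
    (1, 3), (5, 0), (0, 0), (7, 2), (1, 1)]), (7, 5, 3, [(3, 3), (5, 0), (3, 0)]), (1, 7, 2, [(7,
    0), (3, 0), (7, 2)]), (4, 14, 3, [(1, 3), (5, 0), (1, 0), (5, 7)]), (8, 0, 2, [(1, 2), (1,
    1)]), (9, 5, 2, [(5, 2), (3, 1), (5, 6)]), (9, 4, 2, [(5, 2), (1, 1), (5, 6)]), (8, 6, 1,
    [(1, 2), (7, 1), (1, 8)]), (11, 8, 4, [(0, 10), (7, 6), (1, 9), (5, 2), (0, 8), (7, 8), (1,
    2)]), (9, 1, 1, [(5, 2), (5, 11)]), (13, 2, 2, [(7, 12), (7, 3)]), (5, 6, 2, [(7, 4), (1, 3),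
    (7, 13)]), (5, 7, 2, [(7, 4), (8, 7), (3, 3), (7, 13)]), (13, 15, 1, [(1, 5), (1, 6), (1,
    9)]), (13, 3, 4, [(3, 5), (1, 6), (3, 9), (8, 13), (1, 5)]), (13, 11, 2, [(3, 5), (8, 13),
    (8, 9), (2, 6)]), (11, 12, 2, [(5, 9), (8, 13), (8, 6), (4, 1)]), (2, 9, 2, [(1, 1), (8, 11),
    (0, 10)]), (1, 13, 2, [(6, 2), (8, 10), (7, 6)]), (0, 13, 2, [(6, 1), (8, 6), (8, 13), (8,
    5), (7, 4)]), (0, 10, 2, [(0, 0), (8, 4), (1, 3)]), (0, 16, 1, [(4, 3), (8, 0)])]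

def dE2 : Deriv where
  unit := 8
  tree := [(0, 4), (1, 0), (0, 6), (3, 6), (1, 1), (5, 6), (6, 0), (7, 4), (1, 6), (9, 6), (9, 0), (11,
    4), (12, 1), (4, 2), (3, 4)]
  rels := [[0, 0, 0, 8], [2, 2, 2, 8], [4, 4, 4, 8], [6, 6, 6, 8], [0, 2, 0, 2, 8], [0, 4, 0, 4, 8], [2,
    4, 2, 4, 8], [0, 6, 0, 6, 8], [2, 6, 2, 6, 8], [4, 1, 6, 0, 4, 1, 6, 0, 8], [1, 0, 8], [0, 1,
    8], [2, 3, 8], [5, 4, 8], [7, 6, 8], [6, 7, 8], [0, 6, 0, 8, 6], [2, 4, 8, 2, 4], [5, 4]]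
  sub := [0, 2]
  steps := [(2, 5, 3, [(1, 1), (5, 0), (1, 0)]), (4, 3, 2, [(7, 3), (7, 0)]), (3, 7, 2, [(7, 0), (1, 0),
    (7, 4)]), (3, 8, 2, [(7, 0), (3, 0), (7, 4)]), (1, 2, 1, [(5, 0), (5, 2)]), (1, 6, 2, [(5,
    0), (3, 0), (5, 2)]), (8, 9, 5, [(5, 7), (1, 6), (7, 5), (0, 1), (5, 0), (1, 0), (7, 4)]),
    (2, 0, 1, [(1, 1), (1, 5)]), (10, 3, 2, [(7, 9), (7, 1)]), (13, 9, 6, [(0, 12), (5, 11), (1,
    9), (7, 1), (0, 2), (5, 1), (1, 5)]), (5, 4, 1, [(1, 2), (3, 1), (1, 5)]), (8, 0, 2, [(1, 4),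
    (1, 3)]), (14, 1, 2, [(3, 4), (3, 3)]), (14, 4, 2, [(3, 4), (1, 3), (3, 14)]), (11, 16, 3,
    [(1, 9), (7, 1), (1, 5), (7, 13)]), (6, 8, 2, [(7, 5), (3, 5), (7, 13)]), (15, 5, 4, [(5, 3),
    (1, 8), (5, 7), (1, 6)]), (12, 17, 2, [(5, 11), (8, 13), (3, 6), (8, 15), (5, 3), (3, 14)]),
    (13, 11, 2, [(0, 12), (8, 14), (1, 14)]), (9, 11, 2, [(0, 11), (8, 13), (8, 14), (8, 12), (1,
    13)]), (10, 14, 2, [(7, 9), (8, 13), (6, 5)]), (6, 14, 2, [(7, 5), (8, 10), (6, 1)]), (2, 10,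
    2, [(1, 1), (8, 6), (0, 7)]), (0, 13, 2, [(5, 2), (8, 7), (4, 8)]), (0, 11, 2, [(0, 0), (8,
    8), (1, 4)]), (4, 15, 2, [(6, 0), (8, 4), (7, 3)]), (0, 12, 2, [(2, 0), (8, 4), (8, 3), (3,
    14)]), (4, 15, 2, [(6, 0), (8, 14), (8, 13), (8, 9), (7, 1)]), (0, 18, 1, [(4, 1), (8, 4),
    (8, 0)])]

def dE0L : Deriv where
  unit := 8
  tree := [(0, 4), (1, 6), (2, 4), (0, 6), (1, 0), (5, 6), (6, 4), (5, 0), (3, 0), (7, 4), (10, 0)]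
  rels := [[0, 0, 0, 8], [4, 4, 4, 8], [6, 6, 6, 8], [0, 2, 0, 2, 8], [0, 4, 0, 4, 8], [2, 4, 2, 4, 8],
    [0, 6, 0, 6, 8], [2, 6, 2, 6, 8], [4, 6, 4, 6, 8], [0, 2, 1, 5, 6, 4, 0, 2, 1, 5, 6, 4, 8],
    [0, 1, 8], [4, 5, 8], [6, 7, 8], [0, 8, 2, 0, 2], [5, 4]]
  sub := [0, 2]
  steps := [(3, 8, 3, [(5, 2), (7, 1), (5, 0)]), (4, 7, 2, [(7, 0), (3, 0), (7, 3)]), (4, 6, 2, [(7, 0),
    (1, 0), (7, 3)]), (5, 4, 3, [(1, 1), (5, 0), (1, 0)]), (1, 1, 1, [(5, 0), (5, 5)]), (1, 5, 2,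
    [(5, 0), (3, 0), (5, 5)]), (8, 0, 2, [(1, 5), (1, 1)]), (7, 8, 3, [(5, 6), (7, 5), (5, 1)]),
    (2, 2, 1, [(7, 1), (7, 7)]), (9, 0, 1, [(1, 3), (1, 4)]), (9, 3, 1, [(1, 3), (3, 4), (1,
    9)]), (11, 9, 7, [(1, 10), (5, 7), (7, 2), (4, 3), (0, 9), (3, 9), (1, 3), (5, 2), (7, 1),
    (4, 5), (0, 8)]), (8, 13, 1, [(1, 5), (3, 1), (1, 8), (3, 11)]), (5, 10, 2, [(0, 8), (8, 11),
    (1, 10)]), (1, 11, 2, [(4, 5), (8, 10), (5, 7)]), (0, 11, 2, [(4, 1), (8, 7), (5, 6)]), (3,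
    12, 2, [(6, 0), (8, 6), (7, 5)]), (4, 10, 2, [(0, 3), (8, 5), (1, 1)]), (7, 12, 2, [(6, 1),
    (8, 4), (7, 0)]), (0, 14, 1, [(4, 1), (8, 7), (8, 0)])]

def dE0M : Deriv where
  unit := 8
  tree := [(0, 4), (1, 0), (0, 6), (3, 0), (1, 6), (2, 7), (6, 4), (7, 0), (8, 2), (9, 1), (10, 5), (11,
    0), (2, 0), (12, 4), (14, 0), (15, 2)]
  rels := [[0, 0, 0, 8], [4, 4, 4, 8], [6, 6, 6, 8], [0, 2, 0, 2, 8], [0, 4, 0, 4, 8], [2, 4, 2, 4, 8],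
    [0, 6, 0, 6, 8], [2, 6, 2, 6, 8], [4, 6, 4, 6, 8], [0, 2, 1, 5, 7, 4, 0, 2, 1, 5, 7, 4, 8],
    [0, 1, 8], [5, 4, 8], [4, 5, 8], [7, 6, 8], [6, 7, 8], [0, 8, 2, 0, 2], [5, 4]]
  sub := [0, 2]
  steps := [(2, 4, 3, [(1, 1), (5, 0), (1, 0)]), (4, 6, 3, [(1, 3), (7, 0), (1, 0)]), (5, 8, 2, [(7, 1),
    (5, 0), (7, 4)]), (3, 7, 2, [(7, 0), (3, 0), (7, 4)]), (1, 5, 2, [(5, 0), (3, 0), (5, 2)]),
    (11, 9, 10, [(4, 10), (0, 9), (3, 8), (1, 7), (5, 6), (6, 2), (4, 0), (0, 0), (3, 0), (1, 0),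
    (5, 2)]), (1, 1, 1, [(5, 0), (5, 2)]), (12, 6, 3, [(1, 11), (7, 2), (1, 1)]), (5, 2, 1, [(7,
    1), (7, 12)]), (13, 0, 2, [(1, 2), (1, 1)]), (13, 3, 1, [(1, 2), (3, 1), (1, 13)]), (16, 9,
    8, [(3, 15), (1, 14), (5, 12), (6, 1), (4, 2), (0, 13), (3, 13), (1, 2), (5, 1), (6, 5), (4,
    4)]), (16, 0, 2, [(1, 4), (1, 3)]), (16, 15, 1, [(1, 4), (3, 3), (1, 16), (3, 15)]), (14, 10,
    2, [(0, 15), (8, 16), (1, 4)]), (5, 12, 2, [(4, 4), (8, 14), (5, 12)]), (12, 13, 2, [(7, 5),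
    (8, 12), (6, 1)]), (2, 11, 2, [(5, 1), (8, 12), (8, 5), (4, 4)]), (1, 10, 2, [(0, 2), (8, 4),
    (1, 3)]), (12, 14, 2, [(6, 1), (8, 3), (7, 0)]), (0, 16, 1, [(4, 1), (8, 12), (8, 0)])]

def dE0F : Deriv where
  unit := 8
  tree := [(0, 4), (1, 4), (2, 6), (3, 4), (0, 6), (5, 0), (1, 6), (3, 0), (2, 0), (6, 0), (10, 2), (11,
    1), (12, 5), (13, 7), (14, 4), (15, 0), (16, 2), (17, 1), (18, 5), (19, 6), (20, 4), (21, 0),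
    (13, 6), (23, 4), (24, 0), (25, 2), (26, 1), (27, 5), (28, 6), (29, 4), (30, 0), (31, 2),
    (32, 1), (33, 5), (34, 6), (35, 4), (36, 0), (37, 2), (38, 1), (38, 2)]
  rels := [[0, 0, 0, 8], [4, 4, 4, 8], [6, 6, 6, 8], [0, 2, 0, 2, 8], [0, 4, 0, 4, 8], [2, 4, 2, 4, 8],
    [0, 6, 0, 6, 8], [2, 6, 2, 6, 8], [4, 6, 4, 6, 8], [0, 2, 1, 5, 6, 4, 0, 2, 1, 5, 6, 4, 0, 2,
    1, 5, 6, 4, 0, 2, 1, 5, 6, 4, 0, 2, 1, 5, 6, 4, 8], [0, 2, 1, 5, 6, 4, 0, 2, 1, 5, 7, 4, 0,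
    2, 1, 5, 6, 4, 0, 2, 1, 5, 7, 4, 8], [1, 0, 8], [0, 1, 8], [3, 2, 8], [2, 3, 8], [5, 4, 8],
    [4, 5, 8], [7, 6, 8], [6, 7, 8], [4, 6, 4, 8, 6], [0, 4, 0, 8, 4], [0, 2, 8, 0, 2], [5, 4]]
  sub := [0, 2]
  steps := [(2, 1, 2, [(5, 1), (5, 0)]), (6, 6, 3, [(1, 5), (7, 0), (1, 0)]), (1, 5, 2, [(5, 0), (3, 0),
    (5, 2)]), (7, 8, 2, [(7, 1), (5, 0), (7, 6)]), (5, 7, 2, [(7, 0), (3, 0), (7, 6)]), (1, 4, 2,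
    [(5, 0), (1, 0), (5, 2)]), (8, 6, 3, [(1, 3), (7, 2), (1, 1)]), (9, 0, 2, [(1, 2), (1, 1)]),
    (4, 19, 3, [(5, 3), (7, 2), (5, 1), (7, 8)]), (3, 7, 2, [(7, 2), (3, 1), (7, 8)]), (7, 2, 1,
    [(7, 1), (7, 8)]), (9, 3, 1, [(1, 2), (3, 1), (1, 9)]), (22, 10, 19, [(1, 21), (5, 20), (7,
    19), (4, 18), (0, 17), (3, 16), (1, 15), (5, 14), (6, 13), (4, 12), (0, 11), (3, 10), (1, 6),
    (5, 7), (7, 1), (4, 2), (0, 9), (3, 9), (1, 2), (5, 1), (6, 7), (4, 6), (0, 10)]), (39, 9,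
    27, [(0, 38), (3, 37), (1, 36), (5, 35), (7, 34), (4, 33), (0, 32), (3, 31), (1, 30), (5,
    29), (7, 28), (4, 27), (0, 26), (3, 25), (1, 24), (5, 23), (7, 13), (4, 12), (0, 11), (3,
    10), (1, 6), (5, 7), (7, 1), (4, 2), (0, 9), (3, 9), (1, 2), (5, 1), (7, 8)]), (39, 1, 2,
    [(5, 8), (8, 4), (5, 3)]), (39, 5, 2, [(5, 8), (3, 3), (5, 39)]), (38, 20, 3, [(1, 39), (5,
    8), (1, 3), (5, 39)]), (40, 13, 2, [(3, 38), (8, 39), (2, 39)]), (37, 14, 2, [(2, 38), (8,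
    39), (8, 40), (3, 38)]), (36, 12, 2, [(0, 37), (8, 38), (1, 39)]), (35, 16, 2, [(4, 36), (8,
    39), (5, 8)]), (7, 18, 2, [(6, 8), (8, 35), (7, 34)]), (6, 15, 2, [(5, 7), (8, 34), (4,
    33)]), (10, 11, 2, [(1, 6), (8, 33), (0, 32)]), (22, 14, 2, [(2, 10), (8, 32), (3, 31)]),
    (21, 12, 2, [(0, 22), (8, 31), (1, 30)]), (20, 16, 2, [(4, 21), (8, 30), (5, 29)]), (19, 18,
    2, [(6, 20), (8, 29), (7, 28)]), (18, 15, 2, [(5, 19), (8, 28), (4, 27)]), (17, 11, 2, [(1,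
    18), (8, 27), (0, 26)]), (16, 14, 2, [(2, 17), (8, 26), (3, 25)]), (15, 12, 2, [(0, 16), (8,
    25), (1, 24)]), (14, 16, 2, [(4, 15), (8, 24), (5, 23)]), (10, 0, 2, [(1, 6), (1, 5)]), (11,
    21, 2, [(3, 10), (1, 6), (3, 5), (1, 10)]), (22, 14, 2, [(2, 10), (8, 11), (3, 10)]), (6, 12,
    2, [(0, 10), (8, 22), (1, 21)]), (7, 16, 2, [(4, 6), (8, 21), (5, 20)]), (1, 18, 2, [(6, 7),
    (8, 20), (7, 19)]), (2, 15, 2, [(5, 1), (8, 19), (4, 18)]), (9, 11, 2, [(1, 2), (8, 18), (0,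
    17)]), (9, 14, 2, [(2, 9), (8, 17), (3, 16)]), (2, 12, 2, [(0, 9), (8, 16), (1, 15)]), (1,
    16, 2, [(4, 2), (8, 15), (5, 14)]), (7, 17, 2, [(7, 1), (8, 14), (6, 13)]), (8, 17, 2, [(7,
    7), (8, 13), (6, 23)]), (0, 16, 2, [(4, 1), (8, 14), (8, 23), (8, 8), (8, 4), (5, 3)]), (6,
    18, 2, [(6, 0), (8, 3), (7, 2)]), (1, 12, 2, [(0, 2), (8, 6), (1, 5)]), (8, 18, 2, [(6, 1),
    (8, 5), (7, 0)]), (0, 22, 1, [(4, 1), (8, 14), (8, 23), (8, 8), (8, 0)])]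

def dG : Deriv where
  unit := 8
  tree := [(0, 2), (0, 3)]
  rels := [[2, 2, 2, 8], [0, 3, 0, 3, 0, 3, 0, 3, 0, 3, 8], [5, 2, 0, 3, 8], [7, 3, 0, 2, 8], [3, 2]]
  sub := [0, 4, 6]
  steps := [(1, 2, 2, [(3, 0), (4, 0), (2, 1)]), (2, 3, 2, [(2, 0), (6, 0), (3, 2)]), (1, 0, 1, [(3, 0),
    (3, 2)]), (1, 1, 10, [(2, 2), (1, 2), (2, 0), (1, 0), (2, 1), (1, 1), (2, 2), (1, 2), (2, 0),
    (1, 0)]), (0, 4, 1, [(2, 1), (8, 0)])]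

theorem check_A : certA.check = true := by decide +kernel
theorem check_K : certK.check = true := by decide +kernel

theorem check_MMM : [[0, 2, 2, 0, 0, 2, 2, 0], [0, 2, 0, 4, 0, 2, 0, 4], [2, 0, 0, 4, 2, 0, 0, 4]].all
    (fun w => certMMM1.allKnown (known certMMM1) 0 w && decide (certMMM1.endAt 0 w = 0)) = true := by
  decide +kernel

theorem check_MMF : dMMF.check (base3 ++ mW [2] r0 ++ mW [2] r1 ++ fW [2] r2) 4 = true := by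
  decide +kernel
theorem check_MFM : dMFM.check (base3 ++ mW [2] r0 ++ fW [2] r1 ++ mW [2] r2) 4 = true := by
  decide +kernel
theorem check_FMM : dFMM.check (base3 ++ fW [2] r0 ++ mW [2] r1 ++ mW [2] r2) 4 = true := by
  decide +kernel
theorem check_MFF : dMFF.check (base3 ++ mW [2] r0 ++ fW [2] r1 ++ fW [2] r2) 4 = true := by
  decide +kernel
theorem check_FMF : dFMF.check (base3 ++ fW [2] r0 ++ mW [2] r1 ++ fW [2] r2) 4 = true := by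
  decide +kernel
theorem check_FFM : dFFM.check (base3 ++ fW [2] r0 ++ fW [2] r1 ++ mW [2] r2) 4 = true := by
  decide +kernel
theorem check_FFF : dFFF.check (base3 ++ fW [2] r0 ++ fW [2] r1 ++ fW [2] r2) 4 = true := by
  decide +kernel
theorem check_E1 : dE1.check (base4 ++ lW [4] [0, 6, 1]) 4 = true := by decide +kernel
theorem check_E2 : dE2.check (base4 ++ lW [4] [1, 6, 0]) 4 = true := by decide +kernel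
theorem check_E0L :
    dE0L.check (base4 ++ lW [4] [6] ++ lW [0, 2, 1] [5, 6, 4]) 4 = true := by decide +kernel
theorem check_E0M :
    dE0M.check (base4 ++ lW [4] [6] ++ mW [0, 2, 1] [5, 6, 4]) 4 = true := by decide +kernel
theorem check_E0F :
    dE0F.check (base4 ++ lW [4] [6] ++ fW [0, 2, 1] [5, 6, 4]) 4 = true := by decide +kernel
theorem check_G : dG.check baseG 2 = true := by decide +kernel

end Cfsg.Agent.Zassenhaus
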