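import Cfsg.Agent.Lib.FGStruct.Zassenhaus.Certs
import Mathlib

/-!
Groups in which any two elements of order three generate a quotient of `A₄` or `A₅`: the elements
of order three generate a subgroup of order at most sixty.
-/

set_option autoImplicit false
set_option linter.style.longLine false
set_option linter.unusedSimpArgs false

namespace Cfsg.Agent.Zassenhaus

open Cfsg.Agent.TableCert

variable {Γ : Type*} [Group Γ]

/-- An icosahedral pair. -/
def PairF (x t : Γ) : Prop :=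
  (x * t) ^ 5 = 1 ∧ (x * t⁻¹) ^ 5 = 1 ∧ (x * t * x * t⁻¹) ^ 2 = 1 ∧ (x * t⁻¹ * x * t) ^ 2 = 1

/-- The possibilities for two elements of order three. -/
def Pair (x t : Γ) : Prop := (x * t) ^ 2 = 1 ∨ (x * t⁻¹) ^ 2 = 1 ∨ PairF x t

/-- The hypotheses on the group. -/
structure TriGroup (Γ : Type*) [Group Γ] : Prop where
  comm : ∀ x t : Γ, x ^ 3 = 1 → t ^ 3 = 1 → x ≠ 1 → Commute x t → t ∈ Subgroup.zpowers x
  pair : ∀ x t : Γ, x ^ 3 = 1 → t ^ 3 = 1 → ¬ Commute x t → Pair x t
  four : ∀ u v w : Γ, u ^ 2 = 1 → v ^ 2 = 1 → w ^ 2 = 1 → u ≠ 1 → v ≠ 1 → u ≠ v → Commute u v →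
    Commute u w → Commute v w → w ∈ Subgroup.closure {u, v}

section Words

variable (g : List Γ)

theorem wval_lW {p q : List ℕ} (h : (wval g p * wval g q) ^ 2 = 1) :
    ∀ r ∈ lW p q, wval g r = 1 := by
  simp only [lW, List.mem_singleton, forall_eq, wval_powW, wval_append]
  exact h

theorem wval_mW {p q : List ℕ} (h : (wval g p * (wval g q)⁻¹) ^ 2 = 1) :
    ∀ r ∈ mW p q, wval g r = 1 := by
  simp only [mW, List.mem_singleton, forall_eq, wval_powW, wval_append, wval_invW]
  exact h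

theorem wval_fW {p q : List ℕ} (h : PairF (wval g p) (wval g q)) :
    ∀ r ∈ fW p q, wval g r = 1 := by
  intro r hr
  simp only [fW, List.mem_cons, List.not_mem_nil, or_false] at hr
  rcases hr with rfl | rfl | rfl | rfl <;>
    simp only [wval_powW, wval_append, wval_invW]
  exacts [h.1, h.2.1, h.2.2.1, h.2.2.2]

theorem forall_append {A B : List (List ℕ)} (hA : ∀ r ∈ A, wval g r = 1)
    (hB : ∀ r ∈ B, wval g r = 1) : ∀ r ∈ A ++ B, wval g r = 1 :=
  List.forall_mem_append.2 ⟨hA, hB⟩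

end Words

theorem wval_base3 {x a b : Γ} (hx : x ^ 3 = 1) (ha : a ^ 3 = 1) (hb : b ^ 3 = 1)
    (hxa : (x * a) ^ 2 = 1) (hxb : (x * b) ^ 2 = 1) : ∀ r ∈ base3, wval [x, a, b] r = 1 := by
  refine forall_append _ (forall_append _ (fun r hr => ?_) (wval_lW _ ?_)) (wval_lW _ ?_)
  · simp only [List.mem_cons, List.not_mem_nil, or_false] at hr
    rcases hr with rfl | rfl | rfl <;> simp [wval_powW, wval, letter, hx, ha, hb]
  · simpa [wval, letter] using hxa
  · simpa [wval, letter] using hxb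

theorem wval_base4 {x a b c : Γ} (hx : x ^ 3 = 1) (ha : a ^ 3 = 1) (hb : b ^ 3 = 1) (hc : c ^ 3 = 1)
    (hxa : (x * a) ^ 2 = 1) (hxb : (x * b) ^ 2 = 1) (hab : (a * b) ^ 2 = 1) (hxc : (x * c) ^ 2 = 1)
    (hac : (a * c) ^ 2 = 1) : ∀ r ∈ base4, wval [x, a, b, c] r = 1 := by
  refine forall_append _ (forall_append _ (forall_append _ (forall_append _ (forall_append _
    (fun r hr => ?_) (wval_lW _ ?_)) (wval_lW _ ?_)) (wval_lW _ ?_)) (wval_lW _ ?_)) (wval_lW _ ?_)
  · simp only [List.mem_cons, List.not_mem_nil, or_false] at hr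
    rcases hr with rfl | rfl | rfl | rfl <;> simp [wval_powW, wval, letter, hx, ha, hb, hc]
  · simpa [wval, letter] using hxa
  · simpa [wval, letter] using hxb
  · simpa [wval, letter] using hab
  · simpa [wval, letter] using hxc
  · simpa [wval, letter] using hac

theorem pow_three_conj {a : Γ} (ha : a ^ 3 = 1) (g : Γ) : (g * a * g⁻¹) ^ 3 = 1 := by
  rw [conj_pow, ha, mul_one, mul_inv_cancel]

theorem mem_rot {K : Subgroup Γ} {x b y : Γ} (hx : x ∈ K) (hy : y = b ∨ y = x * b * x⁻¹ ∨ y = x⁻¹ * b * x) :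
    y ∈ K ↔ b ∈ K := by
  rcases hy with rfl | rfl | rfl
  · rfl
  · rw [Subgroup.mul_mem_cancel_right K (inv_mem hx), Subgroup.mul_mem_cancel_left K hx]
  · rw [Subgroup.mul_mem_cancel_right K hx, Subgroup.mul_mem_cancel_left K (inv_mem hx)]

theorem rot_cube {x b y : Γ} (hb : b ^ 3 = 1) (hy : y = b ∨ y = x * b * x⁻¹ ∨ y = x⁻¹ * b * x) :
    y ^ 3 = 1 := by
  rcases hy with rfl | rfl | rfl
  · exact hb
  · exact pow_three_conj hb x
  · simpa using pow_three_conj hb x⁻¹

theorem rot_linked {x b y : Γ} (h : (x * b) ^ 2 = 1)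
    (hy : y = b ∨ y = x * b * x⁻¹ ∨ y = x⁻¹ * b * x) : (x * y) ^ 2 = 1 := by
  rcases hy with rfl | rfl | rfl
  · exact h
  · rw [show x * (x * b * x⁻¹) = x * (x * b) * x⁻¹ by group, conj_pow, h, mul_one, mul_inv_cancel]
  · rw [show x * (x⁻¹ * b * x) = x⁻¹ * (x * b) * x⁻¹⁻¹ by group, conj_pow, h, mul_one, mul_inv_cancel]

variable (hT : TriGroup Γ)
include hT

/-- Linking: some rotation of `b` is linked with `a`. -/
theorem link {x a b : Γ} (hx : x ^ 3 = 1) (ha : a ^ 3 = 1) (hb : b ^ 3 = 1)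
    (hxa : (x * a) ^ 2 = 1) (hxb : (x * b) ^ 2 = 1) (hax : a ∉ Subgroup.zpowers x)
    (hbH : b ∉ Subgroup.closure {x, a}) :
    ∃ b', (b' = b ∨ b' = x * b * x⁻¹ ∨ b' = x⁻¹ * b * x) ∧ (a * b') ^ 2 = 1 := by
  by_contra hno
  push Not at hno
  set H := Subgroup.closure ({x, a} : Set Γ) with hH
  have hxH : x ∈ H := Subgroup.subset_closure (Set.mem_insert x _)
  have haH : a ∈ H := Subgroup.subset_closure (Set.mem_insert_of_mem x rfl)
  have ha1 : a ≠ 1 := fun h => hax (h ▸ one_mem _)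
  have key : ∀ y, (y = b ∨ y = x * b * x⁻¹ ∨ y = x⁻¹ * b * x) →
      (a * y⁻¹) ^ 2 = 1 ∨ PairF a y := by
    intro y hy
    have hnc : ¬ Commute a y := fun hc => hbH ((mem_rot hxH hy).1
      (Subgroup.zpowers_le.2 haH (hT.comm a y ha (rot_cube hb hy) ha1 hc)))
    exact (hT.pair a y ha (rot_cube hb hy) hnc).resolve_left (hno y hy)
  have hb3 := wval_base3 hx ha hb hxa hxb
  have e0 : wval [x, a, b] r0 = b := by simp [r0, wval, letter]
  have e1 : wval [x, a, b] r1 = x * b * x⁻¹ := by simp [r1, wval, letter, mul_assoc]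
  have e2 : wval [x, a, b] r2 = x⁻¹ * b * x := by simp [r2, wval, letter, mul_assoc]
  have ea : wval [x, a, b] [2] = a := by simp [wval, letter]
  have hsub : ∀ l ∈ [0, 2], letter [x, a, b] l ∈ H := by
    intro l hl
    simp only [List.mem_cons, List.not_mem_nil, or_false] at hl
    rcases hl with rfl | rfl <;> simp [letter, hxH, haH]
  have fin : ∀ (D : Deriv) (extra : List (List ℕ)), D.unit = 6 → D.sub = [0, 2] →
      (∀ r ∈ extra, wval [x, a, b] r = 1) → D.check (base3 ++ extra) 4 = true → False := by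
    intro D extra hU hs hextra hc
    have := letter_mem_of_check (g := [x, a, b]) (H := H) hU (forall_append _ hb3 hextra)
      (hs ▸ hsub) hc
    exact hbH (by simpa [letter] using this)
  have hM : ∀ r, (a * (wval [x, a, b] r)⁻¹) ^ 2 = 1 → ∀ w ∈ mW [2] r, wval [x, a, b] w = 1 :=
    fun r h => wval_mW _ (by rwa [ea])
  have hF : ∀ r, PairF a (wval [x, a, b] r) → ∀ w ∈ fW [2] r, wval [x, a, b] w = 1 :=
    fun r h => wval_fW _ (by rwa [ea])
  rcases key _ (Or.inl rfl) with h0 | h0 <;> rcases key _ (Or.inr (Or.inl rfl)) with h1 | h1 <;>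
    rcases key _ (Or.inr (Or.inr rfl)) with h2 | h2
  rotate_left
  · exact fin dMMF _ rfl rfl (forall_append _ (hM r0 (e0.symm ▸ h0))
      (forall_append _ (hM r1 (e1.symm ▸ h1)) (hF r2 (e2.symm ▸ h2)))) (by simpa [List.append_assoc] using check_MMF)
  · exact fin dMFM _ rfl rfl (forall_append _ (hM r0 (e0.symm ▸ h0))
      (forall_append _ (hF r1 (e1.symm ▸ h1)) (hM r2 (e2.symm ▸ h2)))) (by simpa [List.append_assoc] using check_MFM)
  · exact fin dMFF _ rfl rfl (forall_append _ (hM r0 (e0.symm ▸ h0))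
      (forall_append _ (hF r1 (e1.symm ▸ h1)) (hF r2 (e2.symm ▸ h2)))) (by simpa [List.append_assoc] using check_MFF)
  · exact fin dFMM _ rfl rfl (forall_append _ (hF r0 (e0.symm ▸ h0))
      (forall_append _ (hM r1 (e1.symm ▸ h1)) (hM r2 (e2.symm ▸ h2)))) (by simpa [List.append_assoc] using check_FMM)
  · exact fin dFMF _ rfl rfl (forall_append _ (hF r0 (e0.symm ▸ h0))
      (forall_append _ (hM r1 (e1.symm ▸ h1)) (hF r2 (e2.symm ▸ h2)))) (by simpa [List.append_assoc] using check_FMF)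
  · exact fin dFFM _ rfl rfl (forall_append _ (hF r0 (e0.symm ▸ h0))
      (forall_append _ (hF r1 (e1.symm ▸ h1)) (hM r2 (e2.symm ▸ h2)))) (by simpa [List.append_assoc] using check_FFM)
  · exact fin dFFF _ rfl rfl (forall_append _ (hF r0 (e0.symm ▸ h0))
      (forall_append _ (hF r1 (e1.symm ▸ h1)) (hF r2 (e2.symm ▸ h2)))) (by simpa [List.append_assoc] using check_FFF)
  -- the three involutions `xa`, `ax`, `xb` commute
  have hrel : ∀ r ∈ certMMM1.rels, wval [x, a, b] r = 1 :=
    forall_append _ (forall_append _ (forall_append _ hb3 (hM r0 (e0.symm ▸ h0)))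
      (hM r1 (e1.symm ▸ h1))) (hM r2 (e2.symm ▸ h2))
  have hw := check_MMM
  simp only [List.all_cons, List.all_nil, Bool.and_true, Bool.and_eq_true, decide_eq_true_eq] at hw
  obtain ⟨hw1, hw2, hw3⟩ := hw
  have hbot : ∀ w, certMMM1.allKnown (known certMMM1) 0 w = true ∧ certMMM1.endAt 0 w = 0 →
      wval [x, a, b] w = 1 := fun w h =>
    Subgroup.mem_bot.1 (wval_mem_of_table (H := (⊥ : Subgroup Γ)) hrel
      (fun l hl => absurd hl (by simp [certMMM1])) w h)
  have comm2 : ∀ u v : Γ, u ^ 2 = 1 → v ^ 2 = 1 → u * v * (u * v) = 1 → Commute u v := by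
    intro u v hu hv h
    rw [pow_two] at hu hv
    show u * v = v * u
    rw [eq_inv_of_mul_eq_one_left h, mul_inv_rev, ← eq_inv_of_mul_eq_one_left hu,
      ← eq_inv_of_mul_eq_one_left hv]
  have hax2 : (a * x) ^ 2 = 1 := by
    rw [show a * x = x⁻¹ * (x * a) * x⁻¹⁻¹ by group, conj_pow, hxa, mul_one, mul_inv_cancel]
  have c1 : Commute (x * a) (a * x) := comm2 _ _ hxa hax2 (by
    simpa [wval, letter, mul_assoc] using hbot _ hw1)
  have c2 : Commute (x * a) (x * b) := comm2 _ _ hxa hxb (by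
    simpa [wval, letter, mul_assoc] using hbot _ hw2)
  have c3 : Commute (a * x) (x * b) := comm2 _ _ hax2 hxb (by
    simpa [wval, letter, mul_assoc] using hbot _ hw3)
  have hne : x * a ≠ a * x := fun h => hax (hT.comm x a hx ha
    (fun hx1 => ha1 (by subst hx1; rw [one_mul] at hxa; calc a = a ^ 3 * (a ^ 2)⁻¹ := by group
      _ = 1 := by rw [ha, hxa, inv_one, one_mul])) h)
  have hu1 : x * a ≠ 1 := fun h => hax (eq_inv_of_mul_eq_one_right h ▸ inv_mem (Subgroup.mem_zpowers x))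
  have hu2 : a * x ≠ 1 := fun h => hax (eq_inv_of_mul_eq_one_left h ▸ inv_mem (Subgroup.mem_zpowers x))
  have h4 := hT.four _ _ _ hxa hax2 hxb hu1 hu2 hne c1 c2 c3
  have h5 : Subgroup.closure {x * a, a * x} ≤ H := by
    rw [Subgroup.closure_le]
    rintro y (rfl | rfl)
    exacts [H.mul_mem hxH haH, H.mul_mem haH hxH]
  exact hbH ((Subgroup.mul_mem_cancel_left H hxH).1 (h5 h4))

/-- Everything linked with a corner of a triangle lies in the triangle's group. -/
theorem neighbour_mem {x a b c : Γ} (hx : x ^ 3 = 1) (ha : a ^ 3 = 1) (hb : b ^ 3 = 1)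
    (hc : c ^ 3 = 1) (hxa : (x * a) ^ 2 = 1) (hxb : (x * b) ^ 2 = 1) (hab : (a * b) ^ 2 = 1)
    (hxc : (x * c) ^ 2 = 1) (hax : a ∉ Subgroup.zpowers x) (hbH : b ∉ Subgroup.closure {x, a}) :
    c ∈ Subgroup.closure {x, a, b} := by
  set K := Subgroup.closure ({x, a, b} : Set Γ) with hK
  by_contra hcK
  have hxK : x ∈ K := Subgroup.subset_closure (Set.mem_insert x _)
  have haK : a ∈ K := Subgroup.subset_closure (by simp)
  have hbK : b ∈ K := Subgroup.subset_closure (by simp)
  set H := Subgroup.closure ({x, a} : Set Γ) with hH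
  have hxH : x ∈ H := Subgroup.subset_closure (Set.mem_insert x _)
  have haH : a ∈ H := Subgroup.subset_closure (Set.mem_insert_of_mem x rfl)
  have hHK : H ≤ K := Subgroup.closure_mono (by
    rintro y (rfl | rfl) <;> simp)
  obtain ⟨c₀, hc₀, hac⟩ := link hT hx ha hc hxa hxc hax fun h => hcK (hHK h)
  have hc₀K : c₀ ∉ K := fun h => hcK ((mem_rot hxK hc₀).1 h)
  have hc₀3 := rot_cube hc hc₀
  have hxc₀ := rot_linked hxc hc₀
  have hbx : b ∉ Subgroup.zpowers x := fun h => hbH (Subgroup.zpowers_le.2 hxH h)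
  obtain ⟨c₁, hc₁, hbc⟩ := link hT hx hb hc₀3 hxb hxc₀ hbx fun h => hc₀K ((Subgroup.closure_mono
    (by rintro y (rfl | rfl) <;> simp) : Subgroup.closure ({x, b} : Set Γ) ≤ K) h)
  have h4 := wval_base4 hx ha hb hc₀3 hxa hxb hab hxc₀ hac
  have eb : wval [x, a, b, c₀] [4] = b := by simp [wval, letter]
  have hsub : ∀ l ∈ [0, 2], letter [x, a, b, c₀] l ∈ H := by
    intro l hl
    simp only [List.mem_cons, List.not_mem_nil, or_false] at hl
    rcases hl with rfl | rfl <;> simp [letter, hxH, haH]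
  have fin : ∀ (D : Deriv) (extra : List (List ℕ)), D.unit = 8 → D.sub = [0, 2] →
      (∀ r ∈ extra, wval [x, a, b, c₀] r = 1) → D.check (base4 ++ extra) 4 = true → False := by
    intro D extra hU hs hextra hck
    have := letter_mem_of_check (g := [x, a, b, c₀]) (H := H) hU (forall_append _ h4 hextra)
      (hs ▸ hsub) hck
    exact hbH (by simpa [letter] using this)
  rcases hc₁ with rfl | rfl | rfl
  · -- the four generators would generate a quotient of `A₆`
    have hL : ∀ r ∈ lW [4] [6], wval [x, a, b, c₁] r = 1 :=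
      wval_lW _ (by simpa [wval, letter] using hbc)
    have ey : wval [x, a, b, c₁] [0, 2, 1] = x * a * x⁻¹ := by simp [wval, letter, mul_assoc]
    have ey' : wval [x, a, b, c₁] [5, 6, 4] = b⁻¹ * c₁ * b := by simp [wval, letter, mul_assoc]
    have hy'3 : (b⁻¹ * c₁ * b) ^ 3 = 1 := by simpa using pow_three_conj hc₀3 b⁻¹
    have hy1 : x * a * x⁻¹ ≠ 1 := fun h => hax (by
      rw [conj_eq_one_iff] at h; rw [h]; exact one_mem _)
    by_cases hcm : Commute (x * a * x⁻¹) (b⁻¹ * c₁ * b)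
    · have h := hT.comm _ _ (pow_three_conj ha x) hy'3 hy1 hcm
      have hmem : b⁻¹ * c₁ * b ∈ K :=
        Subgroup.zpowers_le.2 (K.mul_mem (K.mul_mem hxK haK) (inv_mem hxK)) h
      rw [Subgroup.mul_mem_cancel_right K hbK, Subgroup.mul_mem_cancel_left K (inv_mem hbK)] at hmem
      exact hc₀K hmem
    rcases hT.pair _ _ (pow_three_conj ha x) hy'3 hcm with h | h | h
    · exact fin dE0L _ rfl rfl (forall_append _ hL (wval_lW (p := [0, 2, 1]) (q := [5, 6, 4]) _ (by rw [ey, ey']; exact h)))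
        (by simpa [List.append_assoc] using check_E0L)
    · exact fin dE0M _ rfl rfl (forall_append _ hL (wval_mW (p := [0, 2, 1]) (q := [5, 6, 4]) _ (by rw [ey, ey']; exact h)))
        (by simpa [List.append_assoc] using check_E0M)
    · exact fin dE0F _ rfl rfl (forall_append _ hL (wval_fW (p := [0, 2, 1]) (q := [5, 6, 4]) _ (by rw [ey, ey']; exact h)))
        (by simpa [List.append_assoc] using check_E0F)
  · exact fin dE1 _ rfl rfl (wval_lW _ (by simpa [wval, letter, mul_assoc] using hbc)) check_E1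
  · exact fin dE2 _ rfl rfl (wval_lW _ (by simpa [wval, letter, mul_assoc] using hbc)) check_E2

/-- Elements of order three are generated by one of them and its neighbours. -/
theorem mem_of_neighbours {x : Γ} (hx : x ^ 3 = 1) (hx1 : x ≠ 1) {K : Subgroup Γ} (hxK : x ∈ K)
    (hN : ∀ y : Γ, y ^ 3 = 1 → (x * y) ^ 2 = 1 → y ∈ K) {t : Γ} (ht : t ^ 3 = 1) : t ∈ K := by
  by_cases hc : Commute x t
  · exact Subgroup.zpowers_le.2 hxK (hT.comm x t hx ht hx1 hc)
  rcases hT.pair x t hx ht hc with h | h | h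
  · exact hN t ht h
  · exact inv_mem_iff.1 (hN t⁻¹ (by rw [inv_pow, ht, inv_one]) h)
  · have hy : t * x * t⁻¹ ∈ K := hN _ (pow_three_conj hx t) (by
      simpa [mul_assoc] using h.2.2.1)
    have hy' : t⁻¹ * x * t ∈ K := hN _ (by simpa using pow_three_conj hx t⁻¹) (by
      simpa [mul_assoc] using h.2.2.2)
    have hb : ∀ r ∈ baseG, wval [x, t, t * x * t⁻¹, t⁻¹ * x * t] r = 1 := by
      refine forall_append _ (fun r hr => ?_) (wval_fW _ (by simpa [wval, letter] using h))
      simp only [List.mem_cons, List.not_mem_nil, or_false] at hr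
      rcases hr with rfl | rfl | rfl | rfl <;>
        simp [wval_powW, wval, letter, hx, ht, mul_assoc]
    have := letter_mem_of_check (g := [x, t, t * x * t⁻¹, t⁻¹ * x * t]) (D := dG) (H := K) rfl hb
      (by
        intro l hl
        simp only [dG, List.mem_cons, List.not_mem_nil, or_false] at hl
        rcases hl with rfl | rfl | rfl
        · simpa [letter] using hxK
        · simpa [letter] using hy
        · simpa [letter] using hy') check_G
    simpa [letter] using this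

omit hT in
/-- A bound on the order of a subgroup from a coset table. -/
theorem card_closure_le (g : List Γ) (C : Cert) {x : Γ} (hg : g.head? = some x) (hx : x ^ 3 = 1)
    (hsub : C.sub = [0]) (hlen : 2 * g.length ≤ C.tab.length) (hrel : ∀ r ∈ C.rels, wval g r = 1)
    (hcheck : C.check = true) :
    Finite (Subgroup.closure {y | y ∈ g}) ∧ Nat.card (Subgroup.closure {y | y ∈ g}) ≤ C.n * 3 := by
  set L := Subgroup.closure {y | y ∈ g} with hL
  have hmem : ∀ y ∈ g, y ∈ L := fun y hy => Subgroup.subset_closure hy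
  set g' : List L := g.attach.map fun y => ⟨y.1, hmem y.1 y.2⟩ with hg'
  have hmap : g'.map L.subtype = g := by simp [hg']
  have hlet : ∀ l, ((letter g' l : L) : Γ) = letter g l := by
    intro l
    have : ((g'.getD (l / 2) 1 : L) : Γ) = g.getD (l / 2) 1 := by
      conv_rhs => rw [← hmap, show (1 : Γ) = L.subtype 1 from rfl, List.getD_map]
      rfl
    unfold letter
    split <;> simp [-List.getD_eq_getElem?_getD, this]
  have hw : ∀ w, ((wval g' w : L) : Γ) = wval g w := by
    intro w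
    induction w with
    | nil => simp [wval]
    | cons l w ih => simp [wval, hlet, ih]
  have hgen : Subgroup.closure {y : L | y ∈ g'} = ⊤ := by
    have : {y : L | y ∈ g'} = ((↑) : L → Γ) ⁻¹' {y | y ∈ g} := by
      ext y
      simp [hg', Subtype.ext_iff]
    rw [this]
    exact Subgroup.closure_closure_coe_preimage
  obtain ⟨x', hx'⟩ : ∃ x' : L, letter g' 0 = x' := ⟨_, rfl⟩
  have hx'3 : x' ^ 3 = 1 := Subtype.ext (by
    rw [Subgroup.coe_pow, ← hx', hlet]
    rcases g with _ | ⟨y, g⟩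
    · simp at hg
    · simp at hg; subst hg; simpa [letter] using hx)
  have hfin : IsOfFinOrder x' := isOfFinOrder_iff_pow_eq_one.2 ⟨3, by norm_num, hx'3⟩
  haveI : Finite (Subgroup.zpowers x') := hfin.finite_zpowers.to_subtype
  obtain ⟨hf, hle⟩ := card_le g' C (Subgroup.zpowers x') hgen
    (by simpa [hg'] using hlen) (fun r hr => Subtype.ext (by rw [hw, hrel r hr]; rfl))
    (fun l hl => by
      rw [hsub, List.mem_singleton] at hl
      subst hl
      rw [hx']
      exact Subgroup.mem_zpowers x') hcheck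
  refine ⟨hf, hle.trans (Nat.mul_le_mul le_rfl ?_)⟩
  rw [Nat.card_zpowers]
  exact Nat.le_of_dvd (by norm_num) (orderOf_dvd_of_pow_eq_one hx'3)

omit hT in
theorem commute_linked {x a : Γ} (hx : x ^ 3 = 1) (ha : a ^ 3 = 1) (hxa : (x * a) ^ 2 = 1) :
    Commute (x * a) (a * x) := by
  have h3 : ∀ y : Γ, y ^ 3 = 1 → y * y = y⁻¹ := fun y hy => eq_inv_of_mul_eq_one_left (by
    rw [← pow_two, ← pow_succ, hy])
  have ha' : a⁻¹ = x * a * x := inv_eq_of_mul_eq_one_left (by
    rw [pow_two] at hxa; simpa [mul_assoc] using hxa)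
  have hc : (x * a⁻¹) * (x * a⁻¹) * (x * a⁻¹) = 1 := by
    rw [ha']
    calc x * (x * a * x) * (x * (x * a * x)) * (x * (x * a * x))
        = x ^ 2 * a * x ^ 3 * a * x ^ 3 * a * x := by
          simp only [pow_succ, pow_zero, one_mul, mul_assoc]
      _ = x ^ 2 * a ^ 3 * x := by
          rw [hx]; simp only [pow_succ, pow_zero, one_mul, mul_one, mul_assoc]
      _ = 1 := by rw [ha, mul_one, ← pow_succ, hx]
  have hc' : x * a⁻¹ * (x * a⁻¹) = a * x⁻¹ := by
    rw [eq_inv_of_mul_eq_one_left hc, mul_inv_rev, inv_inv]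
  show x * a * (a * x) = a * x * (x * a)
  calc x * a * (a * x) = x * (a * a) * x := by simp only [mul_assoc]
    _ = x * a⁻¹ * (x * a⁻¹) * a := by rw [h3 a ha]; simp [mul_assoc]
    _ = a * x⁻¹ * a := by rw [hc']
    _ = a * (x * x) * a := by rw [h3 x hx]
    _ = a * x * (x * a) := by simp only [mul_assoc]

/-- The elements of order three generate a small normal subgroup. -/
theorem exists_small_normal {x t : Γ} (hx : x ^ 3 = 1) (ht : t ^ 3 = 1) (hnc : ¬ Commute x t) :
    ∃ H : Subgroup Γ, H.Normal ∧ Nat.card H ≤ 60 ∧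
      ∃ u ∈ H, ∃ v ∈ H, u ^ 2 = 1 ∧ v ^ 2 = 1 ∧ u ≠ 1 ∧ v ≠ 1 ∧ u ≠ v ∧ Commute u v := by
  have hx1 : x ≠ 1 := fun h => hnc (h ▸ Commute.one_left t)
  obtain ⟨a, ha, hxa, hax⟩ : ∃ a, a ^ 3 = 1 ∧ (x * a) ^ 2 = 1 ∧ a ∉ Subgroup.zpowers x := by
    by_contra hno
    push Not at hno
    obtain ⟨i, rfl⟩ := Subgroup.mem_zpowers_iff.1
      (mem_of_neighbours hT hx hx1 (Subgroup.mem_zpowers x) hno ht)
    exact hnc ((Commute.refl x).zpow_right i)
  have hax2 : (a * x) ^ 2 = 1 := by
    rw [show a * x = x⁻¹ * (x * a) * x⁻¹⁻¹ by group, conj_pow, hxa, mul_one, mul_inv_cancel]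
  have hu1 : x * a ≠ 1 := fun h => hax (eq_inv_of_mul_eq_one_right h ▸ inv_mem (Subgroup.mem_zpowers x))
  have hu2 : a * x ≠ 1 := fun h => hax (eq_inv_of_mul_eq_one_left h ▸ inv_mem (Subgroup.mem_zpowers x))
  have hne : x * a ≠ a * x := fun h => hax (hT.comm x a hx ha hx1 h)
  have finish : ∀ K : Subgroup Γ, x ∈ K → a ∈ K → (∀ s : Γ, s ^ 3 = 1 → s ∈ K) →
      (K ≤ Subgroup.closure {s : Γ | s ^ 3 = 1}) → Nat.card K ≤ 60 →
      ∃ H : Subgroup Γ, H.Normal ∧ Nat.card H ≤ 60 ∧
        ∃ u ∈ H, ∃ v ∈ H, u ^ 2 = 1 ∧ v ^ 2 = 1 ∧ u ≠ 1 ∧ v ≠ 1 ∧ u ≠ v ∧ Commute u v := by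
    intro K hxK haK hall hle hcard
    refine ⟨K, ⟨fun k hk g => ?_⟩, hcard, x * a, K.mul_mem hxK haK, a * x, K.mul_mem haK hxK,
      hxa, hax2, hu1, hu2, hne, commute_linked hx ha hxa⟩
    have h : Subgroup.closure {s : Γ | s ^ 3 = 1} ≤ K.comap (MulAut.conj g).toMonoidHom := by
      rw [Subgroup.closure_le]
      intro s hs
      exact hall _ (pow_three_conj hs g)
    exact h (hle hk)
  set S : Set Γ := {s : Γ | s ^ 3 = 1}
  by_cases hA : ∀ y : Γ, y ^ 3 = 1 → (x * y) ^ 2 = 1 → y ∈ Subgroup.closure {x, a}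
  · have hset : {y | y ∈ [x, a]} = ({x, a} : Set Γ) := by ext; simp
    obtain ⟨hf, hle⟩ := card_closure_le [x, a] certA (x := x) rfl hx rfl (by simp [certA, certK])
      (forall_append _ (fun r hr => by
        simp only [List.mem_cons, List.not_mem_nil, or_false] at hr
        rcases hr with rfl | rfl <;> simp [wval_powW, wval, letter, hx, ha])
        (wval_lW _ (by simpa [wval, letter] using hxa))) check_A
    rw [hset] at hle
    refine finish (Subgroup.closure {x, a}) (Subgroup.subset_closure (Set.mem_insert x _))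
      (Subgroup.subset_closure (Set.mem_insert_of_mem x rfl))
      (fun s hs => mem_of_neighbours hT hx hx1 (Subgroup.subset_closure (Set.mem_insert x _)) hA hs)
      (Subgroup.closure_mono ?_) (hle.trans (by decide))
    rintro y (rfl | rfl)
    exacts [hx, ha]
  push Not at hA
  obtain ⟨b₀, hb₀, hxb₀, hb₀H⟩ := hA
  obtain ⟨b, hb', hab⟩ := link hT hx ha hb₀ hxa hxb₀ hax hb₀H
  have hb := rot_cube hb₀ hb'
  have hxb := rot_linked hxb₀ hb'
  have hbH : b ∉ Subgroup.closure {x, a} := fun h =>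
    hb₀H ((mem_rot (Subgroup.subset_closure (Set.mem_insert x _)) hb').1 h)
  have hset : {y | y ∈ [x, a, b]} = ({x, a, b} : Set Γ) := by ext; simp
  obtain ⟨hf, hle⟩ := card_closure_le [x, a, b] certK (x := x) rfl hx rfl (by simp [certA, certK])
    (forall_append _ (wval_base3 hx ha hb hxa hxb) (wval_lW _ (by simpa [wval, letter] using hab)))
    check_K
  rw [hset] at hle
  refine finish (Subgroup.closure {x, a, b}) (Subgroup.subset_closure (Set.mem_insert x _))
    (Subgroup.subset_closure (by simp))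
    (fun s hs => mem_of_neighbours hT hx hx1 (Subgroup.subset_closure (Set.mem_insert x _))
      (fun y hy hxy => neighbour_mem hT hx ha hb hy hxa hxb hab hxy hax hbH) hs)
    (Subgroup.closure_mono ?_) (hle.trans (by decide))
  rintro y (rfl | rfl | rfl)
  exacts [hx, ha, hb]

end Cfsg.Agent.Zassenhaus
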