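import Cfsg.Agent.Lib.Compute.TableCert

/-!
Checked derivations in a coset graph, coincidences allowed.

A fact `(c, l, d)` says that the coset of the representative `c` times the letter `l` is the coset
of the representative `d`; letters from `unit` on have value one.
-/

set_option autoImplicit false

namespace Cfsg.Agent.Zassenhaus

open Cfsg.Agent.TableCert

/-- The inverse word. -/
def invW (w : List ℕ) : List ℕ := w.reverse.map flipL

/-- A repeated word. -/
def powW : ℕ → List ℕ → List ℕ
  | 0, _ => []
  | n + 1, w => w ++ powW n w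

section Words

variable {G : Type*} [Group G] (g : List G)

theorem wval_invW (w : List ℕ) : wval g (invW w) = (wval g w)⁻¹ := by
  induction w with
  | nil => simp [invW, wval]
  | cons l w ih =>
    simp only [invW, List.reverse_cons, List.map_append, List.map_cons, List.map_nil, wval_append,
      wval, letter_flipL, mul_one, mul_inv_rev]
    rw [← invW, ih]

theorem wval_powW (n : ℕ) (w : List ℕ) : wval g (powW n w) = wval g w ^ n := by
  induction n with
  | zero => simp [powW, wval]
  | succ n ih => rw [powW, wval_append, ih, pow_succ']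

theorem letter_eq_one {l : ℕ} (h : 2 * g.length ≤ l) : letter g l = 1 := by
  have : g.getD (l / 2) 1 = 1 := List.getD_eq_default _ _ (by omega)
  rw [letter, this]; simp

theorem wval_filter (w : List ℕ) :
    wval g (w.filter fun l => decide (l < 2 * g.length)) = wval g w := by
  induction w with
  | nil => rfl
  | cons l w ih =>
    by_cases h : l < 2 * g.length
    · simp [h, wval, ih]
    · simp [h, wval, ih, letter_eq_one g (not_lt.1 h)]

end Words

/-- A derivation. -/
structure Deriv where
  unit : ℕ
  tree : List (ℕ × ℕ)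
  rels : List (List ℕ)
  sub : List ℕ
  steps : List (ℕ × ℕ × ℕ × List (ℕ × ℕ))

/-- The letters below the bound. -/
def Deriv.strip (D : Deriv) (w : List ℕ) : List ℕ := w.filter fun l => decide (l < D.unit)

/-- The end of a path. -/
def pathEnd : ℕ → List (ℕ × ℕ) → ℕ
  | c, [] => c
  | _, e :: p => pathEnd e.2 p

/-- All edges of a path are known. -/
def pathKnown (K : List (ℕ × ℕ × ℕ)) : ℕ → List (ℕ × ℕ) → Bool
  | _, [] => true
  | c, e :: p => K.contains (c, e.1, e.2) && pathKnown K e.2 p

/-- The reverse fact. -/
def revFact (f : ℕ × ℕ × ℕ) : ℕ × ℕ × ℕ := (f.2.2, flipL f.2.1, f.1)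

/-- A fact with its reverse; letters of value one are their own inverses. -/
def Deriv.both (D : Deriv) (f : ℕ × ℕ × ℕ) : List (ℕ × ℕ × ℕ) :=
  if f.2.1 < D.unit then [f, revFact f] else [f, (f.2.2, f.2.1, f.1)]

/-- The facts at the start. -/
def Deriv.start (D : Deriv) : List (ℕ × ℕ × ℕ) :=
  (D.sub.flatMap fun l => D.both (0, l, 0)) ++
    (List.range D.tree.length).flatMap fun j =>
      if (D.tree.getD j (0, 0)).1 ≤ j then
        D.both ((D.tree.getD j (0, 0)).1, (D.tree.getD j (0, 0)).2, j + 1) else []

/-- One deduction. -/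
def Deriv.step (D : Deriv) (K : List (ℕ × ℕ × ℕ)) (s : ℕ × ℕ × ℕ × List (ℕ × ℕ)) :
    List (ℕ × ℕ × ℕ) :=
  let w := D.rels.getD s.2.1 []
  if s.2.2.1 < w.length ∧ pathKnown K s.1 s.2.2.2 = true ∧
      D.strip (s.2.2.2.map Prod.fst) =
        invW (D.strip (w.take s.2.2.1)) ++ invW (D.strip (w.drop (s.2.2.1 + 1)))
  then D.both (s.1, w.getD s.2.2.1 0, pathEnd s.1 s.2.2.2) ++ K else K

/-- The check: the relators come from the given ones and the goal is reached. -/
def Deriv.check (D : Deriv) (base : List (List ℕ)) (goal : ℕ) : Bool :=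
  (D.rels.all fun r => base.contains (D.strip r) ||
    (List.range D.unit).any fun l => D.strip r == [flipL l, l]) &&
  (D.steps.foldl D.step D.start).contains (0, goal, 0)

variable {G : Type*} [Group G] (g : List G) (D : Deriv) (H : Subgroup G)

/-- The representatives. -/
def node : ℕ → G
  | 0 => 1
  | j + 1 =>
    if h : (D.tree.getD j (0, 0)).1 ≤ j then
      have : (D.tree.getD j (0, 0)).1 < j + 1 := Nat.lt_succ_of_le h
      node (D.tree.getD j (0, 0)).1 * letter g (D.tree.getD j (0, 0)).2
    else 1
  termination_by c => c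

/-- A fact that holds. -/
def Holds (f : ℕ × ℕ × ℕ) : Prop := node g D f.1 * letter g f.2.1 * (node g D f.2.2)⁻¹ ∈ H

variable {g D H}

theorem holds_both (hU : D.unit = 2 * g.length) {f : ℕ × ℕ × ℕ} (h : Holds g D H f) :
    ∀ e ∈ D.both f, Holds g D H e := by
  intro e he
  have h' := inv_mem h
  simp only [mul_inv_rev, inv_inv] at h'
  unfold Deriv.both at he
  split at he
  · rcases List.mem_cons.1 he with rfl | he
    · exact h
    · rw [List.mem_singleton.1 he]
      simpa [Holds, revFact, letter_flipL, mul_assoc] using h'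
  · rename_i hlt
    have h1 : letter g f.2.1 = 1 := letter_eq_one g (by omega)
    rcases List.mem_cons.1 he with rfl | he
    · exact h
    · rw [List.mem_singleton.1 he]
      simpa [Holds, h1, mul_assoc] using h'

theorem holds_start (hU : D.unit = 2 * g.length) (hsub : ∀ l ∈ D.sub, letter g l ∈ H) :
    ∀ e ∈ D.start, Holds g D H e := by
  intro e he
  simp only [Deriv.start, List.mem_append, List.mem_flatMap, List.mem_range] at he
  rcases he with ⟨l, hl, he⟩ | ⟨j, -, he⟩
  · exact holds_both hU (by simpa [Holds, node] using hsub l hl) e he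
  · split at he
    · rename_i hb
      refine holds_both hU ?_ e he
      dsimp only [Holds]
      conv in node g D (j + 1) => rw [node, dif_pos hb]
      simp
    · exact absurd he List.not_mem_nil

theorem holds_path {K : List (ℕ × ℕ × ℕ)} (hK : ∀ e ∈ K, Holds g D H e) :
    ∀ (p : List (ℕ × ℕ)) (c : ℕ), pathKnown K c p = true →
      node g D c * wval g (p.map Prod.fst) * (node g D (pathEnd c p))⁻¹ ∈ H := by
  intro p
  induction p with
  | nil => intro c _; simp [wval, pathEnd]
  | cons e p ih =>
    intro c h
    rw [pathKnown, Bool.and_eq_true, List.contains_iff_mem] at h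
    have := mul_mem (hK _ h.1) (ih _ h.2)
    simpa [Holds, wval, pathEnd, mul_assoc] using this

theorem holds_step (hU : D.unit = 2 * g.length) (hrel : ∀ r ∈ D.rels, wval g r = 1)
    {K : List (ℕ × ℕ × ℕ)} (hK : ∀ e ∈ K, Holds g D H e) (s : ℕ × ℕ × ℕ × List (ℕ × ℕ)) :
    ∀ e ∈ D.step K s, Holds g D H e := by
  intro e he
  obtain ⟨c, r, p, path⟩ := s
  simp only [Deriv.step] at he
  split at he
  swap
  · exact hK e he
  rename_i hb
  obtain ⟨hp, hknown, hword⟩ := hb
  rcases List.mem_append.mp he with he | he
  swap
  · exact hK e he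
  refine holds_both hU ?_ e he
  set w := D.rels.getD r [] with hw
  have hw1 : wval g w = 1 := by
    rcases lt_or_ge r D.rels.length with h | h
    · rw [hw, List.getD_eq_getElem _ _ h]
      exact hrel _ (List.getElem_mem h)
    · rw [hw, List.getD_eq_default _ _ h, wval]
  have hv : wval g (w.take p) * (letter g (w.getD p 0) * wval g (w.drop (p + 1))) = 1 := by
    rw [← hw1]
    conv_rhs => rw [← List.take_append_drop p w, ← List.getElem_cons_drop hp, wval_append, wval,
      ← List.getD_eq_getElem w 0 hp]
  have hpath : wval g (path.map Prod.fst) = letter g (w.getD p 0) := by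
    have h := congrArg (wval g) hword
    simp only [Deriv.strip, hU, wval_filter, wval_append, wval_invW] at h
    rw [h]
    exact (eq_mul_inv_of_mul_eq (eq_inv_of_mul_eq_one_right hv)).symm
  show node g D c * letter g (w.getD p 0) * (node g D (pathEnd c path))⁻¹ ∈ H
  rw [← hpath]
  exact holds_path hK path c hknown

/-- A checked derivation puts the goal letter into the subgroup. -/
theorem letter_mem_of_check {base : List (List ℕ)} {goal : ℕ} (hU : D.unit = 2 * g.length)
    (hbase : ∀ r ∈ base, wval g r = 1) (hsub : ∀ l ∈ D.sub, letter g l ∈ H)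
    (hc : D.check base goal = true) : letter g goal ∈ H := by
  simp only [Deriv.check, Bool.and_eq_true, List.all_eq_true, Bool.or_eq_true, List.any_eq_true,
    List.contains_iff_mem, beq_iff_eq] at hc
  obtain ⟨hrels, hgoal⟩ := hc
  have hrel : ∀ r ∈ D.rels, wval g r = 1 := by
    intro r hr
    rw [← wval_filter g r, ← hU]
    rcases hrels r hr with h | ⟨l, -, h⟩
    · exact hbase _ h
    · show wval g (D.strip r) = 1
      rw [h]; simp [wval, letter_flipL]
  have key : ∀ (S : List _) (K : List (ℕ × ℕ × ℕ)), (∀ e ∈ K, Holds g D H e) →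
      ∀ e ∈ S.foldl D.step K, Holds g D H e := by
    intro S
    induction S with
    | nil => exact fun K hK => hK
    | cons s S ih => exact fun K hK => ih _ (holds_step hU hrel hK s)
  simpa [Holds, node] using key _ _ (holds_start hU hsub) _ hgoal

/-- The final set of known edges of a coset table. -/
def known (C : Cert) : List (ℕ × ℕ) := C.steps.foldl C.step C.start

/-- A word leading from the base coset back to it lies in the subgroup. -/
theorem wval_mem_of_table {G : Type*} [Group G] {g : List G} {C : Cert} {H : Subgroup G}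
    (hrel : ∀ r ∈ C.rels, wval g r = 1) (hsub : ∀ l ∈ C.sub, letter g l ∈ H) (w : List ℕ)
    (h : C.allKnown (known C) 0 w = true ∧ C.endAt 0 w = 0) : wval g w ∈ H := by
  have := path_mem g C H (good_foldl g C H hrel _ _ (good_start g C H hsub)) w 0 h.1
  rw [h.2] at this
  simpa [TableCert.rep] using this

end Cfsg.Agent.Zassenhaus
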