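import Cfsg.Agent.Lib.FGStruct.Zassenhaus.Rep
import Cfsg.Agent.Lib.Transfer.Fusion
import Cfsg.Agent.Lib.Char.Burnside
import Cfsg.Agent.S0102
import Cfsg.Agent.S3378

/-!
Zassenhaus: a perfect group with a fixed-point-free representation is `SL(2, 5)`.
-/

set_option autoImplicit false
set_option linter.style.haveILetI false

namespace Cfsg.Agent.Zassenhaus

universe u

variable {G : Type u} [Group G] [Finite G]

theorem Fpf.abCyclic (hG : Fpf G) : AbCyc.AbCyclic G := by
  obtain ⟨n, K, _, _, ρ, hn, hρ⟩ := id hG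
  haveI : NeZero n := ⟨hn.ne'⟩
  haveI : Nontrivial (Fin n → K) := Function.nontrivial
  exact hρ.abCyclic

theorem Fpf.sylow_cyclic (hG : Fpf G) {p : ℕ} [Fact p.Prime] (hp : p ≠ 2) (P : Sylow p G) :
    IsCyclic P :=
  (FpfStruct.cyclic_or_quaternion P.isPGroup' (hG.abCyclic.subgroup P)).resolve_right fun h => hp h.1

theorem not_solvable_of_perfect [Nontrivial G] (hperf : commutator G = ⊤) :
    ¬ Group.IsSolvable G := fun h => by
  have := h
  exact (Group.IsSolvable.commutator_lt_top_of_nontrivial G).ne hperf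

/-- A perfect group of this kind has order 120 and quaternion Sylow 2-subgroups. -/
theorem Fpf.perfect_card (hG : Fpf G) (hperf : commutator G = ⊤) [Nontrivial G] :
    Nat.card G = 120 ∧ ∀ P : Sylow 2 G, Nonempty ((P : Subgroup G) ≃* QuaternionGroup 2) := by
  classical
  haveI : Fact (Nat.Prime 2) := ⟨Nat.prime_two⟩
  haveI : Fact (Nat.Prime 3) := ⟨Nat.prime_three⟩
  have hns := not_solvable_of_perfect hperf
  have hab := hG.abCyclic
  -- the Sylow 2-subgroups
  have hquat : ∀ P : Sylow 2 G, ∃ n : ℕ, Nonempty ((P : Subgroup G) ≃* QuaternionGroup (2 ^ n)) := by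
    intro P
    rcases FpfStruct.cyclic_or_quaternion P.isPGroup' (hab.subgroup P) with h | ⟨-, h⟩
    · exfalso
      haveI : IsZGroup G := ⟨fun p hp Q => by
        haveI := Fact.mk hp
        rcases eq_or_ne p 2 with rfl | h2
        · haveI := h
          exact isCyclic_of_surjective (P.equiv Q) (P.equiv Q).surjective
        · exact hG.sylow_cyclic h2 Q⟩
      exact hns inferInstance
    · exact h
  obtain ⟨S⟩ : Nonempty (Sylow 2 G) := inferInstance
  have hS8 : 8 ∣ Nat.card (S : Subgroup G) ∧ ¬ IsCyclic S := by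
    rcases AbCyc.structure_of_pGroup (hab.subgroup S) S.isPGroup' with
      hc | ⟨-, A, hAn, hAc, hidx, h4, hout, -⟩
    · exfalso
      haveI : IsZGroup G := ⟨fun p hp Q => by
        haveI := Fact.mk hp
        rcases eq_or_ne p 2 with rfl | h2
        · haveI := hc
          exact isCyclic_of_surjective (S.equiv Q) (S.equiv Q).surjective
        · exact hG.sylow_cyclic h2 Q⟩
      exact hns inferInstance
    · refine ⟨?_, fun h => ?_⟩
      · obtain ⟨k, hk⟩ := IsPGroup.iff_card.1 S.isPGroup'
        have hA := A.card_mul_index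
        rw [hidx, hk] at hA
        rw [hk]
        rcases k with _ | _ | _ | k
        · omega
        · simp only [pow_succ, pow_zero] at hA; omega
        · simp only [pow_succ, pow_zero] at hA; omega
        · exact ⟨2 ^ k, by ring⟩
      · haveI := h
        haveI : IsZGroup G := ⟨fun p hp Q => by
          haveI := Fact.mk hp
          rcases eq_or_ne p 2 with rfl | h2
          · exact isCyclic_of_surjective (S.equiv Q) (S.equiv Q).surjective
          · exact hG.sylow_cyclic h2 Q⟩
        exact hns inferInstance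
  have h2G : 2 ∣ Nat.card G :=
    (dvd_trans ⟨4, rfl⟩ hS8.1).trans (Subgroup.card_subgroup_dvd_card _)
  obtain ⟨z, hzo⟩ := exists_prime_orderOf_dvd_card' 2 h2G
  have hz : z ^ 2 = 1 := hzo ▸ pow_orderOf_eq_one z
  have hz1 : z ≠ 1 := fun h => by rw [h, orderOf_one] at hzo; norm_num at hzo
  -- three divides the order
  have h3G : 3 ∣ Nat.card G := by
    by_contra h3
    have hnpc : Cfsg.HasNormalPComplement 2 G := Fusion.hasNormalPComplement_of_frobenius
      fun D hD g hg hgo => by
        set f := D.normalizerMonoidHom ⟨g, hg⟩ with hf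
        have hfg : orderOf f ∣ orderOf g := by
          rw [← Subgroup.orderOf_mk g hg]; exact orderOf_map_dvd _ _
        have hf1 : f = 1 := by
          by_contra hne
          obtain ⟨s, hs, hsd⟩ := Nat.exists_prime_and_dvd (fun h => hne (orderOf_eq_one_iff.1 h))
          have hs2 : s ≠ 2 := by
            rintro rfl
            exact absurd (Nat.eq_one_of_dvd_coprimes hgo (hsd.trans hfg) dvd_rfl) (by norm_num)
          have hs3 : s ≠ 3 := fun h => h3 (h ▸ hsd.trans (hfg.trans (orderOf_dvd_natCard g)))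
          have hs4 : s ≠ 4 := fun h => by rw [h] at hs; exact absurd hs (by decide)
          have h1 := AbCyc.aut_trivial (hab.subgroup D) hD hs (by have := hs.two_le; omega)
            (by have := hs.two_le; omega) (f ^ (orderOf f / s)) (k := 1) (by
              rw [pow_one, ← pow_mul, Nat.div_mul_cancel hsd, pow_orderOf_eq_one])
          have h2 := orderOf_dvd_of_pow_eq_one h1
          have h3' := Nat.le_of_dvd (Nat.div_pos (Nat.le_of_dvd (orderOf_pos f) hsd) hs.pos) h2
          have h4' := Nat.div_lt_self (orderOf_pos f) hs.one_lt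
          omega
        have hker : (⟨g, hg⟩ : Subgroup.normalizer (D : Set G)) ∈ D.normalizerMonoidHom.ker := hf1
        rw [Subgroup.normalizerMonoidHom_ker, Subgroup.mem_subgroupOf] at hker
        exact hker
    obtain ⟨P, N, hN, hc⟩ := hnpc
    haveI := hN
    have hsolQ : Group.IsSolvable (G ⧸ N) := by
      haveI := P.isPGroup'.isNilpotent
      exact solvable_of_surjective (f := (QuotientGroup.mk' N).comp (P : Subgroup G).subtype)
        fun q => by
          obtain ⟨g, rfl⟩ := QuotientGroup.mk'_surjective N q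
          obtain ⟨⟨⟨n, hn⟩, ⟨p, hp⟩⟩, hnp⟩ := hc.2 g
          refine ⟨⟨p, hp⟩, ?_⟩
          change QuotientGroup.mk' N p = QuotientGroup.mk' N g
          rw [← hnp]
          simp [(QuotientGroup.eq_one_iff n).2 hn]
    have hNtop : N = ⊤ := by
      by_contra hne
      haveI : Nontrivial (G ⧸ N) := QuotientGroup.nontrivial_iff.2 hne
      refine not_solvable_of_perfect (G := G ⧸ N) ?_ hsolQ
      rw [← Subgroup.map_top_of_surjective _ (QuotientGroup.mk'_surjective N), ← hperf,
        map_commutator_eq]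
      simp [commutator_def]
    have hcard := hc.card_mul
    rw [hNtop, Subgroup.card_top] at hcard
    have hP2 : 8 ∣ Nat.card (P : Subgroup G) := P.card_eq_multiplicity ▸ S.card_eq_multiplicity ▸ hS8.1
    have : Nat.card (P : Subgroup G) = 1 := (Nat.mul_eq_left Nat.card_pos.ne').1 hcard
    rw [this] at hP2
    norm_num at hP2
  obtain ⟨n, K, _, _, ρ, hn, hρ⟩ := id hG
  haveI : NeZero n := ⟨hn.ne'⟩
  haveI : Nontrivial (Fin n → K) := Function.nontrivial
  have huniq : ∀ s : G, s ^ 2 = 1 → s ≠ 1 → s = z := fun s h h1 => hρ.involution_unique h h1 hz hz1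
  have hzc : ∀ g : G, Commute g z := fun g => by
    refine mul_inv_eq_iff_eq_mul.1 (huniq (g * z * g⁻¹) ?_ ?_)
    · rw [conj_pow, hz, mul_one, mul_inv_cancel]
    · rw [Ne, conj_eq_one_iff]; exact hz1
  set Z := Subgroup.zpowers z with hZ
  haveI hZn : Z.Normal := ⟨by
    rintro _ ⟨i, rfl⟩ g
    refine ⟨i, ?_⟩
    show z ^ i = g * z ^ i * g⁻¹
    rw [((hzc g).zpow_right i).eq, mul_inv_cancel_right]⟩
  set π := QuotientGroup.mk' Z with hπ
  have hT : TriGroup (G ⧸ Z) := hρ.triGroup hz hz1
  obtain ⟨x, hxo⟩ := exists_prime_orderOf_dvd_card' 3 h3G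
  have hx : x ^ 3 = 1 := hxo ▸ pow_orderOf_eq_one x
  have hx1 : x ≠ 1 := fun h => by rw [h, orderOf_one] at hxo; norm_num at hxo
  -- a second element of order three
  obtain ⟨t, ht, hnc⟩ : ∃ t : G, t ^ 3 = 1 ∧ ¬ Commute x t := by
    by_contra hno
    push Not at hno
    set R := Subgroup.zpowers x with hR
    have hconj : ∀ g : G, g * x * g⁻¹ ∈ R := fun g => by
      have h3 : (g * x * g⁻¹) ^ 3 = 1 := by rw [conj_pow, hx, mul_one, mul_inv_cancel]
      exact hρ.mem_zpowers_of_commute (hno _ h3) Nat.prime_three hx hx1 h3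
    haveI hRn : R.Normal := ⟨by
      rintro _ ⟨i, rfl⟩ g
      show g * x ^ i * g⁻¹ ∈ R
      rw [← conj_zpow]
      exact R.zpow_mem (hconj g) i⟩
    have hcomm : commutator G ≤ (MulAut.conjNormal : G →* MulAut R).ker := by
      rw [commutator_def, Subgroup.commutator_le]
      intro a _ b _
      have hab : ∀ φ ψ : MulAut R, φ * ψ = ψ * φ := by
        intro φ ψ
        obtain ⟨m, hm⟩ := φ.toMonoidHom.map_cyclic
        obtain ⟨k, hk⟩ := ψ.toMonoidHom.map_cyclic
        ext r
        have hm' : ∀ r, φ r = r ^ m := hm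
        have hk' : ∀ r, ψ r = r ^ k := hk
        rw [MulAut.mul_apply, MulAut.mul_apply, hk', hm', hm', hk', ← zpow_mul, ← zpow_mul, mul_comm]
      rw [MonoidHom.mem_ker, map_commutatorElement, commutatorElement_eq_one_iff_commute]
      exact hab _ _
    rw [hperf, top_le_iff] at hcomm
    have hcen : R ≤ Subgroup.center G := fun r hr => Subgroup.mem_center_iff.2 fun g => by
      have h := congrArg (fun φ : MulAut R => ((φ ⟨r, hr⟩ : R) : G))
        (MonoidHom.mem_ker.1 (hcomm ▸ Subgroup.mem_top g : g ∈ (MulAut.conjNormal : G →* MulAut R).ker))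
      simp only [MulAut.conjNormal_apply, MulAut.one_apply] at h
      exact mul_inv_eq_iff_eq_mul.1 h
    refine S0102.result (G := G ⧸ R) (H := G) ?_ (p := 3) ?_ (QuotientGroup.mk' R)
      (QuotientGroup.mk'_surjective R) ?_ hperf ?_
    · rw [← Subgroup.map_top_of_surjective _ (QuotientGroup.mk'_surjective R), ← hperf,
        map_commutator_eq]
      simp [commutator_def]
    · intro P
      obtain ⟨Q, rfl⟩ := Sylow.mapSurjective_surjective (QuotientGroup.mk'_surjective R) 3 P
      haveI := hG.sylow_cyclic (by norm_num) Q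
      rw [Sylow.coe_mapSurjective]
      exact isCyclic_of_surjective ((QuotientGroup.mk' R).subgroupMap (Q : Subgroup G))
        ((QuotientGroup.mk' R).subgroupMap_surjective _)
    · rwa [QuotientGroup.ker_mk']
    · rw [QuotientGroup.ker_mk', hR, Nat.card_zpowers, hxo]
  have hker : ∀ {g : G}, π g = 1 ↔ g ∈ Z := QuotientGroup.eq_one_iff _
  have hzmem : ∀ {g : G}, g ∈ Z → ∀ h : G, Commute h g := by
    rintro g ⟨i, rfl⟩ h
    exact (hzc h).zpow_right i
  have hπnc : ¬ Commute (π x) (π t) := fun hc => by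
    have hπx : π x ≠ 1 := fun h => hnc ((hzmem (hker.1 h) t).symm)
    obtain ⟨i, hi⟩ := Subgroup.mem_zpowers_iff.1
      (hT.comm _ _ (by rw [← map_pow, hx, map_one]) (by rw [← map_pow, ht, map_one]) hπx hc)
    have hm : (x ^ i)⁻¹ * t ∈ Z := hker.1 (by rw [map_mul, map_inv, map_zpow, hi, inv_mul_cancel])
    apply hnc
    rw [show t = x ^ i * ((x ^ i)⁻¹ * t) by group]
    exact (Commute.zpow_right (Commute.refl x) i).mul_right (hzmem hm x)
  obtain ⟨Hb, hHn, hH60, u, hu, v, hv, hu2, hv2, hu1, hv1, huv, hcuv⟩ :=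
    exists_small_normal hT (x := π x) (t := π t) (by rw [← map_pow, hx, map_one])
      (by rw [← map_pow, ht, map_one]) hπnc
  haveI := hHn
  set L := Hb.comap π with hL
  haveI : L.Normal := hHn.comap π
  -- a noncommutative 2-subgroup inside `L`
  set V := Subgroup.closure ({u, v} : Set (G ⧸ Z)) with hV
  have hVH : V ≤ Hb := (Subgroup.closure_le _).2 (by rintro y (rfl | rfl) <;> assumption)
  have hVsq : ∀ y ∈ V, y ^ 2 = 1 := by
    haveI : IsMulCommutative V := Subgroup.isMulCommutative_closure (by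
      rintro a (rfl | rfl) b (rfl | rfl)
      exacts [rfl, hcuv.eq, hcuv.eq.symm, rfl])
    intro y hy
    induction hy using Subgroup.closure_induction with
    | mem y hy => rcases hy with rfl | rfl <;> assumption
    | one => exact one_pow 2
    | inv a _ ha => rw [inv_pow, ha, inv_one]
    | mul a b ha hb hA hB =>
      rw [(show Commute a b from congrArg Subtype.val (mul_comm' (⟨a, ha⟩ : V) ⟨b, hb⟩)).mul_pow,
        hA, hB, mul_one]
  set E := V.comap π with hE
  have hEL : E ≤ L := Subgroup.comap_mono hVH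
  have hEp : IsPGroup 2 E := fun e => ⟨2, Subtype.ext (by
    have h1 : (e : G) ^ 2 ∈ Z := hker.1 (by rw [map_pow]; exact hVsq _ e.2)
    have h2 : orderOf z = 2 := hzo
    have h3 := orderOf_dvd_of_mem_zpowers h1
    rw [h2, orderOf_dvd_iff_pow_eq_one, ← pow_mul] at h3
    simpa using h3)⟩
  have hEnc : ¬ IsMulCommutative E := fun hc => by
    obtain ⟨U, rfl⟩ := QuotientGroup.mk'_surjective Z u
    obtain ⟨W, rfl⟩ := QuotientGroup.mk'_surjective Z v
    have hUW : Commute U W := congrArg Subtype.val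
      (mul_comm' (⟨U, Subgroup.subset_closure (Set.mem_insert _ _)⟩ : E)
        ⟨W, Subgroup.subset_closure (Set.mem_insert_of_mem _ rfl)⟩)
    have hsq : ∀ a : G, π a ^ 2 = 1 → π a ≠ 1 → a ^ 2 = z := fun a ha ha1 => by
      have h1 : a ^ 2 ∈ Z := hker.1 (by rw [map_pow]; exact ha)
      have h2 := orderOf_dvd_of_mem_zpowers h1
      rw [hzo, orderOf_dvd_iff_pow_eq_one] at h2
      by_cases h : a ^ 2 = 1
      · by_cases ha' : a = 1
        · exact absurd (by rw [ha', map_one]) ha1
        · exact absurd (hker.2 (huniq a h ha' ▸ Subgroup.mem_zpowers z)) ha1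
      · exact huniq _ h2 h
    refine huv (mul_inv_eq_one.1 ?_)
    have h1 : (U * W⁻¹) ^ 2 = 1 := by
      rw [hUW.inv_right.mul_pow, inv_pow, hsq U hu2 hu1, hsq W hv2 hv1, mul_inv_cancel]
    rw [← map_inv, ← map_mul]
    by_cases h : U * W⁻¹ = 1
    · rw [h, map_one]
    · rw [huniq _ h1 h]; exact hker.2 (Subgroup.mem_zpowers z)
  obtain ⟨S₀, hS₀⟩ := hEp.exists_le_sylow
  -- the quotient is a Z-group, so trivial
  have hZq : IsZGroup (G ⧸ L) := ⟨fun p hp P => by
    haveI := Fact.mk hp
    obtain ⟨Q, rfl⟩ := Sylow.mapSurjective_surjective (QuotientGroup.mk'_surjective L) p P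
    rw [Sylow.coe_mapSurjective]
    rcases eq_or_ne p 2 with rfl | h2
    · obtain ⟨g, hg⟩ := MulAction.exists_smul_eq G S₀ Q
      rcases AbCyc.structure_of_pGroup (hab.subgroup Q) Q.isPGroup' with
        hc | ⟨-, A, hAn, hAc, hidx, -, -, -⟩
      · haveI := hc
        exact isCyclic_of_surjective ((QuotientGroup.mk' L).subgroupMap (Q : Subgroup G))
          ((QuotientGroup.mk' L).subgroupMap_surjective _)
      -- an element of `Q ∩ L` outside `A`
      obtain ⟨k, hkL, hkA⟩ : ∃ k : Q, (k : G) ∈ L ∧ k ∉ A := by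
        by_contra hno
        push Not at hno
        refine hEnc ⟨⟨fun a b => Subtype.ext ?_⟩⟩
        have hmem : ∀ e : E, g * (e : G) * g⁻¹ ∈ (Q : Subgroup G) := fun e => by
          rw [← hg, Sylow.coe_subgroup_smul]
          exact ⟨e, hS₀ e.2, rfl⟩
        have hA : ∀ e : E, (⟨_, hmem e⟩ : Q) ∈ A := fun e =>
          hno _ ((inferInstance : L.Normal).conj_mem _ (hEL e.2) g)
        haveI := hAc
        have hcom := congrArg (fun r : A => ((r : Q) : G))
          (mul_comm' (⟨_, hA a⟩ : A) ⟨_, hA b⟩)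
        simp only [Subgroup.coe_mul] at hcom
        show (a : G) * b = b * a
        apply mul_left_cancel (a := g)
        apply mul_right_cancel (b := g⁻¹)
        simpa [mul_assoc] using hcom
      let f : A →* (Q : Subgroup G).map (QuotientGroup.mk' L) :=
        ((QuotientGroup.mk' L).subgroupMap (Q : Subgroup G)).comp A.subtype
      haveI := hAc
      refine isCyclic_of_surjective f ?_
      rintro ⟨_, q, hq, rfl⟩
      by_cases hqA : (⟨q, hq⟩ : Q) ∈ A
      · exact ⟨⟨_, hqA⟩, rfl⟩
      · have hqk : (⟨q, hq⟩ : Q) * k ∈ A := by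
          rw [Subgroup.mul_mem_iff_of_index_two hidx]
          exact iff_of_false hqA hkA
        refine ⟨⟨_, hqk⟩, Subtype.ext ?_⟩
        change QuotientGroup.mk' L (q * (k : G)) = QuotientGroup.mk' L q
        rw [map_mul]
        simp [(QuotientGroup.eq_one_iff (k : G)).2 hkL]
    · haveI := hG.sylow_cyclic h2 Q
      exact isCyclic_of_surjective ((QuotientGroup.mk' L).subgroupMap (Q : Subgroup G))
        ((QuotientGroup.mk' L).subgroupMap_surjective _)⟩
  have hLtop : L = ⊤ := by
    by_contra hne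
    haveI : Nontrivial (G ⧸ L) := QuotientGroup.nontrivial_iff.2 hne
    refine not_solvable_of_perfect (G := G ⧸ L) ?_ inferInstance
    rw [← Subgroup.map_top_of_surjective _ (QuotientGroup.mk'_surjective L), ← hperf,
      map_commutator_eq]
    simp [commutator_def]
  have hΓ : Nat.card (G ⧸ Z) ≤ 60 := by
    refine le_trans (le_of_eq ?_) hH60
    have : Hb = ⊤ := by
      rw [← Subgroup.map_comap_eq_self_of_surjective (QuotientGroup.mk'_surjective Z) Hb, ← hπ, ← hL,
        hLtop, Subgroup.map_top_of_surjective _ (QuotientGroup.mk'_surjective Z)]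
    rw [this, Subgroup.card_top]
  have hmul : Nat.card G = Nat.card (G ⧸ Z) * 2 := by
    rw [Z.card_eq_card_quotient_mul_card_subgroup, hZ, Nat.card_zpowers, hzo]
  have h24 : 24 ∣ Nat.card G := Nat.Coprime.mul_dvd_of_dvd_of_dvd (m := 8) (n := 3) (by norm_num)
    (hS8.1.trans (Subgroup.card_subgroup_dvd_card _)) h3G
  have h120 : Nat.card G = 120 := by
    obtain ⟨c, hc⟩ := h24
    have hc5 : c ≤ 5 := by omega
    have hcpos : 0 < c := Nat.pos_of_ne_zero fun h => by rw [h, mul_zero] at hc; exact Nat.card_pos.ne' hc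
    interval_cases c
    · exact (hns (Char.isSolvable_of_card_pq 2 3 Nat.prime_two Nat.prime_three _ G hc ⟨3, 1, rfl⟩)).elim
    · exact (hns (Char.isSolvable_of_card_pq 2 3 Nat.prime_two Nat.prime_three _ G hc ⟨4, 1, rfl⟩)).elim
    · exact (hns (Char.isSolvable_of_card_pq 2 3 Nat.prime_two Nat.prime_three _ G hc ⟨3, 2, rfl⟩)).elim
    · exact (hns (Char.isSolvable_of_card_pq 2 3 Nat.prime_two Nat.prime_three _ G hc ⟨5, 1, rfl⟩)).elim
    · exact hc
  refine ⟨h120, fun P => ?_⟩
  obtain ⟨m, ⟨e⟩⟩ := hquat P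
  have hP : Nat.card (P : Subgroup G) = 8 := by
    rw [P.card_eq_multiplicity, h120, show (120 : ℕ) = 2 ^ 3 * 15 from rfl,
      Nat.factorization_mul (by norm_num) (by norm_num), Nat.prime_two.factorization_pow,
      Finsupp.add_apply, Finsupp.single_eq_same,
      Nat.factorization_eq_zero_of_not_dvd (show ¬ 2 ∣ 15 by norm_num)]
    norm_num
  have hm : m = 1 := by
    haveI : NeZero (2 ^ m) := ⟨(pow_pos two_pos m).ne'⟩
    rw [Nat.card_congr e.toEquiv, Nat.card_eq_fintype_card, QuaternionGroup.card] at hP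
    have h2 : 2 ^ m = 2 ^ 1 := by omega
    exact Nat.pow_right_injective le_rfl h2
  subst hm
  exact ⟨e⟩

/-- Zassenhaus. -/
theorem Fpf.perfect_iso {G : Type u} [Group G] [Finite G] (hG : Fpf G)
    (hperf : commutator G = ⊤) [Nontrivial G] :
    Nonempty (G ≃* Matrix.SpecialLinearGroup (Fin 2) (ZMod 5)) := by
  obtain ⟨h1, h2⟩ := hG.perfect_card hperf
  exact S3378.result.1 G h1 (not_solvable_of_perfect hperf) h2

end Cfsg.Agent.Zassenhaus
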