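import Mathlib

/-!
A normal subgroup isomorphic to `SL(2, 5)`: together with its centraliser it has index at most 2.
-/

set_option autoImplicit false
set_option linter.style.haveILetI false

open scoped Pointwise commutatorElement

namespace Cfsg.Agent.SLFiveNormal

local notation "SL25" => Matrix.SpecialLinearGroup (Fin 2) (ZMod 5)

variable {G : Type*} [Group G] [Finite G] {K : Subgroup G}

theorem card_center : Nat.card (Subgroup.center SL25) = 2 := by
  haveI : Fact (Nat.Prime 5) := ⟨by norm_num⟩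
  rw [Nat.card_congr (Matrix.SpecialLinearGroup.center_equiv_rootsOfUnity (n := Fin 2) (R := ZMod 5)).toEquiv]
  have : Fintype.card (Fin 2) ⊔ 1 = 2 := by simp
  rw [this]
  exact (IsPrimitiveRoot.neg_one 5 (R := ZMod 5) (by decide)).card_rootsOfUnity

theorem card_center' (e : K ≃* SL25) : Nat.card (Subgroup.center K) = 2 := by
  rw [← card_center]
  exact Nat.card_congr (Subgroup.centerCongr e).toEquiv

omit [Finite G] in
theorem normal_le_center (e : K ≃* SL25) (hperf : ⁅K, K⁆ = K) (N : Subgroup K) [N.Normal] :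
    N ≤ Subgroup.center K ∨ N = ⊤ := by
  haveI : Fact (Nat.Prime 5) := ⟨by norm_num⟩
  haveI : IsSimpleGroup (SL25 ⧸ Subgroup.center SL25) :=
    Matrix.ProjectiveSpecialLinearGroup.rank_two_simple (by rw [Nat.card_zmod]; norm_num)
  set f := (QuotientGroup.mk' (Subgroup.center SL25)).comp e.toMonoidHom with hf
  have hker : ∀ x : K, f x = 1 → x ∈ Subgroup.center K := by
    intro x hx
    have h1 : e x ∈ Subgroup.center SL25 := (QuotientGroup.eq_one_iff _).1 hx
    refine Subgroup.mem_center_iff.2 fun y => e.injective ?_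
    rw [map_mul, map_mul, Subgroup.mem_center_iff.1 h1]
  have hfs : Function.Surjective f := (QuotientGroup.mk'_surjective _).comp e.surjective
  haveI : (N.map f).Normal := Subgroup.Normal.map inferInstance f hfs
  rcases (inferInstance : (N.map f).Normal).eq_bot_or_eq_top with h | h
  · exact Or.inl fun x hx => hker x (by
      have : f x ∈ N.map f := ⟨x, hx, rfl⟩
      rwa [h, Subgroup.mem_bot] at this)
  · right
    have hsplit : ∀ x : K, ∃ n ∈ N, n⁻¹ * x ∈ Subgroup.center K := by
      intro x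
      obtain ⟨n, hn, hnx⟩ := h.ge (Subgroup.mem_top (f x))
      exact ⟨n, hn, hker _ (by rw [map_mul, map_inv, hnx, inv_mul_cancel])⟩
    rw [eq_top_iff]
    refine le_trans ?_ (show commutator K ≤ N from ?_)
    · rintro x -
      have hc : (commutator K).map K.subtype = K := by rw [Subgroup.map_subtype_commutator, hperf]
      obtain ⟨y, hy, hyx⟩ := hc.ge x.2
      exact (Subtype.ext hyx : y = x) ▸ hy
    · rw [commutator_def, Subgroup.commutator_le]
      intro a _ b _
      obtain ⟨n, hn, hz⟩ := hsplit a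
      obtain ⟨m, hm, hw⟩ := hsplit b
      rw [← QuotientGroup.eq_one_iff, ← QuotientGroup.mk'_apply, map_commutatorElement,
        commutatorElement_eq_one_iff_commute]
      have ha : QuotientGroup.mk' N a = QuotientGroup.mk' N (n⁻¹ * a) := by
        rw [map_mul, show QuotientGroup.mk' N n⁻¹ = 1 from (QuotientGroup.eq_one_iff _).2 (inv_mem hn),
          one_mul]
      rw [ha]
      exact (show Commute (n⁻¹ * a) b from (Subgroup.mem_center_iff.1 hz b).symm).map _

omit [Finite G] in
theorem mem_subgroupOf_centralizer (z : K) :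
    z ∈ (Subgroup.centralizer (K : Set G)).subgroupOf K ↔ z ∈ Subgroup.center K := by
  rw [Subgroup.mem_subgroupOf, Subgroup.mem_centralizer_iff, Subgroup.mem_center_iff]
  exact ⟨fun h y => Subtype.ext (h y y.2), fun h y hy => congrArg Subtype.val (h ⟨y, hy⟩)⟩

theorem card_inf_centralizer (e : K ≃* SL25) :
    Nat.card (K ⊓ Subgroup.centralizer (K : Set G) : Subgroup G) = 2 := by
  rw [← card_center' e, ← Subgroup.card_map_of_injective K.subtype_injective]
  refine congrArg (fun H : Subgroup G => Nat.card H) ?_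
  ext x
  exact ⟨fun h => ⟨⟨x, h.1⟩, (mem_subgroupOf_centralizer _).1 h.2, rfl⟩,
    fun ⟨y, hy, hyx⟩ => hyx ▸ ⟨y.2, (mem_subgroupOf_centralizer y).2 hy⟩⟩

theorem card_normalizer_sylow (e : K ≃* SL25) (hperf : ⁅K, K⁆ = K) (hK : Nat.card K = 120)
    [Fact (Nat.Prime 5)] (P : Sylow 5 K) :
    Nat.card P = 5 ∧ Nat.card (Sylow 5 K) = 6 ∧
      Nat.card (Subgroup.normalizer ((P : Subgroup K) : Set K)) = 20 := by
  have hf : (120 : ℕ).factorization 5 = 1 := by
    rw [show (120 : ℕ) = 5 * 24 from rfl, Nat.factorization_mul (by norm_num) (by norm_num),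
      Finsupp.add_apply, Nat.factorization_eq_zero_of_not_dvd (show ¬ 5 ∣ 24 by norm_num)]
    rw [(by norm_num : Nat.Prime 5).factorization, Finsupp.single_eq_same]
  have hP : Nat.card P = 5 := by rw [P.card_eq_multiplicity, hK, hf, pow_one]
  have hidx : (P : Subgroup K).index = 24 := by
    have := (P : Subgroup K).card_mul_index
    rw [hK, show Nat.card (P : Subgroup K) = 5 from hP] at this
    omega
  have h1 : Nat.card (Sylow 5 K) ≠ 1 := by
    intro h
    rw [P.card_eq_index_normalizer, Subgroup.index_eq_one] at h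
    haveI : (P : Subgroup K).Normal := Subgroup.normalizer_eq_top_iff.1 h
    rcases normal_le_center e hperf (P : Subgroup K) with h' | h'
    · have := Subgroup.card_dvd_of_le h'
      rw [card_center' e, show Nat.card (P : Subgroup K) = 5 from hP] at this
      norm_num at this
    · rw [h', Subgroup.index_top] at hidx
      norm_num at hidx
  have h6 : Nat.card (Sylow 5 K) = 6 := by
    have hd : Nat.card (Sylow 5 K) ∣ 24 := hidx ▸ P.card_dvd_index
    have hm : Nat.card (Sylow 5 K) % 5 = 1 := card_sylow_modEq_one 5 K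
    have hmem : Nat.card (Sylow 5 K) ∈ Nat.divisors 24 := Nat.mem_divisors.2 ⟨hd, by norm_num⟩
    rw [show Nat.divisors 24 = {1, 2, 3, 4, 6, 8, 12, 24} from by decide] at hmem
    simp only [Finset.mem_insert, Finset.mem_singleton] at hmem
    omega
  refine ⟨hP, h6, ?_⟩
  have := (Subgroup.normalizer ((P : Subgroup K) : Set K)).card_mul_index
  have hi : (Subgroup.normalizer ((P : Subgroup K) : Set K)).index = 6 :=
    P.card_eq_index_normalizer.symm.trans h6
  rw [hi, hK] at this
  omega

/-- The Sylow 5-subgroups of `K`, as subgroups of `G`. -/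
def fives (K : Subgroup G) : Set (Subgroup G) := {Q | Q ≤ K ∧ Nat.card Q = 5}

omit [Finite G] in
theorem smul_mem_fives [hKn : K.Normal] {Q : Subgroup G} (hQ : Q ∈ fives K) (g : G) :
    MulAut.conj g • Q ∈ fives K := by
  refine ⟨?_, ?_⟩
  · rintro _ ⟨y, hy, rfl⟩
    exact hKn.conj_mem y (hQ.1 hy) g
  · rw [← hQ.2]
    exact (Nat.card_congr (Subgroup.equivSMul (MulAut.conj g) Q).toEquiv).symm

omit [Finite G] in
theorem mem_normalizer_iff_smul {Q : Subgroup G} {g : G} :
    g ∈ Subgroup.normalizer (Q : Set G) ↔ MulAut.conj g • Q = Q := by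
  rw [Subgroup.mem_normalizer_iff]
  constructor
  · intro h
    ext y
    rw [Subgroup.mem_pointwise_smul_iff_inv_smul_mem, ← map_inv, MulAut.smul_def, MulAut.conj_apply,
      inv_inv, h (g⁻¹ * y * g)]
    simp [mul_assoc]
  · intro h y
    conv_rhs => rw [← h]
    rw [Subgroup.mem_pointwise_smul_iff_inv_smul_mem, ← map_inv, MulAut.smul_def, MulAut.conj_apply]
    simp [mul_assoc]

theorem exists_sylow {Q : Subgroup G} (hQ : Q ∈ fives K) (hK : Nat.card K = 120)
    [Fact (Nat.Prime 5)] : ∃ S : Sylow 5 K, (S : Subgroup K) = Q.subgroupOf K := by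
  refine ⟨Sylow.ofCard (Q.subgroupOf K) ?_, rfl⟩
  rw [Nat.card_congr (Subgroup.subgroupOfEquivOfLe hQ.1).toEquiv, hQ.2, hK]
  rw [show (120 : ℕ) = 5 * 24 from rfl, Nat.factorization_mul (by norm_num) (by norm_num),
    Finsupp.add_apply, Nat.factorization_eq_zero_of_not_dvd (show ¬ 5 ∣ 24 by norm_num)]
  rw [(by norm_num : Nat.Prime 5).factorization, Finsupp.single_eq_same, pow_one]

theorem card_fives (e : K ≃* SL25) (hperf : ⁅K, K⁆ = K) (hK : Nat.card K = 120)
    [Fact (Nat.Prime 5)] : Nat.card (fives K) = 6 := by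
  obtain ⟨P₀⟩ : Nonempty (Sylow 5 K) := inferInstance
  rw [← (card_normalizer_sylow e hperf hK P₀).2.1]
  refine (Nat.card_congr (Equiv.ofBijective (fun S : Sylow 5 K =>
    (⟨(S : Subgroup K).map K.subtype, Subgroup.map_subtype_le _,
      (Subgroup.card_map_of_injective K.subtype_injective).trans
        (card_normalizer_sylow e hperf hK S).1⟩ : fives K)) ⟨?_, ?_⟩)).symm
  · intro S T h
    exact Sylow.ext (Subgroup.map_injective K.subtype_injective (congrArg Subtype.val h))
  · rintro ⟨Q, hQ⟩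
    obtain ⟨S, hS⟩ := exists_sylow hQ hK
    refine ⟨S, Subtype.ext ?_⟩
    show (S : Subgroup K).map K.subtype = Q
    rw [hS, Subgroup.map_subgroupOf_eq_of_le hQ.1]

theorem normalizers_le_centralizer (e : K ≃* SL25) [hKn : K.Normal] (hperf : ⁅K, K⁆ = K)
    (hK : Nat.card K = 120) [Fact (Nat.Prime 5)] {w : G}
    (hw : ∀ Q ∈ fives K, MulAut.conj w • Q = Q) : w ∈ Subgroup.centralizer (K : Set G) := by
  set W : Subgroup G := ⨅ Q ∈ fives K, Subgroup.normalizer (Q : Set G) with hW
  have hmem : ∀ g, g ∈ W ↔ ∀ Q ∈ fives K, MulAut.conj g • Q = Q := fun g => by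
    simp only [hW, Subgroup.mem_iInf, mem_normalizer_iff_smul]
  haveI : W.Normal := by
    refine ⟨fun y hy g => (hmem _).2 fun Q hQ => ?_⟩
    have h := (hmem y).1 hy _ (smul_mem_fives hQ g⁻¹)
    rw [map_mul, map_mul, mul_smul, mul_smul, h, ← mul_smul, ← map_mul, mul_inv_cancel, map_one,
      one_smul]
  have hWK : ∀ z : K, z ∈ W.subgroupOf K → z ∈ Subgroup.center K := by
    refine (normal_le_center e hperf (W.subgroupOf K)).resolve_right fun htop => ?_
    obtain ⟨S⟩ : Nonempty (Sylow 5 K) := inferInstance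
    have hS := card_normalizer_sylow e hperf hK S
    have : Subgroup.normalizer ((S : Subgroup K) : Set K) = ⊤ := by
      refine eq_top_iff.2 fun z _ => ?_
      have hz : (z : G) ∈ W := Subgroup.mem_subgroupOf.1 (htop ▸ Subgroup.mem_top z)
      have hq := mem_normalizer_iff_smul.2 ((hmem _).1 hz ((S : Subgroup K).map K.subtype)
        ⟨Subgroup.map_subtype_le _, (Subgroup.card_map_of_injective K.subtype_injective).trans hS.1⟩)
      rw [Subgroup.mem_normalizer_iff] at hq ⊢
      intro y
      have key : ∀ y : K, (y : G) ∈ (S : Subgroup K).map K.subtype ↔ y ∈ (S : Subgroup K) := fun y =>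
        Subgroup.mem_map_iff_mem K.subtype_injective
      exact (key y).symm.trans ((hq (y : G)).trans (key (z * y * z⁻¹)))
    have h20 := hS.2.2
    rw [this, Subgroup.card_top, hK] at h20
    norm_num at h20
  have hc : ⁅W, K⁆ ≤ Subgroup.centralizer (K : Set G) := by
    intro y hy
    have hyK : y ∈ K := Subgroup.commutator_le_right W K hy
    exact (mem_subgroupOf_centralizer ⟨y, hyK⟩).2 (hWK ⟨y, hyK⟩ (Subgroup.commutator_le_left W K hy))
  have h1 : ⁅⁅W, K⁆, K⁆ = ⊥ := Subgroup.commutator_eq_bot_iff_le_centralizer.2 hc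
  have h2 := Subgroup.commutator_commutator_eq_bot_of_rotate (H₁ := K) (H₂ := K) (H₃ := W)
    (by rw [Subgroup.commutator_comm K W]; exact h1) h1
  rw [hperf, Subgroup.commutator_comm, Subgroup.commutator_eq_bot_iff_le_centralizer] at h2
  exact h2 ((hmem w).2 hw)

/-- An element commuting with an element of order 5 of `K` is, up to a power of this, in the
centraliser of `K`. -/
theorem exists_pow_mul_mem (e : K ≃* SL25) [hKn : K.Normal] (hperf : ⁅K, K⁆ = K)
    (hK : Nat.card K = 120) [Fact (Nat.Prime 5)] {x u : G} (hxK : x ∈ K) (hx : orderOf x = 5)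
    (hu : Commute x u) : ∃ j : ℕ, (x ^ j)⁻¹ * u ∈ Subgroup.centralizer (K : Set G) := by
  set P := Subgroup.zpowers x with hP
  have hPf : P ∈ fives K := ⟨Subgroup.zpowers_le.2 hxK, by rw [hP, Nat.card_zpowers, hx]⟩
  have hcP : ∀ g : G, Commute x g → MulAut.conj g • P = P := by
    intro g hg
    rw [← mem_normalizer_iff_smul]
    refine Subgroup.centralizer_le_normalizer _ (Subgroup.mem_centralizer_iff.2 ?_)
    rintro y ⟨k, rfl⟩
    exact (hg.zpow_left k).eq
  have hxQ : ∀ Q ∈ fives K, MulAut.conj x • Q = Q → Q = P := by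
    intro Q hQ h
    obtain ⟨S, hS⟩ := exists_sylow hQ hK
    obtain ⟨T, hT⟩ := exists_sylow hPf hK
    have h1 : (⟨x, hxK⟩ : K) ∈ (T : Subgroup K) ⊓ Subgroup.normalizer ((S : Subgroup K) : Set K) := by
      refine ⟨hT.symm ▸ Subgroup.mem_zpowers x, Subgroup.mem_normalizer_iff.2 fun y => ?_⟩
      have := Subgroup.mem_normalizer_iff.1 (mem_normalizer_iff_smul.2 h)
      rw [hS, Subgroup.mem_subgroupOf, Subgroup.mem_subgroupOf]
      exact this (y : G)
    have h2 : (⟨x, hxK⟩ : K) ∈ (S : Subgroup K) :=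
      ((T.isPGroup'.inf_normalizer_sylow S).le h1).2
    rw [hS, Subgroup.mem_subgroupOf] at h2
    exact (Subgroup.eq_of_le_of_card_ge (Subgroup.zpowers_le.2 h2) (by rw [hPf.2, hQ.2])).symm
  obtain ⟨Q, hQ, hQP⟩ : ∃ Q ∈ fives K, Q ≠ P := by
    by_contra! h
    have : Nat.card (fives K) ≤ Nat.card ({P} : Set (Subgroup G)) := Nat.card_mono (Set.finite_singleton _) h
    rw [card_fives e hperf hK] at this
    simp at this
  let Qs : Fin 5 → Subgroup G := fun i => MulAut.conj (x ^ (i : ℕ)) • Q
  have hinj : Function.Injective Qs := by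
    intro i j hij
    by_contra hne
    refine hQP (hxQ Q hQ (mem_normalizer_iff_smul.1 ?_))
    have h1 : (x ^ (i : ℕ))⁻¹ * x ^ (j : ℕ) ∈ Subgroup.normalizer (Q : Set G) := by
      rw [mem_normalizer_iff_smul, map_mul, mul_smul, ← show Qs i = MulAut.conj (x ^ (j : ℕ)) • Q from hij,
        ← mul_smul, ← map_mul, inv_mul_cancel, map_one, one_smul]
    have h2 : (x ^ (i : ℕ))⁻¹ * x ^ (j : ℕ) = x ^ (((j : ℕ) : ℤ) - ((i : ℕ) : ℤ)) := by
      rw [← zpow_natCast, ← zpow_natCast, ← zpow_neg, ← zpow_add]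
      congr 1
      ring
    rw [h2] at h1
    have h3 : (5 : ℤ).natAbs.Coprime (((j : ℕ) : ℤ) - ((i : ℕ) : ℤ)).natAbs := by
      refine (Nat.Prime.coprime_iff_not_dvd (by norm_num)).2 fun hd => ?_
      have hd' : ((5 : ℕ) : ℤ) ∣ ((j : ℕ) : ℤ) - ((i : ℕ) : ℤ) := Int.natCast_dvd.2 hd
      have hi := i.2
      have hj := j.2
      have hne' : (i : ℕ) ≠ j := fun h => hne (Fin.ext h)
      omega
    obtain ⟨a, b, hab⟩ : IsCoprime (5 : ℤ) (((j : ℕ) : ℤ) - ((i : ℕ) : ℤ)) :=
      Int.isCoprime_iff_gcd_eq_one.2 h3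
    have h5 : x ^ (5 : ℤ) = 1 := by
      rw [show (5 : ℤ) = ((5 : ℕ) : ℤ) from rfl, zpow_natCast, ← hx, pow_orderOf_eq_one]
    rw [show x = x ^ (a * 5 + b * (((j : ℕ) : ℤ) - ((i : ℕ) : ℤ))) by rw [hab, zpow_one],
      zpow_add, mul_comm a, zpow_mul, h5, one_zpow, one_mul, mul_comm b, zpow_mul]
    exact zpow_mem h1 b
  have hQs : ∀ i, Qs i ∈ fives K := fun i => smul_mem_fives hQ _
  have hQsP : ∀ i, Qs i ≠ P := fun i h => hQP (by
    have h1 := congrArg (fun R => MulAut.conj (x ^ (i : ℕ))⁻¹ • R) h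
    simp only [Qs, ← mul_smul, ← map_mul, inv_mul_cancel, map_one, one_smul] at h1
    rw [h1]
    exact hcP _ ((Commute.refl x).pow_right _).inv_right)
  have hall : ∀ R ∈ fives K, R ≠ P → ∃ i, Qs i = R := by
    intro R hR hRP
    by_contra! hR'
    let f : Option (Option (Fin 5)) → fives K := fun o => match o with
      | none => ⟨P, hPf⟩
      | some none => ⟨R, hR⟩
      | some (some i) => ⟨Qs i, hQs i⟩
    have hf : Function.Injective f := by
      rintro (_ | _ | i) (_ | _ | j) h <;> simp only [f, Subtype.mk.injEq] at h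
      · rfl
      · exact absurd h.symm hRP
      · exact absurd h.symm (hQsP j)
      · exact absurd h hRP
      · rfl
      · exact absurd h.symm (hR' j)
      · exact absurd h (hQsP i)
      · exact absurd h (hR' i)
      · rw [hinj h]
    have := Nat.card_le_card_of_injective f hf
    simp [card_fives e hperf hK] at this
  obtain ⟨j, hj⟩ := hall _ (smul_mem_fives hQ u) fun h => hQP (by
    have h1 := congrArg (fun R => MulAut.conj u⁻¹ • R) h
    simp only [← mul_smul, ← map_mul, inv_mul_cancel, map_one, one_smul] at h1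
    rw [h1]
    exact hcP _ hu.inv_right)
  refine ⟨j, normalizers_le_centralizer e hperf hK fun R hR => ?_⟩
  have hcw : Commute x ((x ^ (j : ℕ))⁻¹ * u) :=
    (((Commute.refl x).pow_right _).inv_right).mul_right hu
  by_cases hRP : R = P
  · rw [hRP]
    exact hcP _ hcw
  obtain ⟨i, rfl⟩ := hall R hR hRP
  show MulAut.conj _ • MulAut.conj (x ^ (i : ℕ)) • Q = _
  rw [← mul_smul, ← map_mul, (hcw.pow_left (i : ℕ)).symm.eq, map_mul, mul_smul, map_mul _ (x ^ (j : ℕ))⁻¹,
    mul_smul]
  have hju : MulAut.conj (x ^ (j : ℕ)) • Q = MulAut.conj u • Q := hj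
  rw [← hju, ← mul_smul (MulAut.conj (x ^ (j : ℕ))⁻¹), ← map_mul, inv_mul_cancel, map_one, one_smul]

/-- `K` and its centraliser generate a subgroup of index at most 2. -/
theorem index_sup_centralizer (e : K ≃* SL25) [hKn : K.Normal] (hperf : ⁅K, K⁆ = K)
    (hK : Nat.card K = 120) :
    (K ⊔ Subgroup.centralizer (K : Set G)).index = 1 ∨
      (K ⊔ Subgroup.centralizer (K : Set G)).index = 2 := by
  classical
  haveI : Fact (Nat.Prime 5) := ⟨by norm_num⟩
  obtain ⟨S⟩ : Nonempty (Sylow 5 K) := inferInstance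
  obtain ⟨hS5, -, h20⟩ := card_normalizer_sylow e hperf hK S
  obtain ⟨x', hx'S, hxo'⟩ : ∃ x' : K, x' ∈ (S : Subgroup K) ∧ orderOf x' = 5 := by
    obtain ⟨y, hy⟩ := exists_prime_orderOf_dvd_card' (G := (S : Subgroup K)) 5
      (show 5 ∣ Nat.card (S : Subgroup K) from hS5.symm.dvd)
    exact ⟨y, y.2, by rwa [Subgroup.orderOf_coe]⟩
  set x : G := (x' : G) with hxdef
  have hxo : orderOf x = 5 := by rw [hxdef, Subgroup.orderOf_coe, hxo']
  set P := Subgroup.zpowers x with hP
  have hSP : (S : Subgroup K).map K.subtype = P := by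
    refine (Subgroup.eq_of_le_of_card_ge (Subgroup.zpowers_le.2 (Subgroup.mem_map_of_mem K.subtype hx'S)) ?_).symm
    rw [Nat.card_zpowers, show orderOf (K.subtype x') = 5 from hxo, Subgroup.card_map_of_injective K.subtype_injective,
      show Nat.card (S : Subgroup K) = 5 from hS5]
  set C := Subgroup.centralizer (K : Set G) with hC
  set L := K ⊔ C with hL
  set N := Subgroup.normalizer (P : Set G) with hN
  have hCP : ∀ u : G, u ∈ Subgroup.centralizer (P : Set G) → u ∈ L := by
    intro u hu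
    obtain ⟨j, hj⟩ := exists_pow_mul_mem e hperf hK x'.2 hxo
      (Subgroup.mem_centralizer_iff.1 hu x (Subgroup.mem_zpowers x))
    have := mul_mem (Subgroup.mem_sup_left (T := C) (pow_mem x'.2 j)) (Subgroup.mem_sup_right (S := K) hj)
    rwa [← hxdef, mul_inv_cancel_left] at this
  haveI : C.Normal := inferInstanceAs (Subgroup.centralizer (K : Set G)).Normal
  haveI : L.Normal := inferInstance
  have htop : N ⊔ L = ⊤ := by
    rw [eq_top_iff]
    intro g _
    obtain ⟨T, hT⟩ := exists_sylow (smul_mem_fives (⟨Subgroup.zpowers_le.2 x'.2, by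
      rw [Nat.card_zpowers, hxo]⟩ : P ∈ fives K) g) hK
    obtain ⟨k, hk⟩ := MulAction.exists_smul_eq K S T
    have h1 : MulAut.conj (k : G) • P = MulAut.conj g • P := by
      have h2 : (T : Subgroup K).map K.subtype = MulAut.conj g • P := by
        rw [hT, Subgroup.map_subgroupOf_eq_of_le]
        exact (smul_mem_fives (⟨Subgroup.zpowers_le.2 x'.2, by rw [Nat.card_zpowers, hxo]⟩ :
          P ∈ fives K) g).1
      rw [← h2, ← hk, ← hSP, Sylow.coe_subgroup_smul]
      ext y
      simp only [Subgroup.mem_map, Subgroup.mem_pointwise_smul_iff_inv_smul_mem, ← map_inv,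
        MulAut.smul_def, MulAut.conj_apply, Subgroup.coe_subtype]
      constructor
      · rintro ⟨z, hz, hzy⟩
        refine ⟨k * z * k⁻¹, by simpa [mul_assoc] using hz, ?_⟩
        push_cast
        rw [hzy]
        group
      · rintro ⟨z, hz, rfl⟩
        exact ⟨_, hz, by push_cast; group⟩
    have h3 : (k : G)⁻¹ * g ∈ N := by
      rw [hN, mem_normalizer_iff_smul, map_mul, mul_smul, ← h1, ← mul_smul, ← map_mul,
        inv_mul_cancel, map_one, one_smul]
    have := mul_mem (Subgroup.mem_sup_right (S := N) (Subgroup.mem_sup_left (T := C) k.2 : (k : G) ∈ L))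
      (Subgroup.mem_sup_left (T := L) h3)
    rwa [mul_inv_cancel_left] at this
  set ψ := P.normalizerMonoidHom with hψ
  have hAB : ψ.ker ≤ L.subgroupOf N := by
    rw [hψ, Subgroup.normalizerMonoidHom_ker]
    exact fun u hu => hCP _ hu
  have hidx : (L.subgroupOf N).index = L.index := by
    rw [← Subgroup.relIndex, ← Subgroup.relIndex_sup_right N L, htop, Subgroup.relIndex_top_right]
  have hA : ψ.ker.index ∣ 4 := by
    rw [Subgroup.index_ker]
    refine (Subgroup.card_subgroup_dvd_card _).trans ?_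
    rw [IsCyclic.card_mulAut, Nat.card_zpowers, hxo, Nat.totient_prime (by norm_num)]
  have hne : ψ.ker.relIndex (L.subgroupOf N) ≠ 1 := by
    intro h
    rw [Subgroup.relIndex_eq_one] at h
    have hle : Subgroup.normalizer ((S : Subgroup K) : Set K) ≤ (S : Subgroup K) ⊔ Subgroup.center K := by
      intro k hk
      have hkN : (k : G) ∈ N := by
        rw [hN, ← hSP, Subgroup.mem_normalizer_iff]
        intro y
        constructor
        · rintro ⟨z, hz, rfl⟩
          exact ⟨k * z * k⁻¹, (Subgroup.mem_normalizer_iff.1 hk z).1 hz, by simp⟩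
        · rintro ⟨z, hz, hzy⟩
          refine ⟨k⁻¹ * z * k, (Subgroup.mem_normalizer_iff.1 hk _).2 (by rw [show k * (k⁻¹ * z * k) * k⁻¹ = z by group]; exact hz), ?_⟩
          simp only [Subgroup.coe_subtype] at hzy
          simp [hzy, mul_assoc]
      have h1 : (⟨(k : G), hkN⟩ : N) ∈ ψ.ker := h (show (k : G) ∈ L from Subgroup.mem_sup_left k.2)
      rw [hψ, Subgroup.normalizerMonoidHom_ker, Subgroup.mem_subgroupOf] at h1
      obtain ⟨j, hj⟩ := exists_pow_mul_mem e hperf hK x'.2 hxo
        (Subgroup.mem_centralizer_iff.1 h1 x (Subgroup.mem_zpowers x))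
      have h2 : (x' ^ j)⁻¹ * k ∈ Subgroup.center K :=
        (mem_subgroupOf_centralizer _).1 (by rw [Subgroup.mem_subgroupOf]; push_cast; exact hj)
      have := mul_mem (Subgroup.mem_sup_left (T := Subgroup.center K) (pow_mem hx'S j))
        (Subgroup.mem_sup_right (S := (S : Subgroup K)) h2)
      rwa [mul_inv_cancel_left] at this
    have h10 : Nat.card ((S : Subgroup K) ⊔ Subgroup.center K : Subgroup K) ≤ 10 := by
      refine (Nat.card_le_card_of_surjective
        (fun p : ↥(S : Subgroup K) × ↥(Subgroup.center K) => (⟨(p.1 : K) * (p.2 : K),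
          mul_mem (Subgroup.mem_sup_left p.1.2) (Subgroup.mem_sup_right p.2.2)⟩ :
            ((S : Subgroup K) ⊔ Subgroup.center K : Subgroup K))) ?_).trans ?_
      · rintro ⟨y, hy⟩
        obtain ⟨a, ha, b, hb, hab⟩ := Subgroup.mem_sup_of_normal_right.1 hy
        exact ⟨(⟨a, ha⟩, ⟨b, hb⟩), Subtype.ext hab⟩
      · rw [Nat.card_prod, card_center' e, show Nat.card (S : Subgroup K) = 5 from hS5]
    have := (Subgroup.card_le_of_le hle).trans h10
    omega
  have hmul := Subgroup.relIndex_mul_index hAB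
  rw [hidx] at hmul
  have h4 : L.index ∈ Nat.divisors 4 :=
    Nat.mem_divisors.2 ⟨(hmul ▸ dvd_mul_left _ _ : L.index ∣ ψ.ker.index).trans hA, by norm_num⟩
  rw [show Nat.divisors 4 = {1, 2, 4} from by decide] at h4
  simp only [Finset.mem_insert, Finset.mem_singleton] at h4
  rcases h4 with h4 | h4 | h4
  · exact Or.inl h4
  · exact Or.inr h4
  · exfalso
    have := Nat.le_of_dvd (by norm_num) hA
    rw [← hmul, h4] at this
    rcases h : ψ.ker.relIndex (L.subgroupOf N) with _ | _ | n
    · rw [h, zero_mul] at hmul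
      exact Subgroup.index_ne_zero_of_finite hmul.symm
    · exact hne h
    · rw [h] at this
      omega

end Cfsg.Agent.SLFiveNormal
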