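import Cfsg.Agent.Lib.FGStruct.Zassenhaus.Trace

/-!
Finite groups with a fixed-point-free plane representation: counting fixed lines bounds the
projective element orders, and classifies pairs of elements of order three.
-/

set_option autoImplicit false
set_option linter.style.haveILetI false

namespace Cfsg.Agent.Zassenhaus

open Matrix
open scoped MatrixGroups

variable {K : Type*} [Field K] {H : Type*} [Group H]

/-- Linear maps of the plane with a proportional pair of kernel vectors. -/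
theorem mem_span_of_kernel {N : Matrix (Fin 2) (Fin 2) K} (hN : N ≠ 0) {v w : Fin 2 → K}
    (hv0 : v ≠ 0) (hv : N *ᵥ v = 0) (hw : N *ᵥ w = 0) : w ∈ Submodule.span K {v} := by
  have hd : v 0 * w 1 - v 1 * w 0 = 0 := by
    by_contra hd
    refine hN ?_
    have e : ∀ i, N i 0 * v 0 + N i 1 * v 1 = 0 ∧ N i 0 * w 0 + N i 1 * w 1 = 0 := fun i =>
      ⟨by simpa [mulVec, dotProduct, Fin.sum_univ_two] using congrFun hv i,
        by simpa [mulVec, dotProduct, Fin.sum_univ_two] using congrFun hw i⟩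
    ext i j
    have h0 : N i 0 * (v 0 * w 1 - v 1 * w 0) = 0 := by
      linear_combination w 1 * (e i).1 - v 1 * (e i).2
    have h1 : N i 1 * (v 0 * w 1 - v 1 * w 0) = 0 := by
      linear_combination v 0 * (e i).2 - w 0 * (e i).1
    rw [mul_eq_zero_iff_right hd] at h0 h1
    fin_cases j <;> assumption
  rw [Submodule.mem_span_singleton]
  by_cases h0 : v 0 = 0
  · have h1 : v 1 ≠ 0 := fun h => hv0 (by ext i; fin_cases i <;> assumption)
    refine ⟨w 1 / v 1, ?_⟩
    ext i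
    fin_cases i
    · have : w 0 = 0 := by
        simp only [h0, zero_mul, zero_sub, neg_eq_zero] at hd
        exact (mul_eq_zero.1 hd).resolve_left h1
      simp [h0, this]
    · simp [h1]
  · refine ⟨w 0 / v 0, ?_⟩
    ext i
    fin_cases i
    · simp [h0]
    · show w 0 / v 0 * v 1 = w 1
      field_simp
      linear_combination -hd

variable (ψ : H →* SL(2, K))

/-- The matrix of an element. -/
def mat (h : H) : Matrix (Fin 2) (Fin 2) K := (ψ h : SL(2, K))

/-- The scalar elements. -/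
def scal : Subgroup H where
  carrier := {h | IsScalarSL (ψ h)}
  one_mem' := show IsScalarSL (ψ 1) by rw [map_one]; exact scalar_one
  mul_mem' {a b} ha hb := show IsScalarSL (ψ (a * b)) by rw [map_mul]; exact scalar_mul ha hb
  inv_mem' {a} ha := show IsScalarSL (ψ a⁻¹) by rw [map_inv]; exact scalar_inv ha

theorem mem_scal {h : H} : h ∈ scal ψ ↔ IsScalarSL (ψ h) := Iff.rfl

theorem scal_normal : (scal ψ).Normal := ⟨fun n hn g => by
  rw [mem_scal, map_mul, map_mul, map_inv, ← (scalar_commute hn (ψ g)).eq, mul_inv_cancel_right]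
  exact hn⟩

theorem mat_mul (a b : H) : mat ψ (a * b) = mat ψ a * mat ψ b := by
  simp only [mat, map_mul]; rfl

theorem mat_one : mat ψ 1 = 1 := by simp [mat]

/-- The action on subspaces. -/
@[reducible] def lineAction : MulAction H (Submodule K (Fin 2 → K)) where
  smul h L := L.map (Matrix.toLin' (mat ψ h))
  one_smul L := by
    show L.map (Matrix.toLin' (mat ψ 1)) = L
    rw [mat_one, Matrix.toLin'_one, Submodule.map_id]
  mul_smul a b L := by
    show L.map (Matrix.toLin' (mat ψ (a * b))) = (L.map (Matrix.toLin' (mat ψ b))).map (Matrix.toLin' (mat ψ a))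
    rw [mat_mul, Matrix.toLin'_mul, Submodule.map_comp]

/-- The lines fixed by some nonscalar element. -/
def lines : Set (Submodule K (Fin 2 → K)) :=
  {L | ∃ v ≠ 0, L = Submodule.span K {v} ∧ ∃ h ∉ scal ψ, mat ψ h *ᵥ v ∈ Submodule.span K {v}}

theorem map_span (h : H) (v : Fin 2 → K) :
    (Submodule.span K {v}).map (Matrix.toLin' (mat ψ h)) = Submodule.span K {mat ψ h *ᵥ v} := by
  rw [Submodule.map_span, Set.image_singleton, Matrix.toLin'_apply]

theorem mat_mulVec_ne (h : H) {v : Fin 2 → K} (hv : v ≠ 0) : mat ψ h *ᵥ v ≠ 0 := fun h0 => hv (by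
  have := congrArg (fun w => mat ψ h⁻¹ *ᵥ w) h0
  rwa [mulVec_mulVec, ← mat_mul, inv_mul_cancel, mat_one, one_mulVec, mulVec_zero] at this)

theorem map_span_eq_iff (h : H) {v : Fin 2 → K} (hv : v ≠ 0) :
    (Submodule.span K {v}).map (Matrix.toLin' (mat ψ h)) = Submodule.span K {v} ↔
      mat ψ h *ᵥ v ∈ Submodule.span K {v} := by
  rw [map_span]
  refine ⟨fun e => e ▸ Submodule.mem_span_singleton_self _, fun hm => ?_⟩
  obtain ⟨c, hc⟩ := Submodule.mem_span_singleton.1 hm
  have hc0 : c ≠ 0 := fun h0 => mat_mulVec_ne ψ h hv (by rw [← hc, h0, zero_smul])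
  rw [← hc, Submodule.span_singleton_smul_eq (IsUnit.mk0 c hc0)]

variable (hfree : ∀ (h : H) (v : Fin 2 → K), v ≠ 0 → mat ψ h *ᵥ v = v → h = 1)
  (h2 : (2 : K) ≠ 0)

include hfree in
theorem commute_of_common {a b : H} {v : Fin 2 → K} (hv : v ≠ 0)
    (ha : mat ψ a *ᵥ v ∈ Submodule.span K {v}) (hb : mat ψ b *ᵥ v ∈ Submodule.span K {v}) :
    Commute a b := by
  obtain ⟨c, hc⟩ := Submodule.mem_span_singleton.1 ha
  obtain ⟨d, hd⟩ := Submodule.mem_span_singleton.1 hb
  have h1 : mat ψ (a * b) *ᵥ v = mat ψ (b * a) *ᵥ v := by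
    rw [mat_mul, mat_mul, ← mulVec_mulVec, ← mulVec_mulVec, ← hd, ← hc, mulVec_smul, mulVec_smul,
      ← hc, ← hd, smul_comm]
  have h3 := hfree ((b * a)⁻¹ * (a * b)) v hv (by
    rw [mat_mul, ← mulVec_mulVec, h1, mulVec_mulVec, ← mat_mul, inv_mul_cancel, mat_one, one_mulVec])
  exact (inv_mul_eq_one.1 h3).symm

include hfree h2 in
theorem tr_sq_ne {e : H} (he : e ∉ scal ψ) : tr2 (ψ e) ^ 2 ≠ 4 := by
  intro h4
  set τ := tr2 (ψ e) with hτ
  -- `τ / 2` is a double eigenvalue equal to `1` or `-1`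
  have hdet : (mat ψ e - (τ / 2) • 1).det = 0 := by
    have hd := (ψ e).det_coe
    rw [det_fin_two] at hd
    simp only [det_fin_two, mat, hτ, tr2, trace_fin_two, Matrix.sub_apply, Matrix.smul_apply,
      Matrix.one_apply_eq, smul_eq_mul, mul_one, ne_eq, zero_ne_one, not_false_eq_true,
      Matrix.one_apply_ne, mul_zero, sub_zero, one_ne_zero] at h4 ⊢
    field_simp
    linear_combination 4 * hd - h4
  obtain ⟨v, hv, hv'⟩ := exists_mulVec_eq_zero_iff.2 hdet
  rw [sub_mulVec, smul_mulVec, one_mulVec, sub_eq_zero] at hv'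
  have h1 : mat ψ (e ^ 2) *ᵥ v = v := by
    rw [pow_two, mat_mul, ← mulVec_mulVec, hv', mulVec_smul, hv', smul_smul]
    rw [show τ / 2 * (τ / 2) = 1 by field_simp; linear_combination h4, one_smul]
  have h3 := hfree _ v hv h1
  have h5 := coe_pow_two (ψ e)
  rw [← map_pow, h3, map_one, coe_one'] at h5
  obtain ⟨h6, -⟩ := coeff_eq he (c := 1) (h5.symm.trans (one_smul K _).symm)
  rw [← hτ] at h6
  rw [h6] at h4
  exact h2 (pow_eq_zero_iff two_ne_zero |>.1 (by linear_combination -h4 : (2 : K) ^ 2 = 0))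

include hfree h2 in
/-- A nonscalar element fixes exactly two lines. -/
theorem two_lines [IsAlgClosed K] {e : H} (he : e ∉ scal ψ) :
    ∃ L₁ L₂, L₁ ∈ lines ψ ∧ L₂ ∈ lines ψ ∧ L₁ ≠ L₂ ∧
      L₁.map (Matrix.toLin' (mat ψ e)) = L₁ ∧ L₂.map (Matrix.toLin' (mat ψ e)) = L₂ ∧
      ∀ L ∈ lines ψ, L.map (Matrix.toLin' (mat ψ e)) = L → L = L₁ ∨ L = L₂ := by
  set τ := tr2 (ψ e) with hτ
  obtain ⟨r, hr⟩ := IsAlgClosed.exists_pow_nat_eq (τ ^ 2 - 4) two_pos
  have hr0 : r ≠ 0 := fun h => tr_sq_ne ψ hfree h2 he (by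
    rw [← hτ]; rw [h, zero_pow two_ne_zero] at hr; linear_combination -hr)
  have hdet : ∀ μ : K, μ ^ 2 - τ * μ + 1 = 0 ↔ (mat ψ e - μ • 1).det = 0 := by
    intro μ
    have hd := (ψ e).det_coe
    rw [det_fin_two] at hd
    simp only [det_fin_two, mat, hτ, tr2, trace_fin_two, Matrix.sub_apply, Matrix.smul_apply,
      Matrix.one_apply_eq, smul_eq_mul, mul_one, ne_eq, zero_ne_one, not_false_eq_true,
      Matrix.one_apply_ne, mul_zero, sub_zero, one_ne_zero]
    constructor <;> intro h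
    · linear_combination h + hd
    · linear_combination h - hd
  set μ₁ := (τ + r) / 2
  set μ₂ := (τ - r) / 2
  have hne : μ₁ ≠ μ₂ := fun h => hr0 (by
    rw [show r = μ₁ - μ₂ by simp only [μ₁, μ₂]; field_simp; ring, h, sub_self])
  have hroot : ∀ μ : K, μ ^ 2 - τ * μ + 1 = 0 ↔ (μ = μ₁ ∨ μ = μ₂) := by
    intro μ
    rw [show μ ^ 2 - τ * μ + 1 = (μ - μ₁) * (μ - μ₂) by
      simp only [μ₁, μ₂]; field_simp; linear_combination hr, mul_eq_zero, sub_eq_zero, sub_eq_zero]
  have hev : ∀ μ : K, μ = μ₁ ∨ μ = μ₂ → ∃ v, v ≠ 0 ∧ mat ψ e *ᵥ v = μ • v := by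
    intro μ hμ
    obtain ⟨v, hv, hv'⟩ := exists_mulVec_eq_zero_iff.2 ((hdet μ).1 ((hroot μ).2 hμ))
    rw [sub_mulVec, smul_mulVec, one_mulVec, sub_eq_zero] at hv'
    exact ⟨v, hv, hv'⟩
  obtain ⟨v₁, hv₁, he₁⟩ := hev μ₁ (Or.inl rfl)
  obtain ⟨v₂, hv₂, he₂⟩ := hev μ₂ (Or.inr rfl)
  have hspan : ∀ {v : Fin 2 → K} {μ : K}, mat ψ e *ᵥ v = μ • v →
      mat ψ e *ᵥ v ∈ Submodule.span K {v} := fun h =>
    h ▸ Submodule.smul_mem _ _ (Submodule.mem_span_singleton_self _)
  refine ⟨Submodule.span K {v₁}, Submodule.span K {v₂}, ⟨v₁, hv₁, rfl, e, he, hspan he₁⟩,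
    ⟨v₂, hv₂, rfl, e, he, hspan he₂⟩, fun h => ?_, (map_span_eq_iff ψ e hv₁).2 (hspan he₁),
    (map_span_eq_iff ψ e hv₂).2 (hspan he₂), ?_⟩
  · obtain ⟨c, hc⟩ := Submodule.mem_span_singleton.1
      (h ▸ Submodule.mem_span_singleton_self v₁ : v₁ ∈ Submodule.span K {v₂})
    have h1 := he₁
    rw [← hc, mulVec_smul, he₂, hc, smul_comm, hc] at h1
    exact hne (smul_left_injective K hv₁ h1).symm
  · rintro L ⟨w, hw, rfl, -⟩ hfix
    obtain ⟨μ, hμ⟩ := Submodule.mem_span_singleton.1 ((map_span_eq_iff ψ e hw).1 hfix)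
    have hk : (mat ψ e - μ • 1) *ᵥ w = 0 := by
      rw [sub_mulVec, smul_mulVec, one_mulVec, hμ, sub_self]
    have hN : mat ψ e - μ • 1 ≠ 0 := fun h0 => he ⟨μ, sub_eq_zero.1 h0⟩
    have hμr := (hroot μ).1 ((hdet μ).2 (exists_mulVec_eq_zero_iff.1 ⟨w, hw, hk⟩))
    have key : ∀ v, v ≠ 0 → mat ψ e *ᵥ v = μ • v → Submodule.span K {w} = Submodule.span K {v} := by
      intro v hv hev'
      have hkv : (mat ψ e - μ • 1) *ᵥ v = 0 := by
        rw [sub_mulVec, smul_mulVec, one_mulVec, hev', sub_self]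
      exact le_antisymm ((Submodule.span_singleton_le_iff_mem _ _).2 (mem_span_of_kernel hN hv hkv hk))
        ((Submodule.span_singleton_le_iff_mem _ _).2 (mem_span_of_kernel hN hw hk hkv))
    rcases hμr with rfl | rfl
    exacts [Or.inl (key v₁ hv₁ he₁), Or.inr (key v₂ hv₂ he₂)]

variable [Finite H] [IsAlgClosed K]

include hfree h2 in
theorem scalar_pow {x t : H} (hx : x ^ 3 = 1) (ht : t ^ 3 = 1) (hnc : ¬ Commute x t) {e : H}
    (he : e ∉ scal ψ) : ∃ m, 2 ≤ m ∧ m ≤ 5 ∧ e ^ m ∈ scal ψ := by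
  classical
  letI := lineAction ψ
  haveI := scal_normal ψ
  haveI : Fintype H := Fintype.ofFinite H
  have hsmul : ∀ (h : H) (L : Submodule K (Fin 2 → K)),
      h • L = L.map (Matrix.toLin' (mat ψ h)) := fun _ _ => rfl
  choose L₁ L₂ hL₁ hL₂ hL12 hf₁ hf₂ hfix using
    fun e : {e : H // e ∉ scal ψ} => two_lines ψ hfree h2 e.2
  have hfin : (lines ψ).Finite := by
    refine ((Set.finite_range L₁).union (Set.finite_range L₂)).subset ?_
    rintro L ⟨v, hv, rfl, g, hg, hgv⟩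
    rcases hfix ⟨g, hg⟩ _ ⟨v, hv, rfl, g, hg, hgv⟩ ((map_span_eq_iff ψ g hv).2 hgv) with h | h
    exacts [Or.inl ⟨_, h.symm⟩, Or.inr ⟨_, h.symm⟩]
  haveI : Finite (lines ψ) := hfin.to_subtype
  let A : SubMulAction H (Submodule K (Fin 2 → K)) :=
    { carrier := lines ψ
      smul_mem' := by
        rintro g L ⟨v, hv, rfl, k, hk, hkv⟩
        refine ⟨mat ψ g *ᵥ v, mat_mulVec_ne ψ g hv, map_span ψ g v, g * k * g⁻¹,
          fun h => hk (by simpa [mul_assoc] using (scal_normal ψ).conj_mem _ h g⁻¹), ?_⟩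
        obtain ⟨c, hc⟩ := Submodule.mem_span_singleton.1 hkv
        refine Submodule.mem_span_singleton.2 ⟨c, ?_⟩
        rw [mulVec_mulVec, ← mat_mul, inv_mul_cancel_right, mat_mul, ← mulVec_mulVec, ← hc,
          mulVec_smul] }
  haveI : Fintype A := @Fintype.ofFinite _ (inferInstanceAs (Finite (lines ψ)))
  haveI : Fintype (MulAction.orbitRel.Quotient H A) := Fintype.ofFinite _
  set k := Fintype.card (MulAction.orbitRel.Quotient H A) with hk
  -- stabilisers
  have hstab : ∀ L : A, ∀ g ∈ MulAction.stabilizer H L, ∀ g' ∈ MulAction.stabilizer H L,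
      Commute g g' := by
    intro L g hg g' hg'
    obtain ⟨v, hv, hLv, -⟩ := L.2
    have key : ∀ k : H, k • L = L → mat ψ k *ᵥ v ∈ Submodule.span K {v} := fun k hk => by
      have h1 : k • L.1 = L.1 := congrArg Subtype.val hk
      rwa [hLv, hsmul, map_span_eq_iff ψ k hv] at h1
    exact commute_of_common ψ hfree hv (key g hg) (key g' hg')
  have hSle : ∀ L : A, (scal ψ) ≤ MulAction.stabilizer H L := by
    rintro ⟨L, v, hv, rfl, -⟩ g hg
    obtain ⟨c, hc⟩ := hg
    refine Subtype.ext ((map_span_eq_iff ψ g hv).2 ?_)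
    rw [mat, hc, smul_mulVec, one_mulVec]
    exact Submodule.smul_mem _ _ (Submodule.mem_span_singleton_self _)
  set a : A → ℕ := fun L => (MulAction.stabilizer H L).index with ha
  set m : A → ℕ := fun L => (scal ψ).relIndex (MulAction.stabilizer H L) with hm
  have ham : ∀ L, m L * a L = (scal ψ).index := fun L => Subgroup.relIndex_mul_index (hSle L)
  have hm2 : ∀ L, 2 ≤ m L := by
    intro L
    obtain ⟨v, hv, hLv, g, hg, hgv⟩ := L.2
    have h1 : m L ≠ 1 := fun h1 => hg (Subgroup.relIndex_eq_one.1 h1 (show g • L = L from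
      Subtype.ext (show g • L.1 = L.1 by rw [hLv, hsmul, map_span_eq_iff ψ g hv]; exact hgv)))
    have h0 : m L ≠ 0 := Subgroup.index_ne_zero_of_finite
    omega
  have ha3 : ∀ L, 3 ≤ a L := by
    intro L
    have hsq : ∀ y : H, y ^ 3 = 1 → y = (y ^ 2) ^ 2 := fun y hy => by
      rw [← pow_mul, show 2 * 2 = 3 + 1 from rfl, pow_succ, hy, one_mul]
    have h0 : a L ≠ 0 := Subgroup.index_ne_zero_of_finite
    have h1 : a L ≠ 1 := fun h => hnc (by
      have ht' := Subgroup.index_eq_one.1 h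
      exact hstab L x (ht' ▸ Subgroup.mem_top x) t (ht' ▸ Subgroup.mem_top t))
    have h2' : a L ≠ 2 := fun h => hnc (hstab L x
      (hsq x hx ▸ Subgroup.sq_mem_of_index_two h _) t (hsq t ht ▸ Subgroup.sq_mem_of_index_two h _))
    omega
  -- the fixed point count
  set h := (scal ψ).index with hh
  have hsum : Fintype.card A + 2 * h = k * h + 2 := by
    have hb := MulAction.sum_card_fixedBy_eq_card_orbits_mul_card_group H A
    rw [← hk, ← Finset.sum_filter_add_sum_filter_not Finset.univ (fun g => g ∈ (scal ψ))] at hb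
    have e1 : ∀ g ∈ Finset.univ.filter (fun g => g ∈ (scal ψ)),
        Fintype.card (MulAction.fixedBy A g) = Fintype.card A := by
      intro g hg
      refine Fintype.card_congr (Equiv.subtypeUnivEquiv fun L => ?_)
      exact hSle L (Finset.mem_filter.1 hg).2
    have e2 : ∀ g ∈ Finset.univ.filter (fun g => g ∉ (scal ψ)),
        Fintype.card (MulAction.fixedBy A g) = 2 := by
      intro g hg
      set g' : {e : H // e ∉ scal ψ} := ⟨g, (Finset.mem_filter.1 hg).2⟩
      rw [← Nat.card_eq_fintype_card, Nat.card_eq_two_iff]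
      refine ⟨⟨⟨L₁ g', hL₁ g'⟩, Subtype.ext (hf₁ g')⟩, ⟨⟨L₂ g', hL₂ g'⟩, Subtype.ext (hf₂ g')⟩,
        fun h => hL12 g' (congrArg Subtype.val (congrArg Subtype.val h)), ?_⟩
      refine Set.eq_univ_iff_forall.2 fun L => ?_
      rcases hfix g' L.1.1 L.1.2 (congrArg Subtype.val L.2) with h | h
      · exact Or.inl (Subtype.ext (Subtype.ext h))
      · exact Or.inr (Subtype.ext (Subtype.ext h))
    rw [Finset.sum_congr rfl e1, Finset.sum_congr rfl e2, Finset.sum_const, Finset.sum_const,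
      smul_eq_mul, smul_eq_mul] at hb
    have hs : (Finset.univ.filter (fun g => g ∈ (scal ψ))).card = Nat.card (scal ψ) := by
      rw [Nat.card_eq_fintype_card, Fintype.card_subtype]
    have hns := Finset.card_filter_add_card_filter_not (s := (Finset.univ : Finset H)) (fun g => g ∈ (scal ψ))
    rw [hs, Finset.card_univ] at hns
    rw [hs, ← hns] at hb
    have hcard : Nat.card (scal ψ) * h = Nat.card (scal ψ) + (Finset.univ.filter (fun g => g ∉ (scal ψ))).card := by
      rw [hns, ← Nat.card_eq_fintype_card, hh, (scal ψ).card_mul_index]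
    rw [← hcard] at hb
    have hpos : 0 < Nat.card (scal ψ) := Nat.card_pos
    refine Nat.eq_of_mul_eq_mul_left hpos ?_
    linear_combination hb + 2 * hcard
  let rep : MulAction.orbitRel.Quotient H A → A := Quotient.out
  have horb : Fintype.card A = ∑ ω, a (rep ω) := by
    rw [Fintype.card_congr (MulAction.selfEquivSigmaOrbits H A), Fintype.card_sigma]
    refine Finset.sum_congr rfl fun ω _ => ?_
    rw [ha, ← Nat.card_eq_fintype_card]
    show Nat.card (MulAction.orbit H (rep ω)) = (MulAction.stabilizer H (rep ω)).index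
    rw [MulAction.index_stabilizer, Nat.card_coe_set_eq]
  have hk4 : ∀ L, 2 * a L ≤ h := fun L => ham L ▸ Nat.mul_le_mul_right _ (hm2 L)
  have hk3 : k ≤ 3 := by
    have h1 : 2 * Fintype.card A ≤ k * h := by
      rw [horb, Finset.mul_sum]
      exact (Finset.sum_le_card_nsmul _ _ h fun ω _ => hk4 _).trans_eq (by rw [smul_eq_mul, hk, Finset.card_univ])
    by_contra hlt
    have : 4 * h ≤ k * h := Nat.mul_le_mul_right _ (by omega)
    omega
  -- the line of `e`
  set L : A := ⟨L₁ ⟨e, he⟩, hL₁ ⟨e, he⟩⟩ with hL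
  have heL : e ∈ MulAction.stabilizer H L := Subtype.ext (hf₁ ⟨e, he⟩)
  set ω₀ : MulAction.orbitRel.Quotient H A := Quotient.mk'' L
  obtain ⟨g, hg⟩ : ∃ g : H, g • L = rep ω₀ := MulAction.mem_orbit_iff.1
    (MulAction.orbitRel_apply.1 (Quotient.exact (Quotient.out_eq ω₀)))
  have hh2 : 2 ≤ h := (Nat.le_mul_of_pos_right 2 (by have := ha3 L; omega)).trans (hk4 L)
  have hm5 : m (rep ω₀) ≤ 5 := by
    by_contra hgt
    have h6 : 6 * a (rep ω₀) ≤ h := ham (rep ω₀) ▸ Nat.mul_le_mul_right _ (by omega)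
    have hthird : ∀ L, 2 * a L = h ∨ 3 * a L ≤ h := fun L => by
      rcases eq_or_lt_of_le (hm2 L) with e | l
      · exact Or.inl (by rw [← ham L, ← e])
      · exact Or.inr (ham L ▸ Nat.mul_le_mul_right _ l)
    have hk' : (Finset.univ.erase ω₀).card = k - 1 := by
      rw [Finset.card_erase_of_mem (Finset.mem_univ _), Finset.card_univ, hk]
    have hkpos : 0 < k := Fintype.card_pos_iff.2 ⟨ω₀⟩
    have h0 := ha3 (rep ω₀)
    rw [horb, ← Finset.add_sum_erase _ _ (Finset.mem_univ ω₀)] at hsum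
    interval_cases k
    · rw [Finset.card_eq_zero] at hk'
      rw [hk', Finset.sum_empty] at hsum
      omega
    · obtain ⟨ω, hω⟩ := Finset.card_eq_one.1 hk'
      rw [hω, Finset.sum_singleton] at hsum
      have := ha3 (rep ω)
      omega
    · obtain ⟨ω, ω', hne, hω⟩ := Finset.card_eq_two.1 hk'
      rw [hω, Finset.sum_pair hne] at hsum
      have := hthird (rep ω)
      have := hthird (rep ω')
      omega
  refine ⟨m (rep ω₀), hm2 _, hm5, ?_⟩
  -- transport to the stabiliser of the representative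
  have hst : g * e * g⁻¹ ∈ MulAction.stabilizer H (rep ω₀) := by
    rw [MulAction.mem_stabilizer_iff, ← hg, mul_smul, mul_smul, inv_smul_smul, heL]
  haveI : ((scal ψ).subgroupOf (MulAction.stabilizer H (rep ω₀))).Normal := Subgroup.normal_subgroupOf
  have := Subgroup.pow_index_mem ((scal ψ).subgroupOf (MulAction.stabilizer H (rep ω₀))) ⟨_, hst⟩
  rw [Subgroup.mem_subgroupOf, Subgroup.coe_pow, conj_pow] at this
  show e ^ ((scal ψ).subgroupOf (MulAction.stabilizer H (rep ω₀))).index ∈ scal ψ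
  simpa [mul_assoc] using (scal_normal ψ).conj_mem _ this g⁻¹

include hfree h2 in
/-- The possible traces. -/
theorem tr_cases {x t : H} (hx : x ^ 3 = 1) (ht : t ^ 3 = 1) (hnc : ¬ Commute x t) {e : H}
    (he : e ∉ scal ψ) :
    tr2 (ψ e) = 0 ∨ tr2 (ψ e) ^ 2 = 1 ∨ tr2 (ψ e) ^ 2 = 2 ∨
      tr2 (ψ e) ^ 4 - 3 * tr2 (ψ e) ^ 2 + 1 = 0 := by
  obtain ⟨m, h2m, hm5, c, hc⟩ := scalar_pow ψ hfree h2 hx ht hnc he
  rw [map_pow] at hc
  interval_cases m
  · rw [coe_pow_two] at hc
    exact Or.inl (coeff_eq he hc).1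
  · rw [coe_pow_three] at hc
    exact Or.inr (Or.inl (by linear_combination (coeff_eq he hc).1))
  · rw [coe_pow_four] at hc
    have h := (coeff_eq he hc).1
    rcases eq_or_ne (tr2 (ψ e)) 0 with h0 | h0
    · exact Or.inl h0
    · exact Or.inr (Or.inr (Or.inl (mul_left_cancel₀ h0 (by linear_combination h))))
  · rw [coe_pow_five] at hc
    exact Or.inr (Or.inr (Or.inr (coeff_eq he hc).1))

include hfree h2 in
/-- Two elements of order three in the plane. -/
theorem pair_planar {x t : H} (hx : x ^ 3 = 1) (ht : t ^ 3 = 1) (hnc : ¬ Commute x t) :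
    (x * t) ^ 2 ∈ scal ψ ∨ (x * t⁻¹) ^ 2 ∈ scal ψ ∨
      ((x * t) ^ 5 ∈ scal ψ ∧ (x * t⁻¹) ^ 5 ∈ scal ψ ∧ (x * t * x * t⁻¹) ^ 2 ∈ scal ψ ∧
        (x * t⁻¹ * x * t) ^ 2 ∈ scal ψ) := by
  have hinj : ∀ a b : H, ψ a = ψ b → a = b := fun a b h => by
    have h1 : mat ψ (a⁻¹ * b) = 1 := by simp [mat, h]
    exact inv_mul_eq_one.1 (hfree (a⁻¹ * b) (Pi.single 0 1) (by simp) (by rw [h1, one_mulVec]))
  have hcomm : ∀ a b : H, IsScalarSL (ψ a) → Commute a b := fun a b h =>
    hinj _ _ (by rw [map_mul, map_mul]; exact (scalar_commute h _).eq)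
  have hxs : x ∉ scal ψ := fun h => hnc (hcomm x t h)
  have hts : t ∉ scal ψ := fun h => hnc (hcomm t x h).symm
  have tr3 : ∀ y : H, y ^ 3 = 1 → y ∉ scal ψ → tr2 (ψ y) = -1 := fun y hy hys => by
    have h := coe_pow_three (ψ y)
    rw [← map_pow, hy, map_one, coe_one'] at h
    obtain ⟨-, h'⟩ := coeff_eq hys (c := 1) (h.symm.trans (one_smul K _).symm)
    linear_combination -h'
  have hX := tr3 x hx hxs
  have hT := tr3 t ht hts
  set τ := tr2 (ψ x * ψ t) with hτ
  have hτ' : tr2 (ψ x * (ψ t)⁻¹) = 1 - τ := by rw [tr2_mul_inv, hX, hT]; ring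
  have hXX : tr2 (ψ x * ψ t * (ψ x * ψ t)) = τ ^ 2 - 2 := tr2_sq _
  have hxxt : tr2 (ψ x * ψ x * ψ t) = -τ + 1 := by
    rw [tr2_mul_comm, ← mul_assoc, tr2_mul_sq, tr2_mul_comm, hX, hT, ← hτ]; ring
  -- the commutator
  have hκ : tr2 (ψ x * ψ t * (ψ x)⁻¹ * (ψ t)⁻¹) = τ ^ 2 - τ := by
    rw [tr2_mul_inv, hT]
    rw [show tr2 (ψ x * ψ t * (ψ x)⁻¹) = -1 by
      rw [tr2_mul_comm, ← mul_assoc, inv_mul_cancel, one_mul, hT]]
    rw [show tr2 (ψ x * ψ t * (ψ x)⁻¹ * ψ t) = tr2 (ψ t * ψ x * ψ t * (ψ x)⁻¹) by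
      rw [tr2_mul_comm, ← mul_assoc, ← mul_assoc]]
    rw [tr2_mul_inv, hX, show tr2 (ψ t * ψ x * ψ t) = -τ + 1 by
      rw [tr2_mul_comm, ← mul_assoc, tr2_mul_comm, ← mul_assoc, tr2_mul_sq, hX, hT, ← hτ]; ring,
      show ψ t * ψ x * ψ t * ψ x = ψ t * ψ x * (ψ t * ψ x) by rw [← mul_assoc], tr2_sq,
      tr2_mul_comm (ψ t), ← hτ]
    ring
  have h34 : tr2 (ψ x * ψ t * ψ x * (ψ t)⁻¹) = 1 - (τ ^ 2 - τ) := by
    rw [tr2_mul_inv, hT, tr2_mul_comm (ψ x * ψ t) (ψ x), ← mul_assoc, hxxt,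
      mul_assoc (ψ x * ψ t), hXX]
    ring
  have h34' : tr2 (ψ x * (ψ t)⁻¹ * ψ x * ψ t) = 1 - (τ ^ 2 - τ) := by
    rw [← h34, mul_assoc (ψ x * (ψ t)⁻¹), tr2_mul_comm (ψ x * (ψ t)⁻¹), ← mul_assoc]
  have toScal : ∀ (y : H) (n : ℕ) (p q : K),
      ((ψ y ^ n : SL(2, K)) : Matrix (Fin 2) (Fin 2) K) =
        p • (ψ y : Matrix (Fin 2) (Fin 2) K) + q • 1 → p = 0 → y ^ n ∈ scal ψ := by
    intro y n p q h hp
    refine ⟨q, ?_⟩
    rw [map_pow, h, hp, zero_smul, zero_add]
  have sq_of : ∀ y : H, tr2 (ψ y) = 0 → y ^ 2 ∈ scal ψ := fun y h =>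
    toScal y 2 _ _ (coe_pow_two _) h
  have five_of : ∀ y : H, tr2 (ψ y) ^ 2 = tr2 (ψ y) + 1 → y ^ 5 ∈ scal ψ := fun y h =>
    toScal y 5 _ _ (coe_pow_five _) (by linear_combination (tr2 (ψ y) ^ 2 + tr2 (ψ y) - 1) * h)
  by_cases h0 : τ = 0
  · exact Or.inl (sq_of _ (by rw [map_mul, ← hτ, h0]))
  by_cases h1 : τ = 1
  · exact Or.inr (Or.inl (sq_of _ (by rw [map_mul, map_inv, hτ', h1, sub_self])))
  -- the products are not scalar
  have hns : ∀ u v : H, ¬ Commute u v → u * v ∉ scal ψ := fun u v huv hs => huv (by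
    have h : u * v * u = u * (u * v) := hcomm _ _ hs
    exact (mul_left_cancel ((mul_assoc u v u).symm.trans h)).symm)
  have hP := hns x t hnc
  have hP' := hns x t⁻¹ fun hc => hnc (by simpa using hc.inv_right)
  have hC : x * t * x⁻¹ * t⁻¹ ∉ scal ψ := by
    rintro ⟨c, hc⟩
    rcases eq_or_ne c 1 with hc1 | hc1
    · rw [hc1, one_smul] at hc
      have : ψ (x * t * x⁻¹ * t⁻¹) = ψ 1 := by
        rw [map_one]; exact Subtype.ext (hc.trans coe_one'.symm)
      exact hnc (by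
        have h := hinj _ _ this
        rwa [mul_inv_eq_one, mul_inv_eq_iff_eq_mul] at h)
    · have hc2 : c = -1 := by
        rcases mul_self_eq_one_iff.1 ((pow_two c).symm.trans (scalar_sq hc)) with h | h
        exacts [absurd h hc1, h]
      have hm : ψ (x * t * x⁻¹) = ψ (x * t * x⁻¹ * t⁻¹) * ψ t := by
        rw [← map_mul, inv_mul_cancel_right]
      have ht2 : tr2 (ψ (x * t * x⁻¹)) = -tr2 (ψ t) := by
        rw [hm, tr2, coe_mul', hc, hc2, smul_mul_assoc, one_mul, trace_smul, neg_smul, one_smul, ← tr2]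
      rw [map_mul, map_mul, map_inv, tr2_mul_comm, ← mul_assoc, inv_mul_cancel, one_mul, hT] at ht2
      exact h2 (by linear_combination -ht2)
  have hκne : (τ ^ 2 - τ) ^ 2 ≠ 4 := by
    rw [← hκ, ← map_inv, ← map_inv, ← map_mul, ← map_mul, ← map_mul]
    exact tr_sq_ne ψ hfree h2 hC
  have n4 := tr_sq_ne ψ hfree h2 hP
  have n4' := tr_sq_ne ψ hfree h2 hP'
  have cP := tr_cases ψ hfree h2 hx ht hnc hP
  have cP' := tr_cases ψ hfree h2 hx ht hnc hP'
  rw [map_mul, ← hτ] at n4 cP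
  rw [map_mul, map_inv, hτ'] at n4' cP'
  have hτ2 : τ ^ 2 ≠ 1 := by
    intro h
    rcases mul_self_eq_one_iff.1 ((pow_two τ).symm.trans h) with h' | h'
    · exact h1 h'
    · exact n4' (by rw [h']; ring)
  have hτ2' : (1 - τ) ^ 2 ≠ 1 := by
    intro h
    have hz : τ * (τ - 2) = 0 := by linear_combination h
    exact n4 (by rw [sub_eq_zero.1 ((mul_eq_zero.1 hz).resolve_left h0)]; ring)
  have h10 : (1 : K) - τ ≠ 0 := fun h => h1 (sub_eq_zero.1 h).symm
  have cA := (cP.resolve_left h0).resolve_left hτ2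
  have cB := (cP'.resolve_left h10).resolve_left hτ2'
  have mixed : ∀ s : K, s ^ 2 = 2 → (1 - s) ^ 4 - 3 * (1 - s) ^ 2 + 1 = 0 → False := by
    intro s hs hq
    have h32 : 2 * s = 3 := by
      have : (3 : K) * (3 - 2 * s) = 0 := by linear_combination hq - (s ^ 2 - 4 * s + 5) * hs
      rcases mul_eq_zero.1 this with h3 | h3
      · exfalso
        -- in characteristic three an element of order three fixes a vector
        refine tr_sq_ne ψ hfree h2 hxs ?_
        rw [hX]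
        linear_combination -h3
      · linear_combination -h3
    have : (1 : K) = 0 := by linear_combination 4 * hs - (2 * s + 3) * h32
    exact one_ne_zero this
  have hgold : τ ^ 2 = τ + 1 := by
    rcases cA with hA | hA <;> rcases cB with hB | hB
    · exfalso
      have h2τ : 2 * τ = 1 := by linear_combination hA - hB
      have h7 : (7 : K) = 0 := by linear_combination (2 * τ + 1) * h2τ - 4 * hA
      apply hκne
      have hd : 2 * (τ ^ 2 - τ + 2) = 0 := by linear_combination 2 * hA - h2τ + h7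
      rw [show τ ^ 2 - τ = -2 by linear_combination (mul_eq_zero.1 hd).resolve_left h2]
      ring
    · exact (mixed τ hA hB).elim
    · exact (mixed (1 - τ) hB (by rw [sub_sub_cancel]; exact hA)).elim
    · by_contra hg
      have e1 : (τ ^ 2 - τ - 1) * (τ ^ 2 + τ - 1) = 0 := by linear_combination hA
      have hm : τ ^ 2 + τ - 1 = 0 := (mul_eq_zero.1 e1).resolve_left fun h =>
        hg (by linear_combination h)
      have e2 : ((1 - τ) ^ 2 - (1 - τ) - 1) * ((1 - τ) ^ 2 + (1 - τ) - 1) = 0 := by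
        linear_combination hB
      rcases mul_eq_zero.1 e2 with h | h
      · exact hg (by linear_combination h)
      · have h2τ : 2 * τ = 1 := by
          have : (2 : K) * (1 - 2 * τ) = 0 := by linear_combination h - hm
          linear_combination -((mul_eq_zero.1 this).resolve_left h2)
        have : (-1 : K) = 0 := by linear_combination 4 * hm - (2 * τ + 3) * h2τ
        exact one_ne_zero (neg_eq_zero.1 this)
  refine Or.inr (Or.inr ⟨five_of _ (by rw [map_mul, ← hτ]; exact hgold),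
    five_of _ (by rw [map_mul, map_inv, hτ']; linear_combination hgold), sq_of _ ?_, sq_of _ ?_⟩)
  · rw [map_mul, map_mul, map_mul, map_inv, h34]; linear_combination -hgold
  · rw [map_mul, map_mul, map_mul, map_inv, h34']; linear_combination -hgold

end Cfsg.Agent.Zassenhaus
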