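import Cfsg.Agent.Lib.FGStruct.AbelianCyclic
import Cfsg.Agent.Lib.Solvable.Fitting
import Mathlib.GroupTheory.SpecificGroups.KleinFour
import Mathlib.GroupTheory.SpecificGroups.Dihedral
import Mathlib.GroupTheory.SpecificGroups.Alternating
import Mathlib.GroupTheory.SpecificGroups.ZGroup

/-!
Solvable groups with trivial odd core whose Sylow 2-subgroups are generalised quaternion: the
quotient by the subgroup of squares of the 2-core is the Klein four-group, `A₄` or `S₄`.
-/

set_option autoImplicit false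
set_option linter.style.haveILetI false

namespace Cfsg.Agent.FrobQuot

section Two

variable {X : Type*} [Group X]

/-- The subgroup generated by the squares. -/
def sq (X : Type*) [Group X] : Subgroup X := Subgroup.closure (Set.range fun x : X => x ^ 2)

instance sq_characteristic : (sq X).Characteristic :=
  Subgroup.characteristic_iff_map_le.2 fun e => by
    rw [sq, MonoidHom.map_closure]
    refine Subgroup.closure_mono ?_
    rintro _ ⟨_, ⟨x, rfl⟩, rfl⟩
    exact ⟨e x, (map_pow e x 2).symm⟩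

theorem pow_two_mem (x : X) : x ^ 2 ∈ sq X := Subgroup.subset_closure ⟨x, rfl⟩

variable [Finite X]

theorem sq_spec (hab : AbCyc.AbCyclic X) (hP : IsPGroup 2 X) (hnc : ¬ IsCyclic X) :
    (sq X).index = 4 ∧ IsCyclic (sq X) := by
  haveI : Fact (Nat.Prime 2) := ⟨Nat.prime_two⟩
  obtain ⟨-, A, hAn, hAc, hidx, hA4, hout, hinv⟩ := (AbCyc.structure_of_pGroup hab hP).resolve_left hnc
  obtain ⟨a', ha'⟩ := IsCyclic.exists_generator (α := A)
  set a : X := (a' : X) with ha
  obtain ⟨k, hk⟩ := IsPGroup.iff_card.1 (hP.to_subgroup A)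
  have hk2 : 2 ≤ k := by
    by_contra h
    have : 2 ^ k ≤ 2 ^ 1 := Nat.pow_le_pow_right two_pos (by omega)
    omega
  have hao : orderOf a = 2 ^ k := by
    rw [ha, Subgroup.orderOf_coe, orderOf_eq_card_of_forall_mem_zpowers ha', hk]
  obtain ⟨b, hb⟩ : ∃ b, 2 ^ k = 2 * b ∧ 2 ∣ b := by
    refine ⟨2 ^ (k - 1), ?_, dvd_pow_self 2 (by omega)⟩
    rw [← pow_succ', Nat.sub_add_cancel (by omega)]
  have hmemA : ∀ x ∈ A, ∃ i : ℤ, a ^ i = x := by
    intro x hx
    obtain ⟨i, hi⟩ := Subgroup.mem_zpowers_iff.1 (ha' ⟨x, hx⟩)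
    exact ⟨i, by rw [ha, ← Subgroup.coe_zpow, hi]⟩
  have hsq : sq X = Subgroup.zpowers (a ^ 2) := by
    refine le_antisymm ?_ (Subgroup.zpowers_le.2 (pow_two_mem a))
    rw [sq, Subgroup.closure_le]
    rintro _ ⟨t, rfl⟩
    by_cases ht : t ∈ A
    · obtain ⟨i, rfl⟩ := hmemA t ht
      exact ⟨i, by
        show (a ^ 2) ^ i = (a ^ i) ^ 2
        rw [← zpow_natCast a 2, ← zpow_natCast (a ^ i) 2, ← zpow_mul, ← zpow_mul, mul_comm]⟩
    · have h4 := hout t ht
      have ho : orderOf (t ^ 2) = 2 := by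
        rw [orderOf_pow' t two_ne_zero, h4]
        norm_num
      obtain ⟨i, hi⟩ := hmemA _ (hinv _ ho)
      have h1 : a ^ (i * (b : ℤ)) = 1 := by
        rw [zpow_mul, hi, zpow_natCast]
        obtain ⟨c, rfl⟩ := hb.2
        rw [pow_mul]
        rw [show (t ^ 2) ^ 2 = 1 from by
          have h' := pow_orderOf_eq_one (t ^ 2)
          rwa [ho] at h', one_pow]
      rw [← orderOf_dvd_iff_zpow_eq_one, hao, hb.1] at h1
      push_cast at h1
      have hb0 : (b : ℤ) ≠ 0 := by
        have : 0 < 2 ^ k := by positivity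
        omega
      obtain ⟨j, rfl⟩ := Int.dvd_of_mul_dvd_mul_right hb0 h1
      exact ⟨j, by
        show (a ^ 2) ^ j = t ^ 2
        rw [← hi, ← zpow_natCast a 2, ← zpow_mul]; norm_num⟩
  refine ⟨?_, hsq ▸ inferInstance⟩
  have h1 := (sq X).card_mul_index
  have h2 := A.card_mul_index
  rw [hidx, hk] at h2
  rw [← h2, hsq, Nat.card_zpowers, orderOf_pow' a two_ne_zero, hao, hb.1,
    Nat.gcd_mul_right_left, Nat.mul_div_cancel_left b two_pos] at h1
  rw [hsq]
  have hb0 : 0 < b := by
    have : 0 < 2 ^ k := by positivity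
    omega
  exact Nat.eq_of_mul_eq_mul_left hb0 (h1.trans (by ring))

theorem isKleinFour (hab : AbCyc.AbCyclic X) (hP : IsPGroup 2 X) (hnc : ¬ IsCyclic X) :
    IsKleinFour (X ⧸ sq X) := by
  have hc : Nat.card (X ⧸ sq X) = 4 := (sq_spec hab hP hnc).1
  haveI : Nontrivial (X ⧸ sq X) := by
    rw [← Finite.one_lt_card_iff_nontrivial, hc]; norm_num
  refine ⟨hc, ?_⟩
  have hd : Monoid.exponent (X ⧸ sq X) ∣ 2 := Monoid.exponent_dvd_of_forall_pow_eq_one fun q => by
    induction q using QuotientGroup.induction_on with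
    | H x =>
      rw [← QuotientGroup.mk_pow, QuotientGroup.eq_one_iff]
      exact pow_two_mem x
  exact ((Nat.dvd_prime Nat.prime_two).1 hd).resolve_left fun h =>
    not_subsingleton (X ⧸ sq X) (Monoid.exp_eq_one_iff.1 h)

/-- An automorphism of order 3 centralising the quotient by the squares is trivial. -/
theorem eq_one_of_fix (hab : AbCyc.AbCyclic X) (hP : IsPGroup 2 X) (hnc : ¬ IsCyclic X)
    (σ : MulAut X) (hσ : σ ^ 3 = 1) (hfix : ∀ x, x⁻¹ * σ x ∈ sq X) : σ = 1 := by
  haveI : Fact (Nat.Prime 2) := ⟨Nat.prime_two⟩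
  haveI := (sq_spec hab hP hnc).2
  let τ : MulAut (sq X) := MulEquiv.ofBijective ((σ.toMonoidHom.comp (sq X).subtype).codRestrict (sq X)
      fun x => by
        have := mul_mem x.2 (hfix x)
        rwa [mul_inv_cancel_left] at this)
    (Finite.injective_iff_bijective.1 fun x y h => Subtype.ext (σ.injective (congrArg Subtype.val h)))
  have hτn : ∀ (j : ℕ) (x : sq X), (((τ ^ j) x : sq X) : X) = (σ ^ j) (x : X) := by
    intro j
    induction j with
    | zero => intro x; rfl
    | succ j ih =>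
      intro x
      rw [pow_succ', pow_succ', MulAut.mul_apply, MulAut.mul_apply, ← ih]
      rfl
  have hτ : τ = 1 := by
    obtain ⟨m, hm⟩ := IsPGroup.iff_card.1 (hP.to_subgroup (sq X))
    rw [← orderOf_eq_one_iff]
    refine Nat.eq_one_of_dvd_coprimes (AbCyc.coprime_totient (n := m) Nat.prime_two Nat.prime_three
      (by norm_num)) (orderOf_dvd_of_pow_eq_one (MulEquiv.ext fun x => Subtype.ext (by rw [hτn, hσ]; rfl))) ?_
    rw [← hm, ← IsCyclic.card_mulAut]
    exact orderOf_dvd_natCard τ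
  have hf : ∀ x ∈ sq X, σ x = x := fun x hx =>
    congrArg Subtype.val (DFunLike.congr_fun hτ (⟨x, hx⟩ : sq X))
  ext x
  obtain ⟨c, hc, hx⟩ : ∃ c ∈ sq X, σ x = x * c := ⟨_, hfix x, (mul_inv_cancel_left x (σ x)).symm⟩
  have h3 : (σ ^ 3) x = x * c ^ 3 := by
    show σ (σ (σ x)) = _
    rw [hx, map_mul, hx, hf c hc, map_mul, map_mul, hx, hf c hc]
    simp [pow_succ, mul_assoc]
  rw [hσ, MulAut.one_apply, eq_comm, mul_eq_left] at h3
  obtain ⟨j, hj⟩ := hP c
  have : c = 1 := orderOf_eq_one_iff.1 (Nat.eq_one_of_dvd_coprimes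
    ((by norm_num : Nat.Coprime 3 2).pow_right j)
    (orderOf_dvd_of_pow_eq_one h3) (orderOf_dvd_of_pow_eq_one hj))
  rw [MulAut.one_apply, hx, this, mul_one]

end Two

/-- An automorphism of order 3 of the Klein four-group fixing an element but one is trivial. -/
theorem klein_fix {V : Type*} [Group V] [IsKleinFour V] (π : MulAut V) (h3 : π ^ 3 = 1) {q : V}
    (hq : q ≠ 1) (hfix : π q = q) : π = 1 := by
  have hne : ∀ r : V, r ≠ 1 → r ≠ q → π r ≠ r → π r = q * r := by
    intro r h1 h2 h
    exact IsKleinFour.eq_mul_of_ne_all hq h1 (Ne.symm h2) (fun e => h1 (π.injective (e.trans (map_one π).symm)))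
      (fun e => h2 (π.injective (e.trans hfix.symm))) h
  ext r
  rw [MulAut.one_apply]
  by_contra h
  have h1 : r ≠ 1 := fun e => h (by rw [e, map_one])
  have h2 : r ≠ q := fun e => h (by rw [e, hfix])
  have e1 := hne r h1 h2 h
  have e2 : π (π r) = r := by rw [e1, map_mul, hfix, e1, ← mul_assoc, IsKleinFour.mul_self, one_mul]
  have e3 : (π ^ 3) r = π (π (π r)) := rfl
  rw [h3, MulAut.one_apply, e2] at e3
  exact h e3.symm

/-- The property of the three quotients used for uniqueness. -/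
def Good (Q : Type*) [Group Q] : Prop :=
  (∀ x : Q, x ^ 2 ≠ 1 → x ^ 3 = 1 ∨ ∃ g : Q, (x * (g * x * g⁻¹)) ^ 3 = 1 ∧ x * (g * x * g⁻¹) ≠ 1) ∧
  (∀ x : Q, x ^ 2 ≠ 1 → x ^ 3 = 1 → ∃ g : Q, (x * (g * x * g⁻¹)⁻¹) ^ 2 = 1 ∧ x * (g * x * g⁻¹)⁻¹ ≠ 1) ∧
  (Nat.card Q = 4 ∨ ∀ x : Q, x ≠ 1 → ∃ g : Q, g * x ≠ x * g) ∧
  (Nat.card Q = 4 ∨ Nat.card Q = 12 ∨ Nat.card Q = 24)

theorem good_klein : Good (DihedralGroup 2) :=
  ⟨by decide, by decide, Or.inl (by rw [Nat.card_eq_fintype_card]; rfl),
    Or.inl (by rw [Nat.card_eq_fintype_card]; rfl)⟩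

theorem good_alt : Good (alternatingGroup (Fin 4)) :=
  ⟨by decide +kernel, by decide +kernel, Or.inr (by decide +kernel),
    Or.inr (Or.inl (by rw [Nat.card_eq_fintype_card]; decide +kernel))⟩

theorem good_perm : Good (Equiv.Perm (Fin 4)) :=
  ⟨by decide +kernel, by decide +kernel, Or.inr (by decide +kernel),
    Or.inr (Or.inr (by rw [Nat.card_eq_fintype_card, Fintype.card_perm, Fintype.card_fin]; rfl))⟩

section Core

variable {G : Type*} [Group G] [Finite G]

/-- The hypotheses: solvable, trivial odd core, abelian 2-subgroups are cyclic. -/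
structure Setting (G : Type*) [Group G] [Finite G] : Prop where
  solvable : Group.IsSolvable G
  core : Cfsg.pPrimeCore 2 G = ⊥
  ab : ∀ P : Subgroup G, IsPGroup 2 P → AbCyc.AbCyclic P

/-- The 2-core. -/
abbrev T (G : Type*) [Group G] : Subgroup G := Cfsg.pCore 2 G

theorem centralizer_T_le (h : Setting G) : Subgroup.centralizer (T G : Set G) ≤ T G := by
  haveI := h.solvable
  exact FittingCores.centralizer_pCore_le Nat.prime_two h.core

theorem T_pgroup : IsPGroup 2 (T G) := FittingCores.pCore_isPGroup 2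

instance T_normal : (T G).Normal := FittingCores.pCore_normal 2

/-- Conjugation on the 2-core. -/
noncomputable abbrev conjT : G →* MulAut (T G) := MulAut.conjNormal

theorem conjT_eq_one (h : Setting G) {g : G} (hg : conjT g = 1) : g ∈ T G := by
  refine centralizer_T_le h (Subgroup.mem_centralizer_iff.2 fun t ht => ?_)
  have h1 := congrArg Subtype.val (DFunLike.congr_fun hg ⟨t, ht⟩)
  simp only [MulAut.conjNormal_apply, MulAut.one_apply] at h1
  exact (mul_inv_eq_iff_eq_mul.1 h1).symm

theorem eq_T_of_pgroup {N : Subgroup G} [hN : N.Normal] (h2 : IsPGroup 2 N) : N ≤ T G :=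
  FittingCores.le_pCore hN h2

/-- If the 2-core is cyclic, it is everything. -/
theorem T_eq_top_of_cyclic (h : Setting G) (hc : IsCyclic (T G)) : T G = ⊤ := by
  haveI := hc
  haveI : Fact (Nat.Prime 2) := ⟨Nat.prime_two⟩
  obtain ⟨m, hm⟩ := IsPGroup.iff_card.1 (T_pgroup (G := G))
  obtain ⟨j, hj⟩ : ∃ j, Nat.card (MulAut (T G)) = 2 ^ j := by
    rw [IsCyclic.card_mulAut, hm]
    rcases m with _ | m
    · exact ⟨0, by simp⟩
    · exact ⟨m, by rw [Nat.totient_prime_pow_succ Nat.prime_two]; simp⟩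
  have hker : (conjT : G →* MulAut (T G)).ker ≤ T G := fun g hg => conjT_eq_one h hg
  refine top_le_iff.1 (eq_T_of_pgroup (N := ⊤) ?_)
  intro g
  obtain ⟨g, -⟩ := g
  have h1 : g ^ 2 ^ j ∈ T G := hker (by
    rw [MonoidHom.mem_ker, map_pow, ← orderOf_dvd_iff_pow_eq_one, ← hj]
    exact orderOf_dvd_natCard _)
  obtain ⟨k, hk⟩ := T_pgroup (G := G) ⟨_, h1⟩
  refine ⟨j + k, Subtype.ext ?_⟩
  rw [SubgroupClass.coe_pow, pow_add, pow_mul, Subgroup.coe_one]
  exact congrArg Subtype.val hk

/-- The squares of the 2-core. -/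
def R (G : Type*) [Group G] : Subgroup G := (sq (T G)).map (T G).subtype

instance R_normal : (R G).Normal :=
  FittingCores.normal_map_of_characteristic (FittingCores.pCore_normal 2) inferInstance

omit [Finite G] in
theorem R_le : R G ≤ T G := Subgroup.map_subtype_le _

omit [Finite G] in
theorem mem_R {t : T G} : (t : G) ∈ R G ↔ t ∈ sq (T G) :=
  Subgroup.mem_map_iff_mem (T G).subtype_injective

theorem R_spec (h : Setting G) (hnc : ¬ IsCyclic (T G)) :
    IsCyclic (R G) ∧ Nat.card (T G) = 4 * Nat.card (R G) := by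
  obtain ⟨hi, hc⟩ := sq_spec (h.ab _ T_pgroup) T_pgroup hnc
  haveI := hc
  refine ⟨isCyclic_of_surjective ((sq (T G)).equivMapOfInjective _ (T G).subtype_injective).toMonoidHom
    ((sq (T G)).equivMapOfInjective _ (T G).subtype_injective).surjective, ?_⟩
  rw [R, Subgroup.card_map_of_injective (T G).subtype_injective, ← (sq (T G)).card_mul_index, hi,
    mul_comm]

/-- The action on the 2-core modulo its squares. -/
noncomputable def theta : G →* MulAut ((T G) ⧸ sq (T G)) :=
  MonoidHom.mk' (fun g => QuotientGroup.congr (sq (T G)) (sq (T G)) (conjT g)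
      (Subgroup.characteristic_iff_map_eq.1 inferInstance _))
    fun a b => MulEquiv.ext fun q => by
      induction q using QuotientGroup.induction_on with
      | H x =>
        show QuotientGroup.mk (conjT (a * b) x) = QuotientGroup.mk (conjT a (conjT b x))
        rw [map_mul, MulAut.mul_apply]

theorem theta_apply (g : G) (t : T G) :
    theta g (t : (T G) ⧸ sq (T G)) = ((conjT g t : T G) : (T G) ⧸ sq (T G)) := rfl

/-- An element of order 3 fixes only the trivial element of the 2-core modulo its squares. -/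
theorem fix_mem_sq (h : Setting G) (hnc : ¬ IsCyclic (T G)) {x : G} (hx : x ^ 3 = 1) (hx1 : x ≠ 1)
    {t : T G} (ht : theta x (t : (T G) ⧸ sq (T G)) = t) : t ∈ sq (T G) := by
  haveI := isKleinFour (h.ab _ T_pgroup) T_pgroup hnc
  by_contra hts
  have h1 : theta x = 1 := klein_fix (theta x) (by rw [← map_pow, hx, map_one])
    (fun e => hts ((QuotientGroup.eq_one_iff t).1 e)) ht
  have h2 : conjT x = 1 := eq_one_of_fix (h.ab _ T_pgroup) T_pgroup hnc (conjT x)
    (by rw [← map_pow, hx, map_one]) fun y => QuotientGroup.eq.1 (by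
      rw [← theta_apply, h1, MulAut.one_apply])
  obtain ⟨k, hk⟩ := T_pgroup (G := G) ⟨x, conjT_eq_one h h2⟩
  exact hx1 (orderOf_eq_one_iff.1 (Nat.eq_one_of_dvd_coprimes
    ((by norm_num : Nat.Coprime 3 2).pow_right k) (orderOf_dvd_of_pow_eq_one hx)
    (orderOf_dvd_of_pow_eq_one (congrArg Subtype.val hk))))

/-- The only primes are 2 and 3. -/
theorem prime_le_three (h : Setting G) {s : ℕ} (hs : s.Prime) {x : G} (hx : orderOf x = s) :
    s ≤ 3 := by
  by_contra hs3
  haveI : Fact (Nat.Prime 2) := ⟨Nat.prime_two⟩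
  have hs4 : s ≠ 4 := fun e => by rw [e] at hs; norm_num at hs
  have h2 : conjT x = 1 := AbCyc.aut_trivial (h.ab _ T_pgroup) T_pgroup hs (by omega) (by omega)
    (conjT x) (k := 1) (by rw [pow_one, ← map_pow, ← hx, pow_orderOf_eq_one, map_one])
  obtain ⟨k, hk⟩ := T_pgroup (G := G) ⟨x, conjT_eq_one h h2⟩
  have := Nat.eq_one_of_dvd_coprimes (((Nat.coprime_primes hs Nat.prime_two).2 (by omega)).pow_right k)
    hx.dvd (orderOf_dvd_of_pow_eq_one (congrArg Subtype.val hk))
  exact hs.ne_one (hx ▸ this)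

/-- A normal subgroup without elements of order 3 is in the 2-core. -/
theorem le_T_of_no_three (h : Setting G) {W : Subgroup G} [W.Normal]
    (h3 : ∀ x ∈ W, orderOf x ≠ 3) : W ≤ T G := by
  haveI : Fact (Nat.Prime 2) := ⟨Nat.prime_two⟩
  refine eq_T_of_pgroup (IsPGroup.of_card (n := (Nat.card W).factorization 2) ?_)
  refine Nat.eq_of_factorization_eq Nat.card_pos.ne' (by positivity) fun s => ?_
  rw [Nat.prime_two.factorization_pow]
  rcases eq_or_ne s 2 with rfl | hs2
  · simp
  rw [Finsupp.single_eq_of_ne hs2]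
  by_contra hne
  have hsp : s.Prime := by
    by_contra hsp
    exact hne (Nat.factorization_eq_zero_of_not_prime _ hsp)
  haveI := Fact.mk hsp
  obtain ⟨x, hx⟩ := exists_prime_orderOf_dvd_card' (G := W) s (Nat.dvd_of_factorization_pos hne)
  rw [← Subgroup.orderOf_coe] at hx
  have := prime_le_three h hsp hx
  have := hsp.two_le
  exact h3 x x.2 (by omega)

theorem quot_two_group (h : Setting G) (hnc : ¬ IsCyclic (T G)) (hT : T G = ⊤) :
    ∃ f : G →* DihedralGroup 2, Function.Surjective f ∧ f.ker = R G := by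
  have hc : Nat.card (G ⧸ R G) = 4 := by
    have h1 := (R G).card_mul_index
    rw [← Subgroup.card_top (G := G), ← hT, (R_spec h hnc).2, mul_comm 4] at h1
    exact Nat.eq_of_mul_eq_mul_left Nat.card_pos h1
  haveI : Nontrivial (G ⧸ R G) := by rw [← Finite.one_lt_card_iff_nontrivial, hc]; norm_num
  haveI : IsKleinFour (G ⧸ R G) := ⟨hc, ((Nat.dvd_prime Nat.prime_two).1
    (Monoid.exponent_dvd_of_forall_pow_eq_one fun q => by
      induction q using QuotientGroup.induction_on with
      | H x =>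
        rw [← QuotientGroup.mk_pow, QuotientGroup.eq_one_iff]
        exact (mem_R (t := (⟨x, hT ▸ Subgroup.mem_top x⟩ : T G) ^ 2)).2 (pow_two_mem _))).resolve_left
      fun e => not_subsingleton (G ⧸ R G) (Monoid.exp_eq_one_iff.1 e)⟩
  obtain ⟨e⟩ := IsKleinFour.nonempty_mulEquiv (G₁ := G ⧸ R G) (G₂ := DihedralGroup 2)
  refine ⟨e.toMonoidHom.comp (QuotientGroup.mk' (R G)),
    e.surjective.comp (QuotientGroup.mk'_surjective _), ?_⟩
  ext x
  simp [MonoidHom.mem_ker]

theorem quot_three (h : Setting G) (hnc : ¬ IsCyclic (T G)) (hT : T G ≠ ⊤) :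
    (∃ f : G →* alternatingGroup (Fin 4), Function.Surjective f ∧ f.ker = R G) ∨
      (∃ f : G →* Equiv.Perm (Fin 4), Function.Surjective f ∧ f.ker = R G) := by
  classical
  haveI : Fact (Nat.Prime 2) := ⟨Nat.prime_two⟩
  haveI : Fact (Nat.Prime 3) := ⟨Nat.prime_three⟩
  have hab := h.ab _ (T_pgroup (G := G))
  haveI hK := isKleinFour hab T_pgroup hnc
  obtain ⟨x, hx⟩ : ∃ x : G, orderOf x = 3 := by
    by_contra! h3
    exact hT (top_le_iff.1 (le_T_of_no_three h (W := ⊤) fun x _ => h3 x))
  have hx1 : x ≠ 1 := fun e => by rw [e, orderOf_one] at hx; norm_num at hx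
  have hx3 : x ^ 3 = 1 := by rw [← hx, pow_orderOf_eq_one]
  -- the 2-core has order 8
  have hT8 : Nat.card (T G) = 8 := by
    obtain ⟨-, A, hAn, hAc, hidx, hA4, hout, -⟩ :=
      (AbCyc.structure_of_pGroup hab T_pgroup).resolve_left hnc
    have h2 := A.card_mul_index
    rw [hidx] at h2
    by_contra h8
    obtain ⟨a, ha⟩ := IsCyclic.exists_generator (α := A)
    have hao : orderOf (a : T G) = Nat.card A := by
      rw [Subgroup.orderOf_coe, orderOf_eq_card_of_forall_mem_zpowers ha]
    have hsA : sq (T G) ≤ A := by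
      rw [sq, Subgroup.closure_le]
      rintro _ ⟨t, rfl⟩
      exact Subgroup.sq_mem_of_index_two hidx t
    obtain ⟨hsi, -⟩ := sq_spec hab T_pgroup hnc
    have hans : (a : T G) ∉ sq (T G) := fun e => by
      have hle : A ≤ sq (T G) := fun y hy => by
        obtain ⟨i, hi⟩ := Subgroup.mem_zpowers_iff.1 (ha ⟨y, hy⟩)
        rw [show y = (a : T G) ^ i by rw [← Subgroup.coe_zpow, hi]]
        exact zpow_mem e i
      rw [le_antisymm hsA hle, hidx] at hsi
      omega
    have hin : conjT x (a : T G) ∈ A := by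
      by_contra hout'
      have := hout _ hout'
      rw [MulEquiv.orderOf_eq, hao] at this
      omega
    have hrel : ∀ u ∈ A, u ∉ sq (T G) → u⁻¹ * (a : T G) ∈ sq (T G) := by
      intro u hu hus
      obtain ⟨i, hi⟩ := Subgroup.mem_zpowers_iff.1 (ha ⟨u, hu⟩)
      have hu' : u = (a : T G) ^ i := by rw [← Subgroup.coe_zpow, hi]
      have hodd : i % 2 = 1 := by
        by_contra he
        apply hus
        obtain ⟨j, rfl⟩ : ∃ j, i = 2 * j := ⟨i / 2, by omega⟩
        rw [hu', zpow_mul, show ((a : T G) ^ (2 : ℤ)) = (a : T G) ^ 2 from zpow_natCast _ 2]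
        exact zpow_mem (pow_two_mem _) j
      obtain ⟨j, rfl⟩ : ∃ j, i = 2 * j + 1 := ⟨i / 2, by omega⟩
      rw [hu', show ((a : T G) ^ (2 * j + 1))⁻¹ * (a : T G) = (a : T G) ^ (-(2 * j + 1) + 1) by
          rw [zpow_add_one _ (-(2 * j + 1)), zpow_neg],
        show -(2 * j + 1) + 1 = 2 * (-j) by ring, zpow_mul,
        show ((a : T G) ^ (2 : ℤ)) = (a : T G) ^ 2 from zpow_natCast _ 2]
      exact zpow_mem (pow_two_mem _) (-j)
    refine hans (fix_mem_sq h hnc hx3 hx1 ?_)
    rw [theta_apply]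
    refine QuotientGroup.eq.2 (hrel _ hin fun e => hans ?_)
    have := (Subgroup.characteristic_iff_map_eq.1 (inferInstance : (sq (T G)).Characteristic)
      (conjT x)).ge e
    obtain ⟨y, hy, hyx⟩ := this
    exact (conjT x).injective hyx ▸ hy
  have hR2 : Nat.card (R G) = 2 := by
    have := (R_spec h hnc).2
    omega
  have hRc : ∀ (g : G), ∀ r ∈ R G, g * r * g⁻¹ = r := by
    intro g r hr
    obtain ⟨z, -, hz⟩ := Nat.card_eq_two_iff' (1 : R G) |>.1 hR2
    by_cases hr1 : r = 1
    · simp [hr1]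
    · have h1 := hz ⟨r, hr⟩ (fun e => hr1 (congrArg Subtype.val e))
      have h2 := hz ⟨g * r * g⁻¹, (R_normal (G := G)).conj_mem r hr g⟩ fun e => hr1 (by
        have := congrArg Subtype.val e
        simpa using this)
      exact congrArg Subtype.val (h2.trans h1.symm)
  -- the group modulo the 2-core
  have hker : (theta (G := G)).ker = T G := by
    refine le_antisymm (le_T_of_no_three h fun y hy hy3 => ?_) fun t ht => ?_
    · have hy1 : y ≠ 1 := fun e => by rw [e, orderOf_one] at hy3; norm_num at hy3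
      obtain ⟨t, ht⟩ : ∃ t : T G, t ∉ sq (T G) := by
        by_contra! hall
        have := (sq_spec hab T_pgroup hnc).1
        rw [show sq (T G) = ⊤ from eq_top_iff.2 fun t _ => hall t, Subgroup.index_top] at this
        norm_num at this
      exact ht (fix_mem_sq h hnc (by rw [← hy3, pow_orderOf_eq_one]) hy1 (by
        rw [MonoidHom.mem_ker.1 hy, MulAut.one_apply]))
    · refine MonoidHom.mem_ker.2 (MulEquiv.ext fun q => ?_)
      induction q using QuotientGroup.induction_on with
      | H u =>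
        rw [theta_apply, MulAut.one_apply, show conjT t u = (⟨t, ht⟩ : T G) * u * (⟨t, ht⟩ : T G)⁻¹ from
          Subtype.ext (MulAut.conjNormal_apply t u)]
        haveI : IsMulCommutative ((T G) ⧸ sq (T G)) := IsKleinFour.isMulCommutative
        rw [QuotientGroup.mk_mul, QuotientGroup.mk_mul, mul_comm' (QuotientGroup.mk (⟨t, ht⟩ : T G)),
          QuotientGroup.mk_inv, mul_inv_cancel_right]
  have hidx6 : (T G).index ∣ 6 := by
    rw [← hker, Subgroup.index_ker]
    refine (Subgroup.card_subgroup_dvd_card _).trans ?_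
    let V := (T G) ⧸ sq (T G)
    let Φ : MulAut V →* Equiv.Perm {q : V // q ≠ 1} := MonoidHom.mk'
      (fun π => π.toEquiv.subtypeEquiv fun q => by simp)
      fun a b => Equiv.ext fun q => Subtype.ext rfl
    have hΦ : Function.Injective Φ := fun a b e => MulEquiv.ext fun q => by
      by_cases hq : q = 1
      · simp [hq]
      · exact congrArg Subtype.val (DFunLike.congr_fun e (⟨q, hq⟩ : {q : V // q ≠ 1}))
    refine (Subgroup.card_dvd_of_injective Φ hΦ).trans ?_
    haveI := Fintype.ofFinite V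
    rw [Nat.card_eq_fintype_card, Fintype.card_perm, Fintype.card_subtype_compl,
      Fintype.card_subtype_eq, ← Nat.card_eq_fintype_card, hK.card_four]
    decide
  have hcard := (T G).card_mul_index
  rw [hT8] at hcard
  have h3dvd : 3 ∣ Nat.card G := hx ▸ orderOf_dvd_natCard x
  have hG : Nat.card G = 24 ∨ Nat.card G = 48 := by
    have := Nat.le_of_dvd (by norm_num) hidx6
    interval_cases hh : (T G).index <;> omega
  -- four Sylow 3-subgroups
  have hP3 : ∀ P : Sylow 3 G, Nat.card (P : Subgroup G) = 3 := by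
    intro P
    rw [P.card_eq_multiplicity]
    have hfac : ∀ m : ℕ, ¬ 3 ∣ m → (3 * m).factorization 3 = 1 := fun m hm => by
      rw [Nat.factorization_mul (by norm_num) (fun e => hm (by rw [e]; exact dvd_zero 3)), Finsupp.add_apply,
        Nat.prime_three.factorization, Finsupp.single_eq_same, Nat.factorization_eq_zero_of_not_dvd hm]
    rcases hG with e | e <;> rw [e]
    · rw [show 24 = 3 * 8 from rfl, hfac 8 (by norm_num), pow_one]
    · rw [show 48 = 3 * 16 from rfl, hfac 16 (by norm_num), pow_one]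
  have hgen : ∀ P : Sylow 3 G, ∃ y ∈ (P : Subgroup G), orderOf y = 3 := by
    intro P
    obtain ⟨y, hy⟩ := exists_prime_orderOf_dvd_card' (G := (P : Subgroup G)) 3 (hP3 P).symm.dvd
    exact ⟨y, y.2, by rwa [Subgroup.orderOf_coe]⟩
  have hnorm : ∀ (P : Sylow 3 G) (t : T G), (t : G) ∈ Subgroup.normalizer ((P : Subgroup G) : Set G) →
      (t : G) ∈ R G := by
    intro P t ht
    obtain ⟨y, hyP, hy3⟩ := hgen P
    have hy1 : y ≠ 1 := fun e => by rw [e, orderOf_one] at hy3; norm_num at hy3
    have hc : (t : G) * y * (t : G)⁻¹ * y⁻¹ = 1 := by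
      have hin : (t : G) * y * (t : G)⁻¹ * y⁻¹ ∈ T G ⊓ (P : Subgroup G) := by
        refine ⟨?_, (show (t : G) * y * (t : G)⁻¹ * y⁻¹ ∈ (P : Subgroup G) from
        mul_mem ((Subgroup.mem_normalizer_iff.1 ht y).1 hyP) (inv_mem hyP))⟩
        rw [mul_assoc, mul_assoc, ← mul_assoc y]
        exact mul_mem t.2 ((T_normal (G := G)).conj_mem _ (inv_mem t.2) y)
      have hcop : (Nat.card (T G)).Coprime (Nat.card (P : Subgroup G)) := by
        rw [hT8, hP3]; norm_num
      rwa [Subgroup.inf_eq_bot_of_coprime hcop, Subgroup.mem_bot] at hin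
    refine mem_R.2 (fix_mem_sq h hnc (by rw [← hy3, pow_orderOf_eq_one]) hy1 ?_)
    rw [theta_apply]
    congr 1
    refine Subtype.ext ?_
    rw [MulAut.conjNormal_apply]
    have h1 : (t : G) * y = y * (t : G) := by
      have := mul_inv_eq_one.1 hc
      rwa [mul_inv_eq_iff_eq_mul] at this
    rw [← h1, mul_inv_cancel_right]
  have hn4 : Nat.card (Sylow 3 G) = 4 := by
    obtain ⟨P⟩ : Nonempty (Sylow 3 G) := inferInstance
    set N := Subgroup.normalizer ((P : Subgroup G) : Set G) with hN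
    have hi : N.index = Nat.card (Sylow 3 G) := P.card_eq_index_normalizer.symm
    have hRN : R G ≤ N := fun r hr => by
      refine Subgroup.centralizer_le_normalizer _ (Subgroup.mem_centralizer_iff.2 fun y _ => ?_)
      exact mul_inv_eq_iff_eq_mul.1 (hRc y r hr)
    have h2 : 2 ∣ Nat.card N := hR2 ▸ Subgroup.card_dvd_of_le hRN
    have h3 : 3 ∣ Nat.card N := hP3 P ▸ Subgroup.card_dvd_of_le Subgroup.le_normalizer
    have hne : N ≠ ⊤ := by
      intro e
      obtain ⟨t, ht⟩ : ∃ t : T G, t ∉ sq (T G) := by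
        by_contra! hall
        have := (sq_spec hab T_pgroup hnc).1
        rw [show sq (T G) = ⊤ from eq_top_iff.2 fun t _ => hall t, Subgroup.index_top] at this
        norm_num at this
      exact ht (mem_R.1 (hnorm P t (show (t : G) ∈ N from e.symm ▸ Subgroup.mem_top (t : G))))
    have hmod : Nat.card (Sylow 3 G) % 3 = 1 := card_sylow_modEq_one 3 G
    have hi1 : N.index ≠ 1 := fun e => hne (Subgroup.index_eq_one.1 e)
    have h6 : 6 ∣ Nat.card N := Nat.Coprime.mul_dvd_of_dvd_of_dvd (by norm_num : Nat.Coprime 2 3) h2 h3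
    have hmul := N.card_mul_index
    obtain ⟨c, hc⟩ := h6
    rw [hc] at hmul
    rw [hi] at hi1 hmul
    obtain ⟨s, hs⟩ : Nat.card (Sylow 3 G) ∣ 8 := by
      rcases hG with e | e <;> rw [e] at hmul
      · exact (show Nat.card (Sylow 3 G) ∣ 4 from ⟨c, by nlinarith⟩).trans (by norm_num)
      · exact ⟨c, by nlinarith⟩
    have hle : Nat.card (Sylow 3 G) ≤ 8 := Nat.le_of_dvd (by norm_num) ⟨s, hs⟩
    interval_cases hh : Nat.card (Sylow 3 G) <;> omega
  let φ : G →* Equiv.Perm (Fin 4) :=
    ((Finite.equivFinOfCardEq hn4).permCongrHom.toMonoidHom).comp (MulAction.toPermHom G (Sylow 3 G))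
  have hφ : ∀ g : G, g ∈ φ.ker ↔ ∀ P : Sylow 3 G, g • P = P := by
    intro g
    rw [MonoidHom.mem_ker]
    constructor
    · intro e P
      have e' : MulAction.toPermHom G (Sylow 3 G) g = 1 :=
        (Finite.equivFinOfCardEq hn4).permCongrHom.injective (e.trans (map_one _).symm)
      exact congrArg (fun p : Equiv.Perm (Sylow 3 G) => p P) e'
    · intro e
      show (Finite.equivFinOfCardEq hn4).permCongrHom _ = 1
      rw [show MulAction.toPermHom G (Sylow 3 G) g = 1 from Equiv.ext e, map_one]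
  have hk : φ.ker = R G := by
    refine le_antisymm ?_ fun r hr => (hφ r).2 fun P => ?_
    · have hle : φ.ker ≤ T G := le_T_of_no_three h fun y hy hy3 => by
        have hall : ∀ P : Sylow 3 G, (P : Subgroup G) = Subgroup.zpowers y := by
          intro P
          have h1 : y ∈ Subgroup.normalizer ((P : Subgroup G) : Set G) :=
            Sylow.smul_eq_iff_mem_normalizer.1 ((hφ y).1 hy P)
          have h2 : Subgroup.zpowers y ≤ (P : Subgroup G) := by
            have hp : IsPGroup 3 (Subgroup.zpowers y) :=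
              IsPGroup.of_card (n := 1) (by rw [Nat.card_zpowers, hy3, pow_one])
            have := hp.inf_normalizer_sylow P
            intro z hz
            exact (this.le ⟨hz, Subgroup.zpowers_le.2 h1 hz⟩).2
          exact (Subgroup.eq_of_le_of_card_ge h2 (by rw [Nat.card_zpowers, hy3, hP3])).symm
        haveI : Subsingleton (Sylow 3 G) := ⟨fun P Q => Sylow.ext ((hall P).trans (hall Q).symm)⟩
        have : Nat.card (Sylow 3 G) ≤ 1 := Finite.card_le_one_iff_subsingleton.2 inferInstance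
        omega
      intro g hg
      obtain ⟨P⟩ : Nonempty (Sylow 3 G) := inferInstance
      exact hnorm P ⟨g, hle hg⟩ (Sylow.smul_eq_iff_mem_normalizer.1 ((hφ g).1 hg P))
    · refine Sylow.smul_eq_iff_mem_normalizer.2 ?_
      exact Subgroup.centralizer_le_normalizer _ (Subgroup.mem_centralizer_iff.2 fun y _ =>
        mul_inv_eq_iff_eq_mul.1 (hRc y r hr))
  have hrange : Nat.card φ.range * 2 = Nat.card G := by
    have := φ.ker.card_mul_index
    rw [Subgroup.index_ker, hk, hR2] at this
    omega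
  have h24 : Nat.card (Equiv.Perm (Fin 4)) = 24 := by
    rw [Nat.card_eq_fintype_card, Fintype.card_perm, Fintype.card_fin]; rfl
  rcases hG with e | e
  · left
    have hr : φ.range = alternatingGroup (Fin 4) := by
      refine Equiv.Perm.eq_alternatingGroup_of_index_eq_two ?_
      have := φ.range.card_mul_index
      rw [h24] at this
      rw [e] at hrange
      rw [show Nat.card φ.range = 12 by omega] at this
      omega
    refine ⟨φ.codRestrict _ fun g => hr.le ⟨g, rfl⟩, fun y => ?_, ?_⟩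
    · obtain ⟨g, hg⟩ := hr.ge y.2
      exact ⟨g, Subtype.ext hg⟩
    · rw [MonoidHom.ker_codRestrict, hk]
  · right
    refine ⟨φ, MonoidHom.range_eq_top.1 (Subgroup.eq_top_of_card_eq _ ?_), hk⟩
    rw [h24]
    omega

/-- A normal subgroup with cyclic 2-subgroups and quotient one of the three groups is the subgroup
of squares of the 2-core. -/
theorem eq_R (h : Setting G) (hnc : ¬ IsCyclic (T G)) {N : Subgroup G}
    [hN : N.Normal] (hcyc : ∀ P : Subgroup N, IsPGroup 2 P → IsCyclic P)
    {Q : Type*} [Group Q] (hQ : Good Q) (f : G →* Q) (hf : Function.Surjective f) (hfk : f.ker = N) :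
    N = R G := by
  haveI : Fact (Nat.Prime 2) := ⟨Nat.prime_two⟩
  haveI := h.solvable
  obtain ⟨hQ1, -, hQ3, hQ4⟩ := hQ
  haveI : Finite Q := Finite.of_surjective f hf
  have hle : N ≤ T G := by
    have hs : Setting N := ⟨inferInstance, by
      apply Subgroup.map_injective N.subtype_injective
      rw [Subgroup.map_bot, ← le_bot_iff]
      exact (FittingCores.pPrimeCore_map_subtype_le 2 hN).trans h.core.le,
      fun P hP A _ => hcyc _ ((hP.to_subgroup A).map P.subtype) |> fun hc =>
        (A.equivMapOfInjective P.subtype P.subtype_injective).isCyclic.2 hc⟩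
    have htop : T N = ⊤ := T_eq_top_of_cyclic hs (hcyc _ T_pgroup)
    refine eq_T_of_pgroup ?_
    have h2 : IsPGroup 2 (T N) := T_pgroup
    rw [htop] at h2
    exact h2.of_equiv Subgroup.topEquiv
  haveI hTn : ((T G).map f).Normal := (T_normal (G := G)).map f hf
  have hPmap : IsPGroup 2 ((T G).map f) := T_pgroup.map f
  have hsq : ∀ t : T G, f (t : G) ^ 2 = 1 := by
    intro t
    by_contra h2
    obtain ⟨k, hk⟩ := hPmap ⟨f (t : G), ⟨t, t.2, rfl⟩⟩
    have hord : ∀ y : Q, y ∈ (T G).map f → y ^ 3 = 1 → y = 1 := by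
      intro y hy hy3
      obtain ⟨j, hj⟩ := hPmap ⟨y, hy⟩
      exact orderOf_eq_one_iff.1 (Nat.eq_one_of_dvd_coprimes
        ((by norm_num : Nat.Coprime 3 2).pow_right j) (orderOf_dvd_of_pow_eq_one hy3)
        (orderOf_dvd_of_pow_eq_one (congrArg Subtype.val hj)))
    rcases hQ1 _ h2 with h3 | ⟨g, h3, hne⟩
    · exact h2 (by rw [hord _ ⟨t, t.2, rfl⟩ h3, one_pow])
    · exact hne (hord _ (mul_mem ⟨t, t.2, rfl⟩ (hTn.conj_mem _ ⟨t, t.2, rfl⟩ g)) h3)
  have hRN : R G ≤ N := by
    rw [R, sq, MonoidHom.map_closure, Subgroup.closure_le]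
    rintro _ ⟨_, ⟨t, rfl⟩, rfl⟩
    rw [SetLike.mem_coe, ← hfk, MonoidHom.mem_ker]
    show f ((t : G) ^ 2) = 1
    rw [map_pow]
    exact hsq t
  have hTcard : Nat.card ((T G).map f) * Nat.card N = Nat.card (T G) := by
    rw [← Subgroup.relIndex_ker (T G) f, hfk, ← Subgroup.relIndex_bot_left N,
      ← Subgroup.relIndex_bot_left (T G), mul_comm]
    exact Subgroup.relIndex_mul_relIndex _ _ _ bot_le hle
  have h4 := (R_spec h hnc).2
  refine (Subgroup.eq_of_le_of_card_ge hRN ?_).symm
  by_contra hgt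
  push Not at hgt
  obtain ⟨d, hd⟩ := Subgroup.card_dvd_of_le hRN
  have hd2 : 2 ≤ d := by
    by_contra h2
    interval_cases d <;> omega
  have hpos : 0 < Nat.card (R G) := Nat.card_pos
  have hmd : Nat.card ((T G).map f) * d = 4 := by
    apply Nat.eq_of_mul_eq_mul_left hpos
    rw [hd] at hTcard
    linarith
  have hmd' : Nat.card ((T G).map f) = 1 ∨ Nat.card ((T G).map f) = 2 := by
    have hm : Nat.card ((T G).map f) * 2 ≤ 4 := by
      calc _ ≤ Nat.card ((T G).map f) * d := Nat.mul_le_mul_left _ hd2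
        _ = 4 := hmd
    have := Nat.card_pos (α := ((T G).map f))
    omega
  rcases hmd' with h1 | h1
  · refine hnc ?_
    rw [h1, one_mul] at hTcard
    rw [← Subgroup.eq_of_le_of_card_ge hle hTcard.ge]
    have hc := hcyc ⊤ ((T_pgroup.to_le hle).to_subgroup ⊤)
    exact Subgroup.topEquiv.isCyclic.1 hc
  · obtain ⟨z, hz1, hz⟩ := (Nat.card_eq_two_iff' (1 : (T G).map f)).1 h1
    have hz1' : (z : Q) ≠ 1 := fun e => hz1 (Subtype.ext e)
    have hcent : ∀ g : Q, g * (z : Q) = (z : Q) * g := fun g => by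
      have := congrArg Subtype.val (hz ⟨g * z * g⁻¹, hTn.conj_mem _ z.2 g⟩ fun e => hz1' (by
        have := congrArg Subtype.val e
        simpa using this))
      exact mul_inv_eq_iff_eq_mul.1 this
    rcases hQ3 with hQ4' | hQ3
    · -- the quotient is a 2-group, so the group is
      have hQp : IsPGroup 2 Q := IsPGroup.of_card (n := 2) (by rw [hQ4']; norm_num)
      have hGp : IsPGroup 2 (⊤ : Subgroup G) := by
        intro g
        obtain ⟨g, -⟩ := g
        obtain ⟨i, hi⟩ := hQp (f g)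
        have h5 : g ^ 2 ^ i ∈ N := by rw [← hfk, MonoidHom.mem_ker, map_pow, hi]
        obtain ⟨j, hj⟩ := T_pgroup (G := G) ⟨_, hle h5⟩
        refine ⟨i + j, Subtype.ext ?_⟩
        rw [SubgroupClass.coe_pow, pow_add, pow_mul, Subgroup.coe_one]
        exact congrArg Subtype.val hj
      have htop : T G = ⊤ := top_le_iff.1 (eq_T_of_pgroup hGp)
      rw [htop, Subgroup.map_top_of_surjective f hf, Subgroup.card_top, hQ4'] at h1
      norm_num at h1
    · obtain ⟨g, hg⟩ := hQ3 _ hz1'
      exact hg (hcent g)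

end Core

end Cfsg.Agent.FrobQuot
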