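import Cfsg.Agent.Lib.FGStruct.Zassenhaus.Quot
import Cfsg.Agent.Lib.Solvable.FixedPointFree
import Cfsg.Agent.Lib.Solvable.Frobenius

/-!
Solvable groups all whose abelian subgroups are cyclic, odd Sylow subgroups cyclic and Sylow
2-subgroups not: a unique normal subgroup with cyclic Sylow subgroups and quotient the Klein
four-group, `A₄` or `S₄`.
-/

set_option autoImplicit false
set_option linter.style.haveILetI false

namespace Cfsg.Agent.FrobQuot

theorem abCyclic_of_injective {X Y : Type*} [Group X] [Group Y] (h : AbCyc.AbCyclic Y) (f : X →* Y)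
    (hf : Function.Injective f) : AbCyc.AbCyclic X := by
  intro A hA
  haveI : IsMulCommutative (A.map f) := by
    refine ⟨⟨fun a b => Subtype.ext ?_⟩⟩
    obtain ⟨x, hx, ha⟩ := a.2
    obtain ⟨y, hy, hb⟩ := b.2
    show (a : Y) * b = b * a
    rw [← ha, ← hb, ← map_mul, ← map_mul]
    exact congrArg _ (congrArg Subtype.val (mul_comm' (⟨x, hx⟩ : A) ⟨y, hy⟩))
  exact (A.equivMapOfInjective f hf).isCyclic.2 (h (A.map f) inferInstance)

/-- Frobenius complements have all abelian subgroups cyclic. -/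
theorem abCyclic_of_complement {G L : Type*} [Group G] [Group L] [Finite L] {H : Subgroup L}
    (hH : Cfsg.IsFrobeniusComplement H) (e : G ≃* H) : AbCyc.AbCyclic G := by
  obtain ⟨N, -, hNn, hN1, -, hfpf, -⟩ := FrobeniusStruct.exists_kernel hH
  haveI := hNn
  exact abCyclic_of_injective
    (FpfStruct.abCyclic hN1 (Subgroup.le_normalizer_of_normal (K := H) (H := N)) hfpf)
    e.toMonoidHom e.injective

variable {G : Type*} [Group G] [Finite G]

theorem cyclic_of_odd (hab : AbCyc.AbCyclic G) {p : ℕ} [Fact p.Prime] (hp : p ≠ 2) {P : Subgroup G}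
    (hP : IsPGroup p P) : IsCyclic P :=
  ((AbCyc.structure_of_pGroup (hab.subgroup P) hP)).resolve_right fun h => hp h.1

variable (G) in
/-- The odd core. -/
abbrev O : Subgroup G := Cfsg.pPrimeCore 2 G

instance O_normal : (O G).Normal := FittingCores.pPrimeCore_normal 2

theorem mk_injective_on_two {P : Subgroup G} (hP : IsPGroup 2 P) :
    Function.Injective ((QuotientGroup.mk' (O G)).comp P.subtype) := by
  haveI : Fact (Nat.Prime 2) := ⟨Nat.prime_two⟩
  refine (injective_iff_map_eq_one _).2 fun x hx => ?_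
  obtain ⟨k, hk⟩ := hP x
  have h1 : (x : G) ∈ O G := (QuotientGroup.eq_one_iff _).1 hx
  exact Subtype.ext (orderOf_eq_one_iff.1 (Nat.eq_one_of_dvd_coprimes
    ((FittingCores.pPrimeCore_coprime (G := G) 2).pow_right k) (Subgroup.orderOf_dvd_natCard _ h1)
    (orderOf_dvd_of_pow_eq_one (congrArg Subtype.val hk))))

theorem setting (hsol : Group.IsSolvable G) (hab : AbCyc.AbCyclic G) : Setting (G ⧸ O G) := by
  haveI : Fact (Nat.Prime 2) := ⟨Nat.prime_two⟩
  haveI := hsol
  refine ⟨inferInstance, FittingCores.pPrimeCore_quotient_eq_bot 2 _ rfl, fun P hP => ?_⟩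
  obtain ⟨Sb, hPS⟩ := hP.exists_le_sylow
  obtain ⟨S, rfl⟩ := Sylow.mapSurjective_surjective (QuotientGroup.mk'_surjective (O G)) 2 Sb
  rw [Sylow.coe_mapSurjective] at hPS
  let f := (QuotientGroup.mk' (O G)).comp (S : Subgroup G).subtype
  have hfi : Function.Injective f := mk_injective_on_two S.isPGroup'
  have hr : P ≤ f.range := by rwa [MonoidHom.range_comp, Subgroup.range_subtype]
  exact abCyclic_of_injective (abCyclic_of_injective (hab.subgroup (S : Subgroup G))
    (MonoidHom.ofInjective hfi).symm.toMonoidHom (MonoidHom.ofInjective hfi).symm.injective)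
    (Subgroup.inclusion hr) (Subgroup.inclusion_injective hr)

theorem not_cyclic (hsol : Group.IsSolvable G) (hab : AbCyc.AbCyclic G) (hZ : ¬ IsZGroup G) :
    ¬ IsCyclic (T (G ⧸ O G)) := by
  intro hc
  haveI : Fact (Nat.Prime 2) := ⟨Nat.prime_two⟩
  have htop := T_eq_top_of_cyclic (setting hsol hab) hc
  haveI : IsCyclic (G ⧸ O G) := by
    rw [htop] at hc
    exact Subgroup.topEquiv.isCyclic.1 hc
  refine hZ ⟨fun p hp P => ?_⟩
  haveI := Fact.mk hp
  rcases eq_or_ne p 2 with rfl | h2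
  · exact isCyclic_of_injective _ (mk_injective_on_two P.isPGroup')
  · exact cyclic_of_odd hab h2 P.isPGroup'

variable (G) in
/-- The distinguished normal subgroup. -/
def N₀ : Subgroup G := (R (G ⧸ O G)).comap (QuotientGroup.mk' (O G))

instance N₀_normal : (N₀ G).Normal := Subgroup.Normal.comap inferInstance _

theorem N₀_zgroup (hsol : Group.IsSolvable G) (hab : AbCyc.AbCyclic G) (hZ : ¬ IsZGroup G) :
    IsZGroup (N₀ G) := by
  refine ⟨fun p hp P => ?_⟩
  haveI := Fact.mk hp
  rcases eq_or_ne p 2 with rfl | h2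
  · haveI := (R_spec (setting hsol hab) (not_cyclic hsol hab hZ)).1
    have hP : IsPGroup 2 ((P : Subgroup (N₀ G)).map (N₀ G).subtype) := P.isPGroup'.map _
    have hinj := mk_injective_on_two hP
    let f : (P : Subgroup (N₀ G)) →* R (G ⧸ O G) :=
      ((QuotientGroup.mk' (O G)).comp ((N₀ G).subtype.comp (P : Subgroup (N₀ G)).subtype)).codRestrict _
        fun x => (x : N₀ G).2
    refine isCyclic_of_injective f fun x y h => ?_
    have h1 := @hinj ⟨_, Subgroup.mem_map_of_mem _ x.2⟩ ⟨_, Subgroup.mem_map_of_mem _ y.2⟩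
      (congrArg Subtype.val h)
    exact Subtype.ext (Subtype.ext (congrArg (fun z : ((P : Subgroup (N₀ G)).map (N₀ G).subtype) => (z : G)) h1))
  · have := cyclic_of_odd (hab.subgroup (N₀ G)) h2 P.isPGroup'
    exact this

theorem N₀_quot (hsol : Group.IsSolvable G) (hab : AbCyc.AbCyclic G) (hZ : ¬ IsZGroup G) :
    (∃ f : G →* DihedralGroup 2, Function.Surjective f ∧ f.ker = N₀ G) ∨
      (∃ f : G →* alternatingGroup (Fin 4), Function.Surjective f ∧ f.ker = N₀ G) ∨
      (∃ f : G →* Equiv.Perm (Fin 4), Function.Surjective f ∧ f.ker = N₀ G) := by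
  have hs := setting hsol hab
  have hnc := not_cyclic hsol hab hZ
  have key : ∀ {Q : Type} [Group Q] (f : (G ⧸ O G) →* Q), Function.Surjective f → f.ker = R (G ⧸ O G) →
      ∃ g : G →* Q, Function.Surjective g ∧ g.ker = N₀ G := fun f hf hk =>
    ⟨f.comp (QuotientGroup.mk' (O G)), hf.comp (QuotientGroup.mk'_surjective _), by
      rw [← MonoidHom.comap_ker, hk]; rfl⟩
  by_cases hT : T (G ⧸ O G) = ⊤
  · obtain ⟨f, hf, hk⟩ := quot_two_group hs hnc hT
    exact Or.inl (key f hf hk)
  · rcases quot_three hs hnc hT with ⟨f, hf, hk⟩ | ⟨f, hf, hk⟩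
    · exact Or.inr (Or.inl (key f hf hk))
    · exact Or.inr (Or.inr (key f hf hk))

theorem eq_N₀ (hsol : Group.IsSolvable G) (hab : AbCyc.AbCyclic G) (hZ : ¬ IsZGroup G)
    {N : Subgroup G} [N.Normal] [IsZGroup N] {Q : Type*} [Group Q] (hQ : Good Q)
    (f : G →* Q) (hf : Function.Surjective f) (hfk : f.ker = N) : N = N₀ G := by
  haveI : Finite Q := Finite.of_surjective f hf
  obtain ⟨-, hQ2, -, hQ4⟩ := id hQ
  haveI hmn : ((O G).map f).Normal := (O_normal (G := G)).map f hf
  have hodd : ∀ y ∈ (O G).map f, y ^ 2 = 1 → y = 1 := fun y hy h2 =>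
    orderOf_eq_one_iff.1 (Nat.eq_one_of_dvd_coprimes
      ((FittingCores.pPrimeCore_coprime (G := G) 2).coprime_dvd_left (Subgroup.card_map_dvd _ f))
      (Subgroup.orderOf_dvd_natCard _ hy) (orderOf_dvd_of_pow_eq_one h2))
  have hO : O G ≤ N := by
    intro x hx
    rw [← hfk, MonoidHom.mem_ker]
    have hy : f x ∈ (O G).map f := ⟨x, hx, rfl⟩
    by_contra hne
    have h2 : f x ^ 2 ≠ 1 := fun e => hne (hodd _ hy e)
    have h24 : Nat.card Q ∣ 3 * 8 := by rcases hQ4 with e | e | e <;> rw [e] <;> norm_num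
    have h3 : f x ^ 3 = 1 := by
      rw [← orderOf_dvd_iff_pow_eq_one]
      refine Nat.Coprime.dvd_of_dvd_mul_right ?_ ((orderOf_dvd_natCard _).trans h24)
      have hc : (orderOf (f x)).Coprime 2 :=
        ((FittingCores.pPrimeCore_coprime (G := G) 2).coprime_dvd_left (Subgroup.card_map_dvd _ f)).coprime_dvd_left
          (Subgroup.orderOf_dvd_natCard _ hy)
      exact hc.pow_right 3
    obtain ⟨g, h1, h1'⟩ := hQ2 _ h2 h3
    exact h1' (hodd _ (mul_mem hy (inv_mem (hmn.conj_mem _ hy g))) h1)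
  set Nb := N.map (QuotientGroup.mk' (O G)) with hNb
  haveI : Nb.Normal := Subgroup.Normal.map inferInstance _ (QuotientGroup.mk'_surjective _)
  haveI : IsZGroup Nb :=
    IsZGroup.of_surjective (f := (QuotientGroup.mk' (O G)).subgroupMap N)
      ((QuotientGroup.mk' (O G)).subgroupMap_surjective N)
  haveI : Fact (Nat.Prime 2) := ⟨Nat.prime_two⟩
  have hcomap : Nb.comap (QuotientGroup.mk' (O G)) = N := by
    rw [hNb, Subgroup.comap_map_eq, QuotientGroup.ker_mk', sup_eq_left.2 hO]
  let fb : (G ⧸ O G) →* Q := QuotientGroup.lift (O G) f (hfk.symm ▸ hO)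
  have hk : fb.ker = Nb := by rw [QuotientGroup.ker_lift, hfk]
  have := eq_R (setting hsol hab) (not_cyclic hsol hab hZ) (N := Nb) (fun P hP => hP.isCyclic_of_isZGroup)
    hQ fb (fun q => by obtain ⟨g, hg⟩ := hf q; exact ⟨g, hg⟩) hk
  rw [← hcomap, this]
  rfl

end Cfsg.Agent.FrobQuot
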