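import Cfsg.Agent.Lib.FGStruct.Zassenhaus.Core
import Cfsg.Agent.Lib.FGStruct.Zassenhaus.Planar
import Cfsg.Agent.Lib.Solvable.FixedPointFree

/-!
Groups with a fixed-point-free linear representation.
-/

set_option autoImplicit false
set_option linter.style.haveILetI false

namespace Cfsg.Agent.Zassenhaus

open Module
open scoped MatrixGroups

universe u

/-- No element but one fixes a non-zero vector. -/
def IsFpfHom {G K W : Type*} [Group G] [Field K] [AddCommGroup W] [Module K W]
    (ρ : G →* Module.End K W) : Prop :=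
  ∀ g : G, g ≠ 1 → ∀ w : W, ρ g w = w → w = 0

/-- The group has a fixed-point-free representation over an algebraically closed field. -/
def Fpf (G : Type u) [Group G] : Prop :=
  ∃ (n : ℕ) (K : Type) (_ : Field K) (_ : IsAlgClosed K) (ρ : G →* Module.End K (Fin n → K)),
    0 < n ∧ IsFpfHom ρ

theorem Fpf.of_injective {G : Type u} [Group G] (hG : Fpf G) {G' : Type*} [Group G'] (f : G' →* G)
    (hf : Function.Injective f) : Fpf G' := by
  obtain ⟨n, K, iF, iA, ρ, hn, hρ⟩ := hG
  exact ⟨n, K, iF, iA, ρ.comp f, hn, fun g hg => hρ (f g) ((map_ne_one_iff f hf).2 hg)⟩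

theorem Fpf.subgroup {G : Type u} [Group G] (hG : Fpf G) (H : Subgroup G) : Fpf H :=
  hG.of_injective H.subtype H.subtype_injective

section Rep

variable {G K W : Type*} [Group G] [Field K] [AddCommGroup W] [Module K W]
  {ρ : G →* Module.End K W} (hρ : IsFpfHom ρ)

include hρ

theorem IsFpfHom.eq_one {g : G} {w : W} (hw : w ≠ 0) (h : ρ g w = w) : g = 1 := by
  by_contra hg
  exact hw (hρ g hg w h)

theorem IsFpfHom.involution_apply {s : G} (hs : s ^ 2 = 1) (hs1 : s ≠ 1) (w : W) : ρ s w = -w := by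
  have h : ρ s (ρ s w + w) = ρ s w + w := by
    rw [map_add, ← Module.End.mul_apply, ← map_mul, ← pow_two, hs, map_one, Module.End.one_apply,
      add_comm]
  exact eq_neg_of_add_eq_zero_left (hρ s hs1 _ h)

theorem IsFpfHom.involution_unique [Nontrivial W] {s t : G} (hs : s ^ 2 = 1) (hs1 : s ≠ 1)
    (ht : t ^ 2 = 1) (ht1 : t ≠ 1) : s = t := by
  obtain ⟨w, hw⟩ := exists_ne (0 : W)
  have h : ρ (s * t) w = w := by
    rw [map_mul, Module.End.mul_apply, hρ.involution_apply ht ht1, map_neg,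
      hρ.involution_apply hs hs1, neg_neg]
  have h1 : s * t = 1 := hρ.eq_one hw h
  rw [eq_inv_of_mul_eq_one_left h1]
  exact inv_eq_of_mul_eq_one_right (by rw [← pow_two, ht])

theorem IsFpfHom.two_ne_zero [Nontrivial W] {s : G} (hs : s ^ 2 = 1) (hs1 : s ≠ 1) :
    (2 : K) ≠ 0 := by
  intro h
  obtain ⟨w, hw⟩ := exists_ne (0 : W)
  refine hs1 (hρ.eq_one hw ?_)
  rw [hρ.involution_apply hs hs1, neg_eq_iff_add_eq_zero, ← two_smul K, h, zero_smul]

theorem IsFpfHom.quadratic {x : G} (hx : x ^ 3 = 1) (hx1 : x ≠ 1) (w : W) :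
    ρ x (ρ x w) + ρ x w + w = 0 := by
  refine hρ x hx1 _ ?_
  have h3 : ρ x (ρ x (ρ x w)) = w := by
    rw [← Module.End.mul_apply, ← Module.End.mul_apply, ← map_mul, ← map_mul, ← pow_three', hx,
      map_one, Module.End.one_apply]
  rw [map_add, map_add, h3]
  abel

variable [IsAlgClosed K] [FiniteDimensional K W] [Nontrivial W]

theorem IsFpfHom.mem_zpowers_of_commute {a b : G} (hab : Commute a b) {p : ℕ} (hp : p.Prime)
    (ha : a ^ p = 1) (ha1 : a ≠ 1) (hb : b ^ p = 1) : b ∈ Subgroup.zpowers a := by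
  obtain ⟨μ, hμ⟩ := Module.End.exists_eigenvalue (ρ a)
  have hinv : ∀ w ∈ (ρ a).eigenspace μ, ρ b w ∈ (ρ a).eigenspace μ := by
    intro w hw
    rw [Module.End.mem_eigenspace_iff] at hw ⊢
    rw [← Module.End.mul_apply, ← map_mul, hab.eq, map_mul, Module.End.mul_apply, hw, map_smul]
  haveI : Nontrivial ((ρ a).eigenspace μ) :=
    Submodule.nontrivial_iff_ne_bot.2 (Module.End.hasEigenvalue_iff.1 hμ)
  obtain ⟨ν, hν⟩ := Module.End.exists_eigenvalue (LinearMap.restrict (ρ b) hinv)
  obtain ⟨⟨v, hv⟩, hv'⟩ := hν.exists_hasEigenvector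
  have hv0 : v ≠ 0 := fun h => hv'.2 (Subtype.ext h)
  have hav : ρ a v = μ • v := Module.End.mem_eigenspace_iff.1 hv
  have hbv : ρ b v = ν • v := congrArg Subtype.val hv'.apply_eq_smul
  have hpow : ∀ (g : G) (c : K), ρ g v = c • v → ∀ n : ℕ, ρ (g ^ n) v = c ^ n • v := by
    intro g c h n
    induction n with
    | zero => simp
    | succ n ih =>
      rw [pow_succ, map_mul, Module.End.mul_apply, h, map_smul, ih, smul_smul, ← pow_succ']
  have hroot : ∀ (g : G) (c : K), g ^ p = 1 → ρ g v = c • v → c ^ p = 1 := by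
    intro g c hg h
    refine smul_left_injective K hv0 ?_
    show c ^ p • v = (1 : K) • v
    rw [← hpow g c h p, hg, map_one, Module.End.one_apply, one_smul]
  have hμ1 : μ ≠ 1 := fun h => ha1 (hρ.eq_one hv0 (by rw [hav, h, one_smul]))
  have hμ' : IsPrimitiveRoot μ p := by
    have : Fact p.Prime := ⟨hp⟩
    exact IsPrimitiveRoot.iff_orderOf.2 (orderOf_eq_prime (hroot a μ ha hav) hμ1)
  haveI : NeZero p := ⟨hp.ne_zero⟩
  obtain ⟨i, -, hi⟩ := hμ'.eq_pow_of_pow_eq_one (hroot b ν hb hbv)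
  have h1 : (a ^ i)⁻¹ * b = 1 := hρ.eq_one hv0 (by
    rw [map_mul, Module.End.mul_apply, hbv, ← hi, ← hpow a μ hav, ← Module.End.mul_apply,
      ← map_mul, inv_mul_cancel, map_one, Module.End.one_apply])
  rw [inv_mul_eq_one] at h1
  exact h1 ▸ Subgroup.pow_mem _ (Subgroup.mem_zpowers a) i

theorem IsFpfHom.abCyclic [Finite G] : AbCyc.AbCyclic G := by
  intro A hA
  by_contra hnc
  have := hA
  obtain ⟨q, E, hq, hE, hexp⟩ := CoprimeAct.exists_elementary_of_not_isCyclic hnc
  haveI : Nontrivial E := Finite.one_lt_card_iff_nontrivial.1 (hE ▸ Nat.one_lt_pow (by norm_num) hq.one_lt)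
  obtain ⟨e, he⟩ := exists_ne (1 : E)
  have hpow : ∀ f : E, (((f : A) : G)) ^ q = 1 := fun f => by
    simpa using congrArg (fun t : E => ((t : A) : G)) (hexp f)
  have he1 : ((e : A) : G) ≠ 1 := fun h => he (Subtype.ext (Subtype.ext h))
  have hle : ∀ f : E, f ∈ Subgroup.zpowers e := fun f => by
    obtain ⟨i, hi⟩ := Subgroup.mem_zpowers_iff.1 (hρ.mem_zpowers_of_commute
      (congrArg Subtype.val (mul_comm' (e : A) (f : A)) :
        Commute ((e : A) : G) ((f : A) : G)) hq (hpow e) he1 (hpow f))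
    exact Subgroup.mem_zpowers_iff.2 ⟨i, Subtype.ext (Subtype.ext (by simpa using hi))⟩
  have h1 := Nat.le_of_dvd hq.pos (orderOf_dvd_of_pow_eq_one (hexp e))
  rw [orderOf_eq_card_of_forall_mem_zpowers hle, hE] at h1
  exact absurd h1 (not_le.2 (lt_self_pow₀ hq.one_lt one_lt_two))

/-- Two elements of order three. -/
theorem IsFpfHom.pair [Finite G] {z : G} (hz : z ^ 2 = 1) (hz1 : z ≠ 1) {x t : G} (hx : x ^ 3 = 1)
    (ht : t ^ 3 = 1) (hnc : ¬ Commute x t) :
    (x * t) ^ 2 ∈ Subgroup.zpowers z ∨ (x * t⁻¹) ^ 2 ∈ Subgroup.zpowers z ∨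
      ((x * t) ^ 5 ∈ Subgroup.zpowers z ∧ (x * t⁻¹) ^ 5 ∈ Subgroup.zpowers z ∧
        (x * t * x * t⁻¹) ^ 2 ∈ Subgroup.zpowers z ∧ (x * t⁻¹ * x * t) ^ 2 ∈ Subgroup.zpowers z) := by
  have hx1 : x ≠ 1 := fun h => hnc (h ▸ Commute.one_left t)
  have ht1 : t ≠ 1 := fun h => hnc (h ▸ Commute.one_right x)
  set c : Module.End K W := ρ x * ρ t + ρ t * ρ x + ρ x + ρ t with hc
  obtain ⟨γ, hγ⟩ := Module.End.exists_eigenvalue c
  have hinv : ∀ w ∈ c.eigenspace γ, ρ x w ∈ c.eigenspace γ := by
    intro w hw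
    rw [Module.End.mem_eigenspace_iff] at hw ⊢
    have q1 := hρ.quadratic hx hx1 (ρ t w)
    have q2 := hρ.quadratic hx hx1 w
    have q3 : ρ t (ρ x (ρ x w)) + ρ t (ρ x w) + ρ t w = 0 := by
      rw [← map_add, ← map_add, q2, map_zero]
    rw [← map_smul, ← hw]
    simp only [hc, LinearMap.add_apply, Module.End.mul_apply, map_add]
    linear_combination (norm := abel) (1 : ℤ) • q3 - (1 : ℤ) • q1
  haveI : Nontrivial (c.eigenspace γ) :=
    Submodule.nontrivial_iff_ne_bot.2 (Module.End.hasEigenvalue_iff.1 hγ)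
  obtain ⟨ω, hω⟩ := Module.End.exists_eigenvalue (LinearMap.restrict (ρ x) hinv)
  obtain ⟨⟨v, hv⟩, hv'⟩ := hω.exists_hasEigenvector
  have hv0 : v ≠ 0 := fun h => hv'.2 (Subtype.ext h)
  have hxv : ρ x v = ω • v := congrArg Subtype.val hv'.apply_eq_smul
  have hcv : ρ x (ρ t v) + ρ t (ρ x v) + ρ x v + ρ t v = γ • v := Module.End.mem_eigenspace_iff.1 hv
  have hω2 : ω * ω + ω + 1 = 0 := by
    have := hρ.quadratic hx hx1 v
    rw [hxv, map_smul, hxv, smul_smul, ← add_smul] at this
    refine (smul_eq_zero.1 ?_).resolve_right hv0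
    rw [add_smul _ (1 : K), one_smul]
    exact this
  have hxtv : ρ x (ρ t v) = (γ - ω) • v + (ω * ω) • ρ t v := by
    rw [hxv, map_smul] at hcv
    rw [show ω * ω = -(ω + 1) by linear_combination hω2, sub_smul, ← hcv, neg_smul, add_smul, one_smul]
    abel
  have httv : ρ t (ρ t v) = -v - ρ t v := by
    have := hρ.quadratic ht ht1 v
    linear_combination (norm := abel) (1 : ℤ) • this
  let j : (Fin 2 → K) →ₗ[K] W := Fintype.linearCombination K ![v, ρ t v]
  have hj : ∀ y : Fin 2 → K, j y = y 0 • v + y 1 • ρ t v := fun y => by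
    simp [j, Fintype.linearCombination_apply, Fin.sum_univ_two]
  have hjinj : Function.Injective j := by
    refine (injective_iff_map_eq_zero j).2 fun y hy => ?_
    rw [hj] at hy
    have h1 : y 1 = 0 := by
      by_contra h1
      have htv : ρ t v = (-(y 1)⁻¹ * y 0) • v := by
        rw [mul_smul, neg_smul, ← smul_neg, eq_inv_smul_iff₀ h1]
        exact (neg_eq_of_add_eq_zero_right hy).symm
      refine hnc ?_
      have h2 : ρ ((t * x)⁻¹ * (x * t)) v = v := by
        have h3 : ρ (x * t) v = ρ (t * x) v := by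
          simp only [map_mul, Module.End.mul_apply, htv, hxv, map_smul, smul_smul, mul_comm ω]
        rw [map_mul, Module.End.mul_apply, h3, ← Module.End.mul_apply, ← map_mul, inv_mul_cancel,
          map_one, Module.End.one_apply]
      exact (inv_mul_eq_one.1 (hρ.eq_one hv0 h2)).symm
    rw [h1, zero_smul, add_zero, smul_eq_zero] at hy
    ext i
    fin_cases i
    exacts [hy.resolve_right hv0, h1]
  set H := Subgroup.closure ({x, t} : Set G) with hH
  let P : G → Prop := fun g => ∃ M : SL(2, K), ∀ y : Fin 2 → K,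
    ρ g (j y) = j (Matrix.mulVec (M : Matrix (Fin 2) (Fin 2) K) y)
  have hP1 : P 1 := ⟨1, fun y => by rw [map_one, Module.End.one_apply, coe_one', Matrix.one_mulVec]⟩
  have hPmul : ∀ a b, P a → P b → P (a * b) := fun a b ⟨A, hA⟩ ⟨B, hB⟩ => ⟨A * B, fun y => by
    rw [map_mul, Module.End.mul_apply, hB, hA, Matrix.mulVec_mulVec, coe_mul']⟩
  have hPpow : ∀ a, P a → ∀ n : ℕ, P (a ^ n) := fun a ha n => by
    induction n with
    | zero => rw [pow_zero]; exact hP1
    | succ n ih => rw [pow_succ]; exact hPmul _ _ ih ha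
  have hPH : ∀ g ∈ H, P g := by
    intro g hg
    induction hg using Subgroup.closure_induction with
    | one => exact hP1
    | mul a b _ _ ha hb => exact hPmul a b ha hb
    | inv a _ ha =>
      have hn : a⁻¹ = a ^ (orderOf a - 1) := inv_eq_of_mul_eq_one_right (by
        rw [← pow_succ', Nat.sub_add_cancel (orderOf_pos a), pow_orderOf_eq_one])
      rw [hn]
      exact hPpow a ha _
    | mem y hy =>
      rcases hy with rfl | rfl
      · refine ⟨⟨!![ω, γ - ω; 0, ω * ω], by
          rw [Matrix.det_fin_two_of]; linear_combination (ω - 1) * hω2⟩, fun w => ?_⟩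
        simp only [hj, map_add, map_smul, hxv, hxtv, Matrix.mulVec, dotProduct, Fin.sum_univ_two,
          Matrix.of_apply, Matrix.cons_val', Matrix.cons_val_zero, Matrix.cons_val_one,
          Matrix.cons_val_fin_one, zero_mul, zero_add, add_smul, smul_add, smul_smul, mul_comm (w 1)]
        rw [mul_comm (w 0)]
        abel
      · refine ⟨⟨!![0, -1; 1, -1], by rw [Matrix.det_fin_two_of]; ring⟩, fun w => ?_⟩
        simp only [hj, map_add, map_smul, httv, Matrix.mulVec, dotProduct, Fin.sum_univ_two,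
          Matrix.of_apply, Matrix.cons_val', Matrix.cons_val_zero, Matrix.cons_val_one,
          Matrix.cons_val_fin_one, zero_mul, zero_add, one_mul, neg_mul, add_smul, neg_smul,
          smul_sub, smul_neg]
        abel
  choose M hM using fun h : H => hPH h.1 h.2
  have huniq : ∀ (h : H) (A : SL(2, K)), (∀ y, ρ (h : G) (j y) =
      j (Matrix.mulVec (A : Matrix (Fin 2) (Fin 2) K) y)) → M h = A := fun h A hA =>
    Subtype.ext (Matrix.toLin'.injective (LinearMap.ext fun y => by
      rw [Matrix.toLin'_apply, Matrix.toLin'_apply]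
      exact hjinj ((hM h y).symm.trans (hA y))))
  let ψ : H →* SL(2, K) := MonoidHom.mk' M fun a b => huniq _ _ fun y => by
    rw [Subgroup.coe_mul, map_mul, Module.End.mul_apply, hM b, hM a, Matrix.mulVec_mulVec, coe_mul']
  have hfree : ∀ (h : H) (y : Fin 2 → K), y ≠ 0 → Matrix.mulVec (mat ψ h) y = y → h = 1 :=
    fun h y hy hfix => Subtype.ext (hρ.eq_one
      (fun h0 => hy (hjinj (h0.trans (map_zero j).symm))) ((hM h y).trans (congrArg j hfix)))
  have hxH : x ∈ H := Subgroup.subset_closure (Set.mem_insert x _)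
  have htH : t ∈ H := Subgroup.subset_closure (Set.mem_insert_of_mem x rfl)
  have key : ∀ h : H, h ∈ scal ψ → (h : G) ∈ Subgroup.zpowers z := by
    rintro h ⟨a, ha⟩
    have h2 : h ^ 2 = 1 := hfree _ (Pi.single 0 1) (by simp) (by
      rw [pow_two, mat_mul]
      show Matrix.mulVec (((ψ h : SL(2, K)) : Matrix (Fin 2) (Fin 2) K) * _) _ = _
      rw [show mat ψ h = _ from ha, ha, smul_mul_assoc, one_mul, smul_smul, ← pow_two, scalar_sq ha,
        one_smul, Matrix.one_mulVec])
    rcases eq_or_ne (h : G) 1 with h1 | h1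
    · rw [h1]; exact one_mem _
    · rw [hρ.involution_unique (by simpa using congrArg Subtype.val h2) h1 hz hz1]
      exact Subgroup.mem_zpowers z
  rcases pair_planar ψ hfree (hρ.two_ne_zero hz hz1) (x := ⟨x, hxH⟩) (t := ⟨t, htH⟩)
    (Subtype.ext hx) (Subtype.ext ht) (fun h => hnc (congrArg Subtype.val h)) with h | h | h
  · exact Or.inl (by simpa using key _ h)
  · exact Or.inr (Or.inl (by simpa using key _ h))
  · exact Or.inr (Or.inr ⟨by simpa using key _ h.1, by simpa using key _ h.2.1,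
      by simpa using key _ h.2.2.1, by simpa using key _ h.2.2.2⟩)

/-- Modulo the involution, two elements of order three behave as in `A₄` or `A₅`. -/
theorem IsFpfHom.triGroup [Finite G] {z : G} (hz : z ^ 2 = 1) (hz1 : z ≠ 1)
    [(Subgroup.zpowers z).Normal] : TriGroup (G ⧸ Subgroup.zpowers z) := by
  set Z := Subgroup.zpowers z
  set π := QuotientGroup.mk' Z with hπ
  have hzc : ∀ g : G, Commute g z := fun g => by
    refine mul_inv_eq_iff_eq_mul.1 (hρ.involution_unique (s := g * z * g⁻¹) ?_ ?_ hz hz1)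
    · rw [conj_pow, hz, mul_one, mul_inv_cancel]
    · rw [Ne, conj_eq_one_iff]; exact hz1
  have hmem : ∀ {g : G}, g ∈ Z → g = 1 ∨ g = z := by
    rintro g ⟨i, rfl⟩
    have hzo : orderOf z = 2 := orderOf_eq_prime hz hz1
    show z ^ i = 1 ∨ z ^ i = z
    rw [← zpow_mod_orderOf, hzo]
    rcases Int.emod_two_eq_zero_or_one i with h | h <;> simp [h]
  have hker : ∀ {g : G}, π g = 1 ↔ g ∈ Z := QuotientGroup.eq_one_iff _
  have hsq : ∀ a : G, a ^ 2 = 1 → π a = 1 := fun a ha => hker.2 (by
    rcases eq_or_ne a 1 with h | h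
    · rw [h]; exact one_mem _
    · rw [hρ.involution_unique ha h hz hz1]; exact Subgroup.mem_zpowers z)
  have lift3 : ∀ γ : G ⧸ Z, γ ^ 3 = 1 → ∃ g : G, g ^ 3 = 1 ∧ π g = γ := by
    intro γ hγ
    obtain ⟨g, rfl⟩ := QuotientGroup.mk'_surjective Z γ
    rw [← map_pow, hker] at hγ
    rcases hmem hγ with h | h
    · exact ⟨g, h, rfl⟩
    · refine ⟨g * z, ?_, ?_⟩
      · rw [(hzc g).mul_pow, h, ← pow_succ', show 3 + 1 = 2 * 2 from rfl, pow_mul, hz, one_pow]
      · rw [map_mul, hker.2 (Subgroup.mem_zpowers z), mul_one]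
  constructor
  · intro γ δ hγ hδ hγ1 hc
    obtain ⟨x, hx, rfl⟩ := lift3 γ hγ
    obtain ⟨t, ht, rfl⟩ := lift3 δ hδ
    have hxt : Commute x t := by
      have h1 : (x * t * x⁻¹) * t⁻¹ ∈ Z := hker.1 (by
        rw [map_mul, map_mul, map_mul, map_inv, map_inv, hc.eq, mul_inv_cancel_right, mul_inv_cancel])
      rcases hmem h1 with h | h
      · exact mul_inv_eq_iff_eq_mul.1 (mul_inv_eq_one.1 h)
      · exfalso
        have h3 := congrArg (· ^ 3) (mul_inv_eq_iff_eq_mul.1 h)
        simp only [conj_pow, ht, mul_one, mul_inv_cancel, ((hzc t).symm).mul_pow] at h3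
        rw [show (3 : ℕ) = 2 + 1 from rfl, pow_succ, hz, one_mul] at h3
        exact hz1 h3.symm
    have hx1 : x ≠ 1 := fun h => hγ1 (by rw [h, map_one])
    obtain ⟨i, hi⟩ := Subgroup.mem_zpowers_iff.1
      (hρ.mem_zpowers_of_commute hxt Nat.prime_three hx hx1 ht)
    exact Subgroup.mem_zpowers_iff.2 ⟨i, by rw [← map_zpow, hi]⟩
  · intro γ δ hγ hδ hc
    obtain ⟨x, hx, rfl⟩ := lift3 γ hγ
    obtain ⟨t, ht, rfl⟩ := lift3 δ hδ
    have hxt : ¬ Commute x t := fun h => hc (h.map π)
    have e : ∀ {g : G} {n : ℕ}, g ^ n ∈ Z → π g ^ n = 1 := fun h => by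
      rw [← map_pow]; exact hker.2 h
    rcases hρ.pair hz hz1 hx ht hxt with h | h | h
    · exact Or.inl (by simpa using e h)
    · exact Or.inr (Or.inl (by simpa using e h))
    · exact Or.inr (Or.inr ⟨by simpa using e h.1, by simpa using e h.2.1,
        by simpa using e h.2.2.1, by simpa using e h.2.2.2⟩)
  · intro γ δ ε hγ hδ hε hγ1 hδ1 hne c1 c2 c3
    obtain ⟨u, rfl⟩ := QuotientGroup.mk'_surjective Z γ
    obtain ⟨v, rfl⟩ := QuotientGroup.mk'_surjective Z δ
    obtain ⟨w, rfl⟩ := QuotientGroup.mk'_surjective Z ε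
    have hsqz : ∀ a : G, π a ^ 2 = 1 → π a ≠ 1 → a ^ 2 = z := fun a h h1 =>
      (hmem (hker.1 ((map_pow π a 2).trans h))).resolve_left fun h' => h1 (hsq a h')
    have hanti : ∀ a b : G, a ^ 2 = z → b ^ 2 = z → Commute (π a) (π b) → π a ≠ π b →
        b * a = z * (a * b) := by
      intro a b ha hb hc hab
      have h1 : (b * a) * (a * b)⁻¹ ∈ Z := hker.1 (by
        rw [map_mul, map_inv, map_mul, map_mul, hc.eq, mul_inv_cancel])
      rcases hmem h1 with h | h
      · exfalso
        have hab' : Commute a b := (mul_inv_eq_one.1 h).symm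
        refine hab (mul_inv_eq_one.1 ?_)
        rw [← map_inv, ← map_mul]
        refine hsq _ ?_
        rw [hab'.inv_right.mul_pow, inv_pow, ha, hb, mul_inv_cancel]
      · exact mul_inv_eq_iff_eq_mul.1 h
    set L := Subgroup.closure ({π u, π v} : Set (G ⧸ Z))
    have huL : π u ∈ L := Subgroup.subset_closure (Set.mem_insert _ _)
    have hvL : π v ∈ L := Subgroup.subset_closure (Set.mem_insert_of_mem _ rfl)
    by_cases hw1 : π w = 1
    · rw [hw1]; exact one_mem _
    by_cases hwu : π u = π w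
    · rw [← hwu]; exact huL
    by_cases hwv : π v = π w
    · rw [← hwv]; exact hvL
    have u2 := hsqz u hγ hγ1
    have v2 := hsqz v hδ hδ1
    have w2 := hsqz w hε hw1
    have a1 := hanti u v u2 v2 c1 hne
    have a2 := hanti u w u2 w2 c2 hwu
    have a3 := hanti v w v2 w2 c3 hwv
    have zz : z * z = 1 := by rw [← pow_two, hz]
    set w' := w * u * v with hw'
    have cu : Commute w' u := by
      show w * u * v * u = u * (w * u * v)
      calc w * u * v * u = w * u * (v * u) := mul_assoc _ _ _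
        _ = w * u * (z * (u * v)) := by rw [a1]
        _ = z * (w * u) * (u * v) := by rw [← mul_assoc, (hzc (w * u)).eq]
        _ = z * (z * (u * w)) * (u * v) := by rw [← a2]
        _ = u * (w * u * v) := by rw [← mul_assoc z z, zz, one_mul]; simp only [mul_assoc]
    have cv : Commute w' v := by
      show w * u * v * v = v * (w * u * v)
      symm
      calc v * (w * u * v) = (v * w) * u * v := by simp only [mul_assoc]
        _ = z * (w * v) * u * v := by rw [a3, ← mul_assoc z z, zz, one_mul]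
        _ = z * w * (v * u) * v := by simp only [mul_assoc]
        _ = w * u * v * v := by
          rw [a1, (hzc w).symm.eq, mul_assoc w z, ← mul_assoc z z, zz, one_mul, ← mul_assoc]
    have hw'2 : π w' ^ 2 = 1 := by
      have e1 : π w' = π w * π u * π v := by rw [hw', map_mul, map_mul]
      rw [e1, Commute.mul_pow (Commute.mul_left c3.symm c1), Commute.mul_pow c2.symm, hε, hγ, hδ,
        one_mul, one_mul]
    by_cases hw'1 : π w' = 1
    · rw [hw', map_mul, map_mul] at hw'1
      rw [mul_assoc] at hw'1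
      rw [eq_inv_of_mul_eq_one_left hw'1]
      exact L.inv_mem (L.mul_mem huL hvL)
    · exfalso
      have hw'z := hsqz w' hw'2 hw'1
      have same : ∀ a : G, a ^ 2 = z → Commute w' a → π w' = π a := fun a ha hc => by
        refine mul_inv_eq_one.1 ?_
        rw [← map_inv, ← map_mul]
        refine hsq _ ?_
        rw [hc.inv_right.mul_pow, inv_pow, hw'z, ha, mul_inv_cancel]
      exact hne ((same u u2 cu).symm.trans (same v v2 cv))

end Rep

end Cfsg.Agent.Zassenhaus
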