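import Mathlib

/-!
Trace identities in `SL(2)`.
-/

set_option autoImplicit false

namespace Cfsg.Agent.Zassenhaus

open Matrix
open scoped MatrixGroups

variable {K : Type*} [Field K]

/-- The trace. -/
def tr2 (A : SL(2, K)) : K := (A : Matrix (Fin 2) (Fin 2) K).trace

/-- The matrix is scalar. -/
def IsScalarSL (A : SL(2, K)) : Prop := ∃ c : K, (A : Matrix (Fin 2) (Fin 2) K) = c • 1

theorem coe_mul' (A B : SL(2, K)) : ((A * B : SL(2, K)) : Matrix (Fin 2) (Fin 2) K) =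
    (A : Matrix (Fin 2) (Fin 2) K) * (B : Matrix (Fin 2) (Fin 2) K) := rfl

theorem coe_inv' (A : SL(2, K)) : ((A⁻¹ : SL(2, K)) : Matrix (Fin 2) (Fin 2) K) =
    (A : Matrix (Fin 2) (Fin 2) K).adjugate := rfl

theorem coe_one' : ((1 : SL(2, K)) : Matrix (Fin 2) (Fin 2) K) = 1 := rfl

theorem tr2_mul_comm (A B : SL(2, K)) : tr2 (A * B) = tr2 (B * A) := by
  simp [tr2, SpecialLinearGroup.coe_mul, trace_mul_comm (A : Matrix (Fin 2) (Fin 2) K)]

theorem tr2_mul_inv (A B : SL(2, K)) : tr2 (A * B⁻¹) = tr2 A * tr2 B - tr2 (A * B) := by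
  simp [tr2, SpecialLinearGroup.coe_mul, SpecialLinearGroup.coe_inv, adjugate_fin_two,
    trace_fin_two, mul_apply, Fin.sum_univ_two]
  ring

theorem tr2_one : tr2 (1 : SL(2, K)) = 2 := by simp [tr2]

theorem tr2_inv (B : SL(2, K)) : tr2 B⁻¹ = tr2 B := by
  have := tr2_mul_inv 1 B
  rw [one_mul, one_mul, tr2_one] at this
  linear_combination this

theorem tr2_mul_sq (A B : SL(2, K)) : tr2 (A * B * B) = tr2 (A * B) * tr2 B - tr2 A := by
  have := tr2_mul_inv (A * B) B⁻¹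
  rw [inv_inv, tr2_inv, mul_inv_cancel_right] at this
  exact this

theorem tr2_sq (A : SL(2, K)) : tr2 (A * A) = tr2 A ^ 2 - 2 := by
  have := tr2_mul_sq 1 A
  rw [one_mul, tr2_one] at this
  linear_combination this

theorem coe_sq (A : SL(2, K)) :
    (A : Matrix (Fin 2) (Fin 2) K) * A = tr2 A • (A : Matrix (Fin 2) (Fin 2) K) - 1 := by
  have hdet := A.det_coe
  rw [det_fin_two] at hdet
  ext i j
  fin_cases i <;> fin_cases j <;>
    simp [tr2, mul_apply, Fin.sum_univ_two, trace_fin_two] <;> grind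

theorem coe_pow_succ {A : SL(2, K)} {n : ℕ} {p q : K}
    (h : ((A ^ n : SL(2, K)) : Matrix (Fin 2) (Fin 2) K) =
      p • (A : Matrix (Fin 2) (Fin 2) K) + q • 1) :
    ((A ^ (n + 1) : SL(2, K)) : Matrix (Fin 2) (Fin 2) K) =
      (p * tr2 A + q) • (A : Matrix (Fin 2) (Fin 2) K) + (-p) • 1 := by
  rw [pow_succ, coe_mul', h, add_mul, smul_mul_assoc, smul_mul_assoc, one_mul,
    coe_sq, smul_sub, smul_smul, add_smul, neg_smul]
  abel

theorem coe_pow_two (A : SL(2, K)) : ((A ^ 2 : SL(2, K)) : Matrix (Fin 2) (Fin 2) K) =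
    tr2 A • (A : Matrix (Fin 2) (Fin 2) K) + (-1 : K) • 1 := by
  rw [pow_two, coe_mul', coe_sq, neg_smul, one_smul, sub_eq_add_neg]

theorem coe_pow_three (A : SL(2, K)) : ((A ^ 3 : SL(2, K)) : Matrix (Fin 2) (Fin 2) K) =
    (tr2 A ^ 2 - 1) • (A : Matrix (Fin 2) (Fin 2) K) + (-tr2 A) • 1 := by
  rw [coe_pow_succ (coe_pow_two A), ← pow_two, ← sub_eq_add_neg]

theorem coe_pow_four (A : SL(2, K)) : ((A ^ 4 : SL(2, K)) : Matrix (Fin 2) (Fin 2) K) =
    (tr2 A ^ 3 - 2 * tr2 A) • (A : Matrix (Fin 2) (Fin 2) K) + (-(tr2 A ^ 2 - 1)) • 1 := by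
  rw [coe_pow_succ (coe_pow_three A)]
  congr 2
  ring

theorem coe_pow_five (A : SL(2, K)) : ((A ^ 5 : SL(2, K)) : Matrix (Fin 2) (Fin 2) K) =
    (tr2 A ^ 4 - 3 * tr2 A ^ 2 + 1) • (A : Matrix (Fin 2) (Fin 2) K) +
      (-(tr2 A ^ 3 - 2 * tr2 A)) • 1 := by
  rw [coe_pow_succ (coe_pow_four A)]
  congr 2
  ring

theorem coeff_eq {A : SL(2, K)} (hA : ¬ IsScalarSL A) {p q c : K}
    (h : p • (A : Matrix (Fin 2) (Fin 2) K) + q • 1 = c • 1) : p = 0 ∧ q = c := by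
  have hp : p = 0 := by
    by_contra hp
    refine hA ⟨p⁻¹ * (c - q), ?_⟩
    rw [mul_smul, sub_smul, ← h, add_sub_cancel_right, smul_smul, inv_mul_cancel₀ hp, one_smul]
  refine ⟨hp, ?_⟩
  rw [hp, zero_smul, zero_add] at h
  simpa using congrFun (congrFun h 0) 0

theorem scalar_sq {A : SL(2, K)} {c : K} (h : (A : Matrix (Fin 2) (Fin 2) K) = c • 1) :
    c ^ 2 = 1 := by
  have hdet := A.det_coe
  rw [h, det_smul, det_one, mul_one, Fintype.card_fin] at hdet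
  exact hdet

theorem tr2_scalar {A : SL(2, K)} {c : K} (h : (A : Matrix (Fin 2) (Fin 2) K) = c • 1) :
    tr2 A = 2 * c := by
  simp [tr2, h]; ring

theorem scalar_one : IsScalarSL (1 : SL(2, K)) := ⟨1, by simp⟩

theorem scalar_mul {A B : SL(2, K)} (hA : IsScalarSL A) (hB : IsScalarSL B) : IsScalarSL (A * B) := by
  obtain ⟨c, hc⟩ := hA
  obtain ⟨d, hd⟩ := hB
  exact ⟨c * d, by rw [coe_mul', hc, hd, smul_mul_assoc, one_mul, smul_smul]⟩

theorem scalar_inv {A : SL(2, K)} (hA : IsScalarSL A) : IsScalarSL A⁻¹ := by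
  obtain ⟨c, hc⟩ := hA
  refine ⟨c, ?_⟩
  rw [coe_inv', hc, adjugate_fin_two]
  ext i j
  fin_cases i <;> fin_cases j <;> simp

theorem scalar_commute {A : SL(2, K)} (hA : IsScalarSL A) (B : SL(2, K)) : Commute A B := by
  obtain ⟨c, hc⟩ := hA
  refine Subtype.ext ?_
  rw [coe_mul', coe_mul', hc, smul_mul_assoc, one_mul,
    mul_smul_comm, mul_one]

end Cfsg.Agent.Zassenhaus
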